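import Cfsg.Agent.Omega.EDel.ThmU
import Cfsg.Agent.Omega.NOThreeL.Sigma.Loc

/-!
# THEOREM U (helper23 #24127): (3), over helper863's `LocIn`

* `XX z l m` : `C_G(z_n : n ≠ l, m)`;
* `FB` : the frame over `B`;
* `FB.locIn` : the input of SIGMA inside `XX z l m`, with Sylow 2-subgroup `B`;
* `FB.false_of` : THEOREM U.
-/

set_option autoImplicit false
set_option linter.unusedSectionVars false

namespace Cfsg.Agent.Omega.EDel.ThmU

open Subgroup Cfsg Cfsg.Agent.ZN Cfsg.Agent.ZN.ChoiceBase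
open Cfsg.Agent.Omega.NO3S.EThree
open Cfsg.Agent.Omega.NO3S.EThree.ExactA (eab_mono eab_sup eab_iff)
open Cfsg.Agent.Omega.NoFF.Basic (comm_symm comm_mono)
open Cfsg.Agent.Omega.NoFF.ThmJQ (MxIn)
open Cfsg.Agent.Omega.ESym.CoreS
open Cfsg.Agent.MinSimple.MinParabolic (IsMinPar)
open Cfsg.Agent.Omega.ML.Final (MLK)
open Cfsg.Agent.Omega.NOThreeL.Sigma (LocIn)

universe u

variable {G : Type u} [Group G]

/-- `X = C_G(z_n : n ≠ l, m)` -/
def XX {ι : Type*} (z : ι → G) (l m : ι) : Subgroup G := centralizer {x | ∃ n, n ≠ l ∧ n ≠ m ∧ z n = x}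

/-- **The frame of THEOREM U over `B`.** -/
structure FB {ι : Type*} (B D ZJ : Subgroup G) (z : ι → G) (Y N : ι → Subgroup G) : Prop where
  fr : Fr (o2 D) D ZJ Y N
  two : IsPGroup 2 B
  BD : B ≤ D
  syl : ¬ 2 ∣ B.relIndex D
  inj : Function.Injective z
  ZJ_eq : ZJ = closure (Set.range z)
  ZB : ZJ ≤ B
  D_eq : D = centralizer (ZJ : Set G)
  Y_eq : ∀ i, Y i = centralizer {x | ∃ n, n ≠ i ∧ z n = x}
  NB : ∀ g ∈ normalizer (B : Set G), ∃ σ : Equiv.Perm ι, Sy (o2 D) Y N g σ ∧ ∀ i, g * z i * g⁻¹ = z (σ i)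
  ch : ∀ l m, l ≠ m → XX z l m ⊓ centralizer (o2 (XX z l m) : Set G) ≤ o2 (XX z l m)
  KX : ∀ l m, l ≠ m → IsKGroup (XX z l m)
  /-- UNI+, only needed when `B` is Sylow in `X` and `N_X(B) ≤ D` -/
  par : ∀ l m, l ≠ m → ¬ 2 ∣ B.relIndex (XX z l m) → XX z l m ⊓ normalizer (B : Set G) ≤ D →
    ∀ P, IsMinPar B P → P ≤ XX z l m → P ≤ centralizer ({z l} : Set G) ∨ P ≤ centralizer ({z m} : Set G)

theorem XX_comm {ι : Type*} (z : ι → G) (l m : ι) : XX z l m = XX z m l := by
  unfold XX
  congr 1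
  ext x
  constructor
  · rintro ⟨n, h1, h2, h3⟩
    exact ⟨n, h2, h1, h3⟩
  · rintro ⟨n, h1, h2, h3⟩
    exact ⟨n, h2, h1, h3⟩

section fb

variable [Finite G] {ι : Type*} [Finite ι] {B D ZJ : Subgroup G} {z : ι → G} {Y N : ι → Subgroup G}
  (h : FB B D ZJ z Y N)
include h

theorem FB.z_mem (i : ι) : z i ∈ ZJ := by
  rw [h.ZJ_eq]
  exact subset_closure ⟨i, rfl⟩

theorem FB.D_range : D = centralizer (Set.range z) := by
  rw [h.D_eq, h.ZJ_eq, centralizer_closure]

theorem FB.DX (l m : ι) : D ≤ XX z l m := by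
  rw [h.D_range]
  exact centralizer_le (by rintro _ ⟨n, -, -, rfl⟩; exact ⟨n, rfl⟩)

theorem FB.X_inf (l m : ι) : XX z l m ⊓ centralizer (ZJ : Set G) = D := by
  rw [← h.D_eq]
  exact inf_eq_right.2 (h.DX l m)

/-- `C_X(z_l) = Y m` -/
theorem FB.X_cent {l m : ι} (hlm : l ≠ m) : XX z l m ⊓ centralizer ({z l} : Set G) = Y m := by
  rw [h.Y_eq]
  ext g
  rw [mem_inf]
  constructor
  · rintro ⟨h1, h2⟩
    rw [mem_centralizer_iff]
    rintro _ ⟨n, hn, rfl⟩
    by_cases hnl : n = l
    · rw [hnl]; exact (mem_centralizer_iff.1 h2) (z l) rfl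
    · exact (mem_centralizer_iff.1 h1) (z n) ⟨n, hnl, hn, rfl⟩
  · intro h1
    refine ⟨?_, ?_⟩
    · rw [XX, mem_centralizer_iff]
      rintro _ ⟨n, -, hn, rfl⟩
      exact (mem_centralizer_iff.1 h1) (z n) ⟨n, hn, rfl⟩
    · rw [mem_centralizer_iff]
      rintro _ rfl
      exact (mem_centralizer_iff.1 h1) (z l) ⟨l, hlm, rfl⟩

theorem FB.YX {l m : ι} (hlm : l ≠ m) : Y m ≤ XX z l m := by
  rw [← h.X_cent hlm]
  exact inf_le_left

/-- `E_{lm} ≤ C(O₂(X))` -/
theorem FB.cent_EI {l m : ι} (hlm : l ≠ m) (hX : ¬ 2 ∣ B.relIndex (XX z l m)) :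
    o2 (XX z l m) ≤ centralizer (EI ZJ Y {l, m} : Set G) := by
  have h1 : o2 (XX z l m) ≤ B := MinSimple.VModule.o2_le_of_sylow h.two hX
  have h2 : o2 (XX z l m) ≤ centralizer (ZJ : Set G) := by
    rw [← h.D_eq]
    exact h1.trans h.BD
  have hle : (⨆ i : ({l, m} : Set ι), Y i : Subgroup G) ≤ XX z l m := by
    have key : ∀ i ∈ ({l, m} : Set ι), Y i ≤ XX z l m := by
      intro i hi
      rcases hi with rfl | hi
      · rw [XX_comm]
        exact h.YX hlm.symm
      · rw [show i = m from hi]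
        exact h.YX hlm
    exact iSup_le fun i => key i.1 i.2
  refine comm_symm (iSup_le fun y => ?_)
  have h3 := cj_mono (y : G) (comm_symm h2)
  rwa [cj_centralizer, cj_eq_of_mem_normalizer (MinSimple.VModule.le_normalizer_o2 _ (hle y.2))] at h3

/-- **The input of SIGMA inside `X = C_G(z_n : n ≠ l, m)`.** -/
theorem FB.locIn (hO : o2 D ≠ ⊥)
    (nl : ∀ R : Subgroup G, R ≠ ⊥ → IsPGroup 2 R → ¬ ∀ j, Y j ≤ normalizer (R : Set G)) :
    ∃ A : Subgroup G, ∃ l m, l ≠ m ∧ LocIn 2 (XX z l m) B ZJ A := by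
  obtain ⟨A, hA, hc, l, m, hlm, hAm, hsyl, hnB⟩ :=
    h.fr.main hO nl h.two h.BD h.syl h.inj h.D_range h.NB
  change ¬ 2 ∣ B.relIndex (XX z l m) at hsyl
  change XX z l m ⊓ normalizer (B : Set G) ≤ D at hnB
  have hAo : ∀ i, A ≤ o2 (Y i) := by
    intro i
    refine (le_inf hA.2.1 (hc i)).trans (MinSimple.VModule.le_o2 (inf_le_left.trans (h.fr.OY i)) (h.fr.two.to_le inf_le_left) ?_)
    exact h.fr.YQ i
  have hsq : ∀ x ∈ ZJ, x ^ 2 = 1 := by
    intro x hx
    have h1 := (eab_iff.1 (h.fr.eab _ (h.fr.ne_univ l)).1).2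
    refine h1 x ?_
    have h2 : ZJ ≤ EI ZJ Y {l} := by
      have := le_iSup (fun y : (⨆ i : ({l} : Set ι), Y i : Subgroup G) => cj (y : G) ZJ) 1
      simp only [OneMemClass.coe_one, cj_one] at this
      exact this
    exact h2 hx
  have hDX : D ≤ XX z l m := h.DX l m
  -- `|ZJ : C_ZJ(P)| ≤ 2`
  have hpar : ∀ P : Subgroup G, ∀ i, (∀ n, n ≠ i → P ≤ centralizer ({z n} : Set G)) →
      (ZJ ⊓ centralizer (P : Set G)).relIndex ZJ ≤ 2 := by
    intro P i hP
    have hZc : ∀ x ∈ ZJ, ∀ y ∈ ZJ, x * y = y * x := by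
      intro x hx y hy
      have h1 : ZJ ≤ centralizer (ZJ : Set G) := by
        rw [← h.D_eq]
        exact h.ZB.trans h.BD
      exact (mem_centralizer_iff.1 (h1 hy) x hx)
    -- every element is in `C` or in `C z_i`
    have hcos : ∀ x ∈ ZJ, x ∈ ZJ ⊓ centralizer (P : Set G) ∨ x * (z i)⁻¹ ∈ ZJ ⊓ centralizer (P : Set G) := by
      intro x hx
      have hx' := hx
      rw [h.ZJ_eq] at hx'
      have hzi : z i ∈ ZJ := h.z_mem i
      have hzi2 : z i * z i = 1 := by rw [← pow_two]; exact hsq _ hzi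
      have hzinv : (z i)⁻¹ = z i := inv_eq_of_mul_eq_one_left hzi2
      have key : ∀ x ∈ closure (Set.range z), x ∈ ZJ ∧ (x ∈ ZJ ⊓ centralizer (P : Set G) ∨
          x * (z i)⁻¹ ∈ ZJ ⊓ centralizer (P : Set G)) := by
        intro x hx
        induction hx using closure_induction with
        | mem x hx =>
          obtain ⟨n, rfl⟩ := hx
          refine ⟨h.z_mem n, ?_⟩
          by_cases hn : n = i
          · right
            rw [hn, mul_inv_cancel]
            exact one_mem _
          · left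
            refine mem_inf.2 ⟨h.z_mem n, ?_⟩
            rw [mem_centralizer_iff]
            intro p hp
            exact (mem_centralizer_iff.1 (hP n hn hp) (z n) rfl).symm
        | one => exact ⟨one_mem _, Or.inl (one_mem _)⟩
        | mul x y _ _ hx hy =>
          refine ⟨mul_mem hx.1 hy.1, ?_⟩
          rcases hx.2 with h1 | h1 <;> rcases hy.2 with h2 | h2
          · exact Or.inl (mul_mem h1 h2)
          · right
            rw [mul_assoc]
            exact mul_mem h1 h2
          · right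
            have e : x * y * (z i)⁻¹ = x * (z i)⁻¹ * y := by
              rw [mul_assoc, mul_assoc, hZc y hy.1 _ (inv_mem hzi)]
            rw [e]
            exact mul_mem h1 h2
          · left
            have e : x * y = (x * (z i)⁻¹) * (y * (z i)⁻¹) := by
              have : (x * (z i)⁻¹) * (y * (z i)⁻¹) = x * y * ((z i)⁻¹ * (z i)⁻¹) := by
                rw [mul_assoc, ← mul_assoc _ y, hZc _ (inv_mem hzi) y hy.1]
                group
              rw [this, hzinv, hzi2, mul_one]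
            rw [e]
            exact mul_mem h1 h2
        | inv x _ hx =>
          have e : x⁻¹ = x := inv_eq_of_mul_eq_one_left (by rw [← pow_two]; exact hsq x hx.1)
          rw [e]
          exact hx
      exact (key x hx').2
    set C := ZJ ⊓ centralizer (P : Set G) with hC
    have hCle : C ≤ ZJ := inf_le_left
    rw [relIndex]
    by_contra hcon
    push Not at hcon
    -- three cosets
    have hfin : Finite (ZJ ⧸ C.subgroupOf ZJ) := inferInstance
    have hcard : (C.subgroupOf ZJ).index = Nat.card (ZJ ⧸ C.subgroupOf ZJ) := index_eq_card _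
    have hsurj : Function.Surjective (fun b : Bool =>
        (QuotientGroup.mk (if b then (1 : ZJ) else ⟨z i, h.z_mem i⟩) : ZJ ⧸ C.subgroupOf ZJ)) := by
      intro q
      induction q using QuotientGroup.induction_on with
      | H x =>
        rcases hcos x x.2 with h1 | h1
        · refine ⟨true, ?_⟩
          simp only [if_true]
          rw [QuotientGroup.eq, mem_subgroupOf]
          simpa using h1
        · refine ⟨false, ?_⟩
          simp only [Bool.false_eq_true, if_false]
          rw [QuotientGroup.eq, mem_subgroupOf]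
          have : ((⟨z i, h.z_mem i⟩ : ZJ)⁻¹ * x : ZJ) = (((x : G) * (z i)⁻¹ : G)) := by
            change (z i)⁻¹ * (x : G) = (x : G) * (z i)⁻¹
            exact hZc _ (inv_mem (h.z_mem i)) _ x.2
          rw [this]
          exact h1
    have h1 := Nat.card_le_card_of_surjective _ hsurj
    rw [Nat.card_eq_fintype_card (α := Bool), Fintype.card_bool, ← hcard] at h1
    omega
  have hXn : ∀ P : Subgroup G, P ≤ XX z l m → ∀ n, n ≠ l → n ≠ m → P ≤ centralizer ({z n} : Set G) := by
    intro P hP n h1 h2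
    exact hP.trans (centralizer_le (by rintro _ rfl; exact ⟨n, h1, h2, rfl⟩))
  refine ⟨A, l, m, hlm, ?_⟩
  exact
    { two := h.two
      TY := h.BD.trans hDX
      syl := hsyl
      ZT := h.ZB
      TZ := h.D_eq ▸ h.BD
      sq := hsq
      nZ := by
        refine hnB.trans ?_
        rw [h.D_eq]
        exact centralizer_le_normalizer _
      ch := fun R hR hRX => by
        rw [h.X_inf] at hR
        have h1 : o2 (XX z l m) ≤ B := MinSimple.VModule.o2_le_of_sylow h.two hsyl
        have hBR : B ≤ R := h.BD.trans hR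
        have h2 : o2 (XX z l m) ≤ o2 R :=
          MinSimple.VModule.le_o2 (h1.trans hBR) (MinSimple.VModule.o2_isPGroup _) (hRX.trans (MinSimple.VModule.le_normalizer_o2 _))
        have hsylR : ¬ 2 ∣ B.relIndex R := fun h3 => by
          apply hsyl
          rw [← relIndex_mul_relIndex B R _ hBR hRX]
          exact h3.mul_right _
        have h3 : o2 R ≤ B := MinSimple.VModule.o2_le_of_sylow h.two hsylR
        have h4 : ZJ ≤ centralizer (o2 (XX z l m) : Set G) := by
          refine comm_symm ?_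
          rw [← h.D_eq]
          exact h1.trans h.BD
        exact ((le_inf (h.ZB.trans (h.BD.trans hDX)) h4).trans (h.ch l m hlm)).trans h2
      mx := by
        rw [h.X_inf]
        refine ⟨(eab_iff.1 hA.1).2, hA.2.1, fun C hC hCO => hA.2.2 C ?_ hCO⟩
        exact eab_iff.2 ⟨hC.comm, hC⟩
      nA := fun hcon => hAm (hcon.trans (h.cent_EI hlm hsyl))
      par := fun P hP hPX => by
        rcases h.par l m hlm hsyl hnB P hP hPX with h1 | h1
        · refine hpar P m fun n hn => ?_
          by_cases hnl : n = l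
          · rw [hnl]; exact h1
          · exact hXn P hPX n hnl hn
        · refine hpar P l fun n hn => ?_
          by_cases hnm : n = m
          · rw [hnm]; exact h1
          · exact hXn P hPX n hn hnm
      fix := fun P hP hPX _ => by
        rcases h.par l m hlm hsyl hnB P hP hPX with h1 | h1
        · refine ⟨z l, h.z_mem l, h1, ?_⟩
          rw [h.X_cent hlm]
          exact hAo m
        · refine ⟨z m, h.z_mem m, h1, ?_⟩
          rw [XX_comm, h.X_cent hlm.symm]
          exact hAo l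
      KY := h.KX l m hlm }

/-- **THEOREM U**: (E) is impossible. -/
theorem FB.false_of (ml : MLK.{u, u}) (hE : ML.Ex.Two.Ext.{u, u}) (hO : o2 D ≠ ⊥)
    (nl : ∀ R : Subgroup G, R ≠ ⊥ → IsPGroup 2 R → ¬ ∀ j, Y j ≤ normalizer (R : Set G)) : False := by
  obtain ⟨A, l, m, -, hL⟩ := h.locIn hO nl
  exact LocIn.false_of ml hE hL

end fb

end Cfsg.Agent.Omega.EDel.ThmU
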