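import Cfsg.Agent.Omega.EDel.HypL
import Cfsg.Agent.Omega.Node.MulX

/-!
# THEOREM S'' in the case (L) of GammaFF: `ESX K (2 ≤ k ∨ 3 ≤ m)`

The frame `exists_mv_lev` (helper497) at the level `K₀ = O₂(P)`, `Zf.false_of` (helper487), UNI+ for the blocks with
module in `V_P` (`MulX.uniTwoX`, helper388).

* `eSX`, `eSX_big`, `eSX_many`; `symBigX`, `symManyX` modulo `OmSX`.
-/

set_option autoImplicit false
set_option linter.unusedSectionVars false

namespace Cfsg.Agent.Omega.EDel.CaseX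

open Subgroup Cfsg Cfsg.Agent.ZN.ChoiceBase
open Cfsg.Agent.ZN (zc zl o2 jj zj bau)
open Cfsg.Agent.Omega.FFThm (SymKM)
open Cfsg.Agent.Omega.FrameFF (cv)
open Cfsg.Agent.Omega.NO3S (CaseLP SymBigH SymManyH)
open Cfsg.Agent.Omega.NO3S.Level (nxt Lev CaseL)
open Cfsg.Agent.Omega.OM.LevD (LB)
open Cfsg.Agent.Omega.OM.Lev.Uni (FrL)
open Cfsg.Agent.Omega.Node.MultiOf (KZ NLoc FBl)
open Cfsg.Agent.Omega.Node.MulG (exists_BO_caseL top_caseL)
open Cfsg.Agent.Omega.Node.MulX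
open Cfsg.Agent.Omega.Frame (Cls)

universe u

section main

variable {G : Type u} [Group G] [Finite G] {S : Sylow 2 G} {P : Subgroup G}

theorem mem_zpowers_sq {d x : G} (hd : d ^ 2 = 1) : x ∈ zpowers d ↔ x = 1 ∨ x = d := by
  constructor
  · intro hx
    obtain ⟨n, rfl⟩ := mem_zpowers_iff.1 hx
    have h2 : d ^ (2 : ℤ) = 1 := by exact_mod_cast hd
    rcases Int.even_or_odd' n with ⟨c, h | h⟩
    · left
      rw [h, zpow_mul, h2, one_zpow]
    · right
      rw [h, zpow_add, zpow_mul, h2, one_zpow, one_mul, zpow_one]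
  · rintro (rfl | rfl)
    · exact one_mem _
    · exact mem_zpowers x

/-- **(E) over a level `K₀`**, UNI+ only for the blocks with module in `X = Ω₁(Z(K₀))`. -/
theorem false_of_lev (hML : ML.Final.MLK.{u, u}) (hK : IsKProper G) (hG : IsCharacteristicTwoType G)
    {K₀ Q V ZJ B X : Subgroup G} {ι : Type} [Finite ι] {L W C A : ι → Subgroup G} {d : ι → G}
    (hL : Lev (S : Subgroup G) K₀) (eX : X = zc K₀) (eZ : ZJ = zc (nxt (S : Subgroup G) K₀))
    (eB : B = (S : Subgroup G) ⊓ centralizer (ZJ : Set G)) (lb : LB S (nxt (S : Subgroup G) K₀) B ZJ)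
    (fr : FrL B Q V X ZJ L W (fun i => zpowers (d i)) C A 2) (mv : Mv B d)
    (three : ∀ i j : ι, ∃ l, l ≠ i ∧ l ≠ j) (hN : NLoc (centralizer (ZJ : Set G) ⊔ ⨆ i, L i)) : False := by
  have eqB : B = (S : Subgroup G) ⊓ centralizer (zc (nxt (S : Subgroup G) K₀) : Set G) := by rw [eB, eZ]
  have hz : ∀ i x, x ∈ zpowers (d i) ↔ x = 1 ∨ x = d i := fun i x =>
    mem_zpowers_sq (SQ1.Bau.elem_sq fr.elX _ (fr.VX (fr.ZV i (mem_zpowers _))))
  have hX : ∀ g ∈ normalizer (B : Set G), g ∈ normalizer (X : Set G) := fun g hg => by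
    rw [eX]
    exact NO3S.Level.normalizer_le_zc _ (OM.Lev.Wc.norm_B_Lev hL eqB hg)
  have hnorm : ∀ g ∈ normalizer (B : Set G), ∀ i, ∃ j, cj g (zpowers (d i)) = zpowers (d j) ∧
      cj g (W i) ≤ W j ⊔ ZJ := fun g hg i => (fr.norm_of hg (hX g hg)).2 i
  have hSZ : (S : Subgroup G) ≤ normalizer (ZJ : Set G) :=
    (le_normalizer (H := (S : Subgroup G))).trans
      (lb.nrm _ S.isPGroup' ((lb.KB.trans lb.eqB.le).trans inf_le_left))
  have zf : Zf B Q V X ZJ L W (fun i => zpowers (d i)) C A d :=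
    { hG := hG
      fr := fr
      hz := hz
      Bp := lb.Bp
      syl := fun R hR hR2 hBR => ((OM.WOneG.syl_B S lb.eqB hSZ).2.2 R hR hR2 hBR).le
      uni := hnorm }
  have hfb : ∀ i, FBl B (L i) (W i) := fun i => zf.fbl lb i
  have hWX : ∀ i, W i ≤ X := fun i => (fr.WV i).trans fr.VX
  have hne : Nonempty ι := by
    obtain ⟨a, -⟩ := mv.tp
    exact ⟨a⟩
  refine zf.false_of hML hK (fun g hg i j hij => ?_) (fun U hU hU2 hn => ?_) three
    (fun i j => ?_) (fun i j hij => ?_)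
  · have hb : FBX B X (cj g (L i)) (cj g (W i)) := ⟨(hfb i).conj hg, by
      rw [← cj_eq_of_mem_normalizer (hX g hg)]
      exact cj_mono g (hWX i)⟩
    obtain ⟨l, hl, hle⟩ := uniTwoX S hL eX eqB fr hb
    have h1 : d j ∈ W l := by
      rw [← hl, ← hij]
      exact ⟨d i, (fr.blk i).ZV (mem_zpowers _), rfl⟩
    have h2 := zf.eq_of_mem h1
    subst h2
    exact hle.trans (sup_le le_sup_right ((cent_sup_le _ _).trans le_sup_left))
  · refine hU (hN U hU2 (sup_le ?_ (iSup_le fun i => le_sup_right.trans (hn i))))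
    obtain ⟨i₀⟩ := hne
    exact (D_le_YL i₀).trans (hn i₀)
  · obtain ⟨g, -, σ, hσ, h1⟩ := mv.tr i j
    exact ⟨g, σ, hσ, h1⟩
  · obtain ⟨g, -, σ, hσ, h1⟩ := mv.sw i j hij
    exact ⟨g, σ, hσ, h1⟩

/-- **(E) is impossible in the case (L)**, symmetric blocks, at least three light pairs. -/
theorem noE (hML : ML.Final.MLK.{u, u}) {B ZJ : Subgroup G} {ι : Type} {L W Z C A : ι → Subgroup G} {k m : ℕ}
    (h : SymL S P B ZJ L W Z C A k m) (hk : 0 < k) (hm : 2 ≤ m) (hkm : 2 ≤ k ∨ 3 ≤ m) :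
    ¬ NLoc (centralizer (ZJ : Set G) ⊔ ⨆ i, L i) := by
  intro hN
  rw [← h.KX_eq] at hN
  obtain ⟨N⟩ := h.sym
  have hc := h.cl
  obtain ⟨ι', hι', W', d, t, r, Lb, A', -, -, -, -, -, hF, mv, three⟩ := exists_mv_lev FF.Glob.ffthmM
    hc.ctx.char2 hc.pss.par hc.levQ le_rfl hc.hypN.toHyp.inf_eq_bot (exists_BO_caseL hc) hk hm N
  have eZ := h.eZ
  have eB := h.eqB
  rw [← eB, ← eZ] at hF
  rw [← eB] at mv
  have hb : ∀ i, FBl B (Lb i) (W' i) := fun i =>
    ⟨⟨_, _, hF.blk i⟩, (hF.blk i).toBlock (hF.cardZ i) h.lb.Bp h.lb.weakNormal⟩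
  have e1 := Node.MulX.KX_eq S hc.levQ rfl eB hF hb
  rw [hc.zc_eq] at e1
  rw [e1] at hN
  exact false_of_lev hML hc.ctx.kproper hc.ctx.char2 hc.levQ rfl eZ h.eB h.lb hF mv (three hkm) hN

end main

variable {K : Cls.{u}}

/-- **(E), case (L), symmetric blocks, at least three light pairs** -/
theorem eSX (hML : ML.Final.MLK.{u, u}) : ESX K fun k m => 2 ≤ k ∨ 3 ≤ m := by
  intro G _ _ _ S P B ZJ ι L W Z C A k m hk hm hc hM hN
  exact absurd hN (noE hML hM hk hm hc)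

theorem eSX_mono {c c' : ℕ → ℕ → Prop} (h : ESX K c) (hc : ∀ k m, c' k m → c k m) : ESX K c' :=
  fun G _ _ hK S P B ZJ ι L W Z C A k m hk hm hc' => h G hK S P B ZJ ι L W Z C A k m hk hm (hc k m hc')

/-- **`SymBigH K CaseLP`** from (Om) -/
theorem symBigX (hML : ML.Final.MLK.{u, u}) (hO : OmSX K fun k m => k = 1 ∧ 3 ≤ m) : SymBigH K CaseLP :=
  symBigX_of hO (eSX_mono (eSX hML) fun _ _ h => Or.inr h.2)

/-- **`SymManyH K CaseLP`** from (Om) -/
theorem symManyX (hML : ML.Final.MLK.{u, u}) (hO : OmSX K fun k _ => 2 ≤ k) : SymManyH K CaseLP :=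
  symManyX_of hO (eSX_mono (eSX hML) fun _ _ h => Or.inl h)

end Cfsg.Agent.Omega.EDel.CaseX
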