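import Cfsg.Agent.Omega.EK3.StarE

/-!
# THEOREM DELTA (helper647 #24014, after helper787 #23621): the abstract core

`D ≤ Y i`, `O = O₂(D)`, `N i` normal in `Y i`, `E v := ⟨ZJ^⟨Y i : i ≠ v⟩⟩` elementary abelian, inside `O`; `(NO)` for `O`
on every `N i`; a normal subgroup `K` of `Y i` moving `N i` has `Y i = D K`; no nontrivial subgroup of `O` is normalised
by `D` and all `Y i`.

* `Dl` : this setting;
* `Dom i v` : `Y i` normalises `X N_i` for all `D`-invariant `X ≤ E v`;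
* `Dl.exists_AA` : some `A ∈ AA(O)` moves some `N i`;
* `Dl.exists_dom` : `A ∈ AA(O)` moves `E v`: `Dom i v` for some `i ≠ v` (the lever, helper574);
* `Ac g π` : conjugation by `g` induces the permutation `π`;
* `Dl.false_of_brother` : **no such setting, if the group is transitive on the indices and the interchange of two
  brothers `v, σ v` (everything else fixed) is induced**.
-/

set_option autoImplicit false
set_option linter.unusedSectionVars false

namespace Cfsg.Agent.Omega.EDel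

open Subgroup Cfsg Cfsg.Agent.ZN Cfsg.Agent.ZN.ChoiceBase
open Cfsg.Agent.Omega.NO3S.EThree
open Cfsg.Agent.Omega.NO3S.EThree.ExactA (eab_mono eab_sup eab_iff)
open Cfsg.Agent.Omega.EK3.Rank (NoOn)
open Cfsg.Agent.Omega.EK3.StarE (EE cj_le_EE EE_le EE_mono le_EE cj_iSup_le norm_of_cj_le le_norm_of_cj_le norm_EE)
open scoped commutatorElement

universe u

variable {G : Type u} [Group G] {ι : Type*}

/-- `E v = ⟨ZJ^⟨Y i : i ≠ v⟩⟩` -/
def Ev (ZJ : Subgroup G) (Y : ι → Subgroup G) (v : ι) : Subgroup G := EE ZJ (⨆ i : {i // i ≠ v}, Y i)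

/-- **The setting of THEOREM DELTA.** -/
structure Dl (O D ZJ : Subgroup G) (Y N : ι → Subgroup G) : Prop where
  OD : O ≤ D
  OZ : O ≤ centralizer (ZJ : Set G)
  DY : ∀ i, D ≤ Y i
  YN : ∀ i, Y i ≤ normalizer (N i : Set G)
  YQ : ∀ i, Y i ≤ normalizer ((O ⊓ centralizer (N i : Set G) : Subgroup G) : Set G)
  NE : ∀ i, N i ≤ EE ZJ (Y i)
  N1 : ∀ i, N i ≠ ⊥
  no : ∀ i, NoOn O (N i)
  ab : ∀ v, IsElementaryAbelian 2 (Ev ZJ Y v)
  EO : ∀ v, Ev ZJ Y v ≤ O
  gen : ∀ (i : ι) (K : Subgroup G), K ≤ Y i → Y i ≤ normalizer (K : Set G) → ¬ K ≤ centralizer (N i : Set G) →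
    Y i ≤ D ⊔ K
  nl : ∀ U : Subgroup G, U ≤ O → (∀ i, Y i ≤ normalizer (U : Set G)) → U = ⊥

/-- `Y i` normalises `X N_i` for all `D`-invariant `X ≤ E v`. -/
def Dom (D ZJ : Subgroup G) (Y N : ι → Subgroup G) (i v : ι) : Prop :=
  ∀ X : Subgroup G, X ≤ Ev ZJ Y v → D ≤ normalizer (X : Set G) → Y i ≤ normalizer ((X ⊔ N i : Subgroup G) : Set G)

/-- Conjugation by `g` induces `π`. -/
structure Ac (D ZJ : Subgroup G) (Y N : ι → Subgroup G) (g : G) (π : Equiv.Perm ι) : Prop where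
  zj : cj g ZJ = ZJ
  d : cj g D = D
  y : ∀ i, cj g (Y i) = Y (π i)
  n : ∀ i, cj g (N i) = N (π i)

theorem cj_supC (g : G) (A B : Subgroup G) : cj g (A ⊔ B) = cj g A ⊔ cj g B := Subgroup.map_sup _ _ _

theorem le_norm_sup {H A B : Subgroup G} (hA : H ≤ normalizer (A : Set G)) (hB : H ≤ normalizer (B : Set G)) :
    H ≤ normalizer ((A ⊔ B : Subgroup G) : Set G) := by
  refine le_norm_of_cj_le fun g hg => ?_
  rw [cj_supC, cj_eq_of_mem_normalizer (hA hg), cj_eq_of_mem_normalizer (hB hg)]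

theorem le_norm_iSup {H : Subgroup G} {κ : Sort*} {f : κ → Subgroup G} (h : ∀ k, H ≤ normalizer (f k : Set G)) :
    H ≤ normalizer ((⨆ k, f k : Subgroup G) : Set G) := by
  refine le_norm_of_cj_le fun g hg => cj_iSup_le fun k => ?_
  rw [cj_eq_of_mem_normalizer (h k hg)]
  exact le_iSup f k

variable {O D ZJ : Subgroup G} {Y N : ι → Subgroup G}

theorem Y_le_norm_Ev {i v : ι} (hiv : i ≠ v) : Y i ≤ normalizer (Ev ZJ Y v : Set G) :=
  (le_iSup (fun i : {i // i ≠ v} => Y i) ⟨i, hiv⟩).trans (norm_EE _ _)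

namespace Dl

variable (h : Dl O D ZJ Y N)
include h

theorem N_le_Ev {i v : ι} (hiv : i ≠ v) : N i ≤ Ev ZJ Y v :=
  (h.NE i).trans (EE_mono (le_iSup (fun i : {i // i ≠ v} => Y i) ⟨i, hiv⟩))

theorem D_norm (i : ι) : D ≤ normalizer (N i : Set G) := (h.DY i).trans (h.YN i)

theorem OY (i : ι) : O ≤ Y i := h.OD.trans (h.DY i)

theorem D_norm_EE {i : ι} {H : Subgroup G} (hH : Y i ≤ H) : D ≤ normalizer (EE ZJ H : Set G) :=
  ((h.DY i).trans hH).trans (norm_EE _ _)

theorem toDt (v : ι) : EK3.Lever.Dt O (Ev ZJ Y v) ZJ (fun i : {i // i ≠ v} => Y i) fun i : {i // i ≠ v} => N i where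
  ab := (eab_iff.1 (h.ab v)).1
  OY i := h.OY i
  YE i := Y_le_norm_Ev i.2
  OZ := h.OZ
  gen := le_rfl
  NE i := h.N_le_Ev i.2
  YN i := h.YN i
  YQ i := h.YQ i
  no i := h.no i

variable [Finite G]

theorem norm_jj {H Q : Subgroup G} (hH : H ≤ normalizer (Q : Set G)) : H ≤ normalizer (jj Q : Set G) := by
  intro g hg
  rw [mem_normalizer_iff_cj, ← jj_cj, cj_eq_of_mem_normalizer (hH hg)]

/-- some `A ∈ AA(O)` moves some `N i` -/
theorem exists_AA (hι : ∀ i : ι, ∃ j, j ≠ i) [Nonempty ι] : ∃ A ∈ AA O, ∃ i, ¬ A ≤ centralizer (N i : Set G) := by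
  by_contra hcon
  push Not at hcon
  have hNO : ∀ i, N i ≤ O := fun i => by
    obtain ⟨j, hj⟩ := hι i
    exact (h.N_le_Ev hj.symm).trans (h.EO j)
  have hNe : ∀ i, IsElementaryAbelian 2 (N i) := fun i => by
    obtain ⟨j, hj⟩ := hι i
    exact eab_mono (h.ab j) (h.N_le_Ev hj.symm)
  have e : ∀ i, jj (O ⊓ centralizer (N i : Set G)) = jj O := fun i => by
    refine le_antisymm (EK3.Rank.jj_inf_le (hNe i) (hNO i) (h.no i)) ?_
    rw [jj_eq]
    exact sSup_le fun A hA => le_jj (EK3.Rank.mem_inf_of_mem_AA (hNe i) (hNO i) (h.no i) hA (hcon A hA i))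
  have h1 : jj O = ⊥ := by
    refine h.nl _ (ChoiceBase.jj_le _) fun i => ?_
    rw [← e i]
    exact norm_jj h (h.YQ i)
  obtain ⟨i⟩ := ‹Nonempty ι›
  apply h.N1 i
  obtain ⟨A, hA⟩ := AA_nonempty O
  have h2 : A = ⊥ := by
    rw [eq_bot_iff, ← h1]
    exact le_jj hA
  have h3 := card_le_mm (hNe i) (hNO i)
  rw [mm_eq hA, h2, card_bot] at h3
  exact Subgroup.card_eq_one.1 (le_antisymm h3 Nat.card_pos)

/-- **the lever** -/
theorem exists_dom {v : ι} {A : Subgroup G} (hA : A ∈ AA O) (hmv : ¬ A ≤ centralizer (Ev ZJ Y v : Set G))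
    (hDE : D ≤ normalizer (Ev ZJ Y v : Set G)) : ∃ i, i ≠ v ∧ Dom D ZJ Y N i v := by
  have hoff := EK3.Lever.offd_of_AA (h.ab v) (h.EO v) hA ((hA.2.1.trans h.OD).trans hDE) hmv
  obtain ⟨⟨i, hiv⟩, F, hFO, -, hFm, hFc⟩ := (h.toDt v).lever hA.2.1 hA.1 hoff
  refine ⟨i, hiv, fun X hX hDX => ?_⟩
  have hFY : F ≤ Y i := hFO.trans (h.OY i)
  set K : Subgroup G := EE F (Y i) with hK
  have hKY : K ≤ Y i := EE_le fun y hy => by
    have := cj_mono y hFY
    rwa [cj_eq_of_mem_normalizer (Subgroup.le_normalizer hy)] at this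
  have hYK : Y i ≤ normalizer (K : Set G) := norm_EE _ _
  have hKm : ¬ K ≤ centralizer (N i : Set G) := fun hc => hFm ((le_EE _ _).trans hc)
  refine (h.gen i K hKY hYK hKm).trans (sup_le (le_norm_sup hDX (h.D_norm i)) ?_)
  refine EE_le fun y hy => ?_
  refine le_norm_of_cj_le fun k hk => ?_
  have hkY : k ∈ Y i := hKY (cj_le_EE hy hk)
  rw [cj_supC]
  refine sup_le ?_ ?_
  · rintro _ ⟨x, hx, rfl⟩
    change k * x * k⁻¹ ∈ _
    obtain ⟨f, hf, rfl⟩ := hk
    change (y * f * y⁻¹) * x * (y * f * y⁻¹)⁻¹ ∈ _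
    have h1 : y⁻¹ * x * y ∈ Ev ZJ Y v := by
      have := (mem_normalizer_iff.1 (Y_le_norm_Ev (ZJ := ZJ) (Y := Y) hiv (inv_mem hy)) x).1 (hX hx)
      rwa [inv_inv] at this
    have h2 := hFc _ h1 f hf
    have h3 := (mem_normalizer_iff.1 (h.YN i hy) _).1 (inv_mem h2)
    have e : (y * f * y⁻¹) * x * (y * f * y⁻¹)⁻¹ = (y * ⁅y⁻¹ * x * y, f⁆⁻¹ * y⁻¹) * x := by
      rw [commutatorElement_def]
      group
    rw [e]
    exact mul_mem (mem_sup_right h3) (mem_sup_left hx)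
  · rw [cj_eq_of_mem_normalizer (h.YN i hkY)]
    exact le_sup_right

end Dl

section ac

variable {g : G} {π : Equiv.Perm ι} (a : Ac D ZJ Y N g π)
include a

theorem Ac.ev (v : ι) : cj g (Ev ZJ Y v) = Ev ZJ Y (π v) := by
  have key : ∀ {g : G} {π : Equiv.Perm ι}, Ac D ZJ Y N g π → ∀ v, cj g (Ev ZJ Y v) ≤ Ev ZJ Y (π v) := by
    intro g π a v
    refine cj_iSup_le fun y => ?_
    have h1 : cj g (⨆ i : {i // i ≠ v}, Y i) ≤ ⨆ i : {i // i ≠ π v}, Y i := by
      refine cj_iSup_le fun i => ?_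
      rw [a.y]
      exact le_iSup (fun i : {i // i ≠ π v} => Y i) ⟨π i, fun e => i.2 (π.injective e)⟩
    have h2 : g * y * g⁻¹ ∈ (⨆ i : {i // i ≠ π v}, Y i : Subgroup G) := h1 ⟨y, y.2, rfl⟩
    have e : cj g (cj (y : G) ZJ) = cj (g * y * g⁻¹) ZJ := by
      conv_rhs => rw [← a.zj]
      rw [cj_cj, cj_cj]
      congr 1
      group
    rw [e]
    exact cj_le_EE h2
  refine le_antisymm (key a v) ?_
  have hinv : Ac D ZJ Y N g⁻¹ π.symm :=
    { zj := by conv_lhs => rw [← a.zj, cj_inv_cj]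
      d := by conv_lhs => rw [← a.d, cj_inv_cj]
      y := fun i => by
        have := a.y (π.symm i)
        rw [Equiv.apply_symm_apply] at this
        rw [← this, cj_inv_cj]
      n := fun i => by
        have := a.n (π.symm i)
        rw [Equiv.apply_symm_apply] at this
        rw [← this, cj_inv_cj] }
  have h1 := cj_mono g (key hinv (π v))
  rwa [cj_cj_inv, Equiv.symm_apply_apply] at h1

theorem Ac.dom {i v : ι} (hd : Dom D ZJ Y N i v) : Dom D ZJ Y N (π i) (π v) := by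
  intro X hX hDX
  have h1 : cj g⁻¹ X ≤ Ev ZJ Y v := by
    have := cj_mono g⁻¹ hX
    rwa [← a.ev, cj_inv_cj] at this
  have h2 : D ≤ normalizer (cj g⁻¹ X : Set G) := by
    have := cj_mono g⁻¹ hDX
    rw [cj_normalizer] at this
    rwa [← a.d, cj_inv_cj] at this
  have h3 := cj_mono g (hd _ h1 h2)
  rwa [cj_normalizer, cj_supC, cj_cj_inv, a.y, a.n] at h3

end ac

variable [Finite G]

/-- **THEOREM DELTA with brothers.** -/
theorem Dl.false_of_brother (h : Dl O D ZJ Y N) [Nonempty ι] (σ : ι → ι) (hσ : ∀ i, σ i ≠ i) (hσσ : ∀ i, σ (σ i) = i)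
    (h3 : ∀ i, ∃ j, j ≠ i ∧ j ≠ σ i)
    (tr : ∀ i j, ∃ (g : G) (π : Equiv.Perm ι), Ac D ZJ Y N g π ∧ π i = j ∧ ∀ l, π (σ l) = σ (π l))
    (sw : ∀ v, ∃ (g : G) (π : Equiv.Perm ι), Ac D ZJ Y N g π ∧ π v = σ v ∧ ∀ u, u ≠ v → u ≠ σ v → π u = u) : False := by
  have hι : ∀ i : ι, ∃ j, j ≠ i := fun i => ⟨σ i, hσ i⟩
  -- `Dom i v` for some `i ≠ v`
  obtain ⟨i, v, hiv, hd⟩ : ∃ i v, i ≠ v ∧ Dom D ZJ Y N i v := by
    obtain ⟨A, hA, j, hj⟩ := h.exists_AA hι
    obtain ⟨i, hi, hd⟩ := h.exists_dom (v := σ j) hA (fun hc => hj (hc.trans (centralizer_le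
      (h.N_le_Ev (hσ j).symm)))) (h.D_norm_EE (le_iSup (fun i : {i // i ≠ σ j} => Y i) ⟨j, (hσ j).symm⟩))
    exact ⟨i, _, hi, hd⟩
  by_cases hv : v = σ i
  · -- `Dom j (σ j)` for all `j`
    have hall : ∀ j, Dom D ZJ Y N j (σ j) := fun j => by
      obtain ⟨g, π, a, hπ, hπσ⟩ := tr i j
      have := a.dom hd
      rwa [hv, hπσ, hπ] at this
    set X : ι → Subgroup G := fun u => EE ZJ (Y u ⊔ Y (σ u)) with hX
    have hN : ∀ u, N u ≤ X u := fun u => (h.NE u).trans (EE_mono le_sup_left)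
    have hN' : ∀ u, N (σ u) ≤ X u := fun u => (h.NE _).trans (EE_mono le_sup_right)
    have hXE : ∀ u v, v ≠ u → v ≠ σ u → X u ≤ Ev ZJ Y v := fun u v h1 h2 =>
      EE_mono (sup_le (le_iSup (fun i : {i // i ≠ v} => Y i) ⟨u, h1.symm⟩)
        (le_iSup (fun i : {i // i ≠ v} => Y i) ⟨σ u, h2.symm⟩))
    have hW : (⨆ u, X u) = ⊥ := by
      refine h.nl _ (iSup_le fun u => ?_) fun i => ?_
      · obtain ⟨v, h1, h2⟩ := h3 u
        exact (hXE u v h1 h2).trans (h.EO v)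
      · have e : (⨆ u, X u) = ⨆ u, (X u ⊔ N i) := by
          apply le_antisymm
          · exact iSup_mono fun u => le_sup_left
          · exact iSup_le fun u => sup_le (le_iSup X u) ((hN i).trans (le_iSup X i))
        rw [e]
        refine le_norm_iSup fun u => ?_
        by_cases h1 : u = i
        · subst h1
          rw [sup_eq_left.2 (hN u)]
          exact le_sup_left.trans (norm_EE ZJ (Y u ⊔ Y (σ u)))
        by_cases h2 : i = σ u
        · subst h2
          rw [sup_eq_left.2 (hN' u)]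
          exact le_sup_right.trans (norm_EE ZJ (Y u ⊔ Y (σ u)))
        · refine hall i _ (hXE u (σ i) ?_ ?_) (h.D_norm_EE (i := u) le_sup_left)
          · intro e1
            apply h2
            rw [← e1, hσσ]
          · intro e1
            apply h1
            have := congrArg σ e1
            rw [hσσ, hσσ] at this
            exact this.symm
    apply h.N1 i
    rw [eq_bot_iff, ← hW]
    exact (hN i).trans (le_iSup X i)
  · -- two different `v`
    obtain ⟨g, π, a, hπ, hπ'⟩ := sw v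
    have hd' := a.dom hd
    rw [hπ, hπ' i hiv (fun e => hv (by rw [e, hσσ]))] at hd'
    have hall : ∀ j, ∃ w w', w ≠ w' ∧ Dom D ZJ Y N j w ∧ Dom D ZJ Y N j w' := fun j => by
      obtain ⟨g, π, a, hπ, -⟩ := tr i j
      refine ⟨π v, π (σ v), fun e => hσ v (π.injective e).symm, ?_, ?_⟩
      · have := a.dom hd
        rwa [hπ] at this
      · have := a.dom hd'
        rwa [hπ] at this
    have hW : (⨆ u, N u) = ⊥ := by
      refine h.nl _ (iSup_le fun u => ?_) fun i => ?_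
      · exact (h.N_le_Ev (hσ u).symm).trans (h.EO _)
      · have e : (⨆ u, N u) = ⨆ u, (N u ⊔ N i) := by
          apply le_antisymm
          · exact iSup_mono fun u => le_sup_left
          · exact iSup_le fun u => sup_le (le_iSup N u) (le_iSup N i)
        rw [e]
        refine le_norm_iSup fun u => ?_
        obtain ⟨w, w', hne, h1, h2⟩ := hall i
        by_cases hw : u = w
        · exact h2 _ (h.N_le_Ev (fun e => hne (hw.symm.trans e))) (h.D_norm u)
        · exact h1 _ (h.N_le_Ev hw) (h.D_norm u)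
    apply h.N1 i
    rw [eq_bot_iff, ← hW]
    exact le_iSup N i

end Cfsg.Agent.Omega.EDel
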