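import Cfsg.Agent.Omega.EDel.Zero
import Cfsg.Agent.Omega.EDel.Core

/-!
# THEOREM DELTA: the setting `Dl` of `EDel/Core.lean` over `Zf`
-/

set_option autoImplicit false
set_option linter.unusedSectionVars false

namespace Cfsg.Agent.Omega.EDel

open Subgroup Cfsg Cfsg.Agent.ZN.ChoiceBase
open Cfsg.Agent.ZN (zc zl o2 jj)
open Cfsg.Agent.Omega.EK3 (CT mem_CT CT_mono)
open Cfsg.Agent.Omega.EK3.StarE (EE EE_le EE_mono le_EE norm_EE cj_le_EE)

universe u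

variable {G : Type u} [Group G] {ι : Type} {B Q V X ZJ : Subgroup G} {L W Z C A : ι → Subgroup G} {z : ι → G}

namespace Zf

variable (h : Zf B Q V X ZJ L W Z C A z) [Finite G] [Finite ι]
include h

section Y

variable {Y : ι → Subgroup G} (hYT : ∀ i, Y i ≤ CT z ({i} : Set ι)ᶜ)
include hYT

theorem Ev_el (v : ι) : IsElementaryAbelian 2 (Ev ZJ Y v) :=
  h.E_el (T := {v}) (Set.singleton_nonempty v)
    (iSup_le_CT hYT (f := fun i : {i // i ≠ v} => (i : ι)) fun i hi => i.2 hi)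

theorem Ev_le_O (v : ι) : Ev ZJ Y v ≤ o2 (centralizer (ZJ : Set G)) :=
  h.E_le_O (T := {v}) (Set.singleton_nonempty v)
    (iSup_le_CT hYT (f := fun i : {i // i ≠ v} => (i : ι)) fun i hi => i.2 hi)

end Y

/-- **The setting `Dl` of the core**, from `(NO)`, `(QP)` (`¬ K ≤ D`) and `(NL)`, for any `D ≤ Y i ≤ C_G(z_l : l ≠ i)`,
`N i = ⟨z_i^(Y i)⟩`. -/
theorem dl {Y : ι → Subgroup G} (hDY : ∀ i, centralizer (ZJ : Set G) ≤ Y i) (hYT : ∀ i, Y i ≤ CT z ({i} : Set ι)ᶜ)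
    (no : ∀ i, EK3.Rank.NoOn (o2 (centralizer (ZJ : Set G))) (EE (zpowers (z i)) (Y i)))
    (gen : ∀ (i : ι) (K : Subgroup G), K ≤ Y i → Y i ≤ normalizer (K : Set G) → ¬ K ≤ centralizer (ZJ : Set G) →
      Y i ≤ centralizer (ZJ : Set G) ⊔ K)
    (nl : ∀ U : Subgroup G, U ≤ o2 (centralizer (ZJ : Set G)) → (∀ i, Y i ≤ normalizer (U : Set G)) → U = ⊥) :
    Dl (o2 (centralizer (ZJ : Set G))) (centralizer (ZJ : Set G)) ZJ Y (fun i => EE (zpowers (z i)) (Y i)) where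
  OD := Cfsg.Agent.ZN.o2_le _
  OZ := Cfsg.Agent.ZN.o2_le _
  DY := hDY
  YN i := norm_EE _ _
  YQ i := h.YQ (hDY i) (hYT i)
  NE i := h.N_le_EE i _
  N1 i := h.N_ne i _
  no := no
  ab := h.Ev_el hYT
  EO := h.Ev_le_O hYT
  gen i K hKY hYK hKN := gen i K hKY hYK fun hKD => hKN (h.le_cent_N hKD hYK)
  nl := nl

end Zf

end Cfsg.Agent.Omega.EDel
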