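import Cfsg.Agent.Omega.EDel.HypL
import Cfsg.Agent.Omega.Node.OmLevZ

/-!
# `SymBigL` and `SymManyL` (fields 7, 8 of `Node.NO3SOpen`)

(Om): `OmLevZ.omS_two` (no hypothesis); (E): `EDel.eS` (THEOREM S'', input (ML)).
-/

set_option autoImplicit false

namespace Cfsg.Agent.Omega.EDel

open Cfsg.Agent.Omega.Frame (Cls)

universe u

variable {K : Cls.{u}}

/-- **`SymBigL`** -/
theorem symBigL (hML : ML.Final.MLK.{u, u}) : NO3S.SymBigL K :=
  Node.SymOf.symBigL_of Node.OmLevZ.omS_two (eS_big hML)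

/-- **`SymManyL`** -/
theorem symManyL (hML : ML.Final.MLK.{u, u}) : NO3S.SymManyL K :=
  Node.SymOf.symManyL_of Node.OmLevZ.omS_two (eS_many hML)

end Cfsg.Agent.Omega.EDel
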