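import Cfsg.Agent.Omega.OM.Lev.Uni
import Cfsg.Agent.Omega.SQ1.FFOne

/-!
# (E), light blocks: `Y = K D` without FF-blocks of `K B` (helper557's LEMMA G'' #23477; helper164 #24003)

* `exists_orbit_prod` : the product over the `X'`-orbit of `a ∈ C_W(T)`, `T` Sylow in `X'`;
* `lemG` : **LEMMA G''**: `B` Sylow in `D`, `W ≤ B` elementary abelian normal in `Y = ⟨D, L⟩`, `C_W(B) ≤ Z ≤ W`,
  `K ⊴ Y`, `L` normalises `B ∩ K`: then `Y` normalises `K ∩ D`;
* `moves_of` : if some subgroup of `K ∩ D` moves a conjugate of `Z`, then `L` does not normalise `B ∩ K`.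
-/

set_option autoImplicit false

namespace Cfsg.Agent.Omega.EDel.QP

open Subgroup Cfsg Cfsg.Agent.ZN.ChoiceBase Cfsg.Agent.ZN.ChoiceSit
open Cfsg.Agent.Omega.OM

universe u

variable {G : Type u} [Group G] [Finite G]

/-- an element of `P - N` central in `S` modulo `N` -/
theorem exists_central_mod {S P N : Subgroup G} (hS : IsPGroup 2 S) (hPS : P ≤ S)
    (hn : ∀ s ∈ S, ∀ p ∈ P, s * p * s⁻¹ ∈ P) (hN : ∀ s ∈ S, ∀ p ∈ N, s * p * s⁻¹ ∈ N)
    {y : G} (hy : y ∈ P) (hyN : y ∉ N) :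
    ∃ u ∈ P, u ∉ N ∧ ∀ s ∈ S, u⁻¹ * (s * u * s⁻¹) ∈ N := by
  have : Fact (Nat.Prime 2) := ⟨Nat.prime_two⟩
  let Z : Subgroup S := N.subgroupOf S
  have hZn : Z.Normal := by
    refine ⟨fun x hx g => ?_⟩
    rw [mem_subgroupOf] at hx ⊢
    exact hN g g.2 x hx
  have : (P.subgroupOf S).Normal := by
    refine ⟨fun x hx g => ?_⟩
    rw [mem_subgroupOf] at hx ⊢
    exact hn g g.2 x hx
  let π : S →* (S ⧸ Z) := QuotientGroup.mk' Z
  have hπs : Function.Surjective π := QuotientGroup.mk'_surjective Z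
  have hNor : ((P.subgroupOf S).map π).Normal := Subgroup.Normal.map inferInstance π hπs
  have hpi1 : ∀ x : S, π x = 1 ↔ (x : G) ∈ N := fun x => by
    show (QuotientGroup.mk' Z) x = 1 ↔ _
    rw [← MonoidHom.mem_ker, QuotientGroup.ker_mk', mem_subgroupOf]
  have hne : (P.subgroupOf S).map π ≠ ⊥ := by
    intro hb
    have h1 : π ⟨y, hPS hy⟩ ∈ (P.subgroupOf S).map π := mem_map_of_mem _ (by rw [mem_subgroupOf]; exact hy)
    rw [hb, mem_bot, hpi1] at h1
    exact hyN h1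
  have hp : IsPGroup 2 (S ⧸ Z) := hS.to_quotient Z
  have : Group.IsNilpotent (S ⧸ Z) := hp.isNilpotent
  have h1 := Cfsg.Agent.Lib.NormalAbelian.normal_inf_center_ne_bot ((P.subgroupOf S).map π) hne
  rw [Ne, Subgroup.eq_bot_iff_forall] at h1
  push Not at h1
  obtain ⟨w, hx, hj1⟩ := h1
  obtain ⟨⟨u, huP, hu⟩, hwc⟩ := hx
  have hwc' : ∀ g, g * w = w * g := mem_center_iff.1 hwc
  refine ⟨u, by simpa [mem_subgroupOf] using huP, ?_, ?_⟩
  · intro h
    apply hj1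
    rw [← hu, hpi1]
    exact h
  · intro s hs
    have h3 : π (u⁻¹ * (⟨s, hs⟩ * u * ⟨s, hs⟩⁻¹) : S) = 1 := by
      rw [map_mul, map_mul, map_mul, map_inv, map_inv, hu, hwc']
      group
    rw [hpi1] at h3
    simpa using h3

/-- The product over the `X`-orbit of `a`. -/
theorem exists_orbit_prod {W X T B : Subgroup G} (hWc : ∀ x ∈ W, ∀ y ∈ W, x * y = y * x)
    (hW2 : ∀ x ∈ W, x * x = 1) (hXW : ∀ x ∈ X, ∀ w ∈ W, x * w * x⁻¹ ∈ W) (hTX : T ≤ X)
    (hodd : ¬ 2 ∣ T.relIndex X) {a : G} (ha : a ∈ W) (haT : ∀ t ∈ T, t * a * t⁻¹ = a)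
    (hBX : ∀ b ∈ B, ∀ x ∈ X, b * x * b⁻¹ ∈ X) (hBW : ∀ b ∈ B, ∀ w ∈ W, b * w * b⁻¹ ∈ W)
    (hab : ∀ b ∈ B, ∀ x ∈ X, x * (a⁻¹ * (b * a * b⁻¹)) * x⁻¹ = a⁻¹ * (b * a * b⁻¹)) :
    ∃ s ∈ W, (∀ x ∈ X, x * s * x⁻¹ = s) ∧ ∀ b ∈ B, b * (a * s) * b⁻¹ = a * s := by
  classical
  let cg : CommGroup W := { (inferInstance : Group W) with
    mul_comm := fun x y => Subtype.ext (hWc x x.2 y y.2) }
  have : Finite W := inferInstance
  let act : MulDistribMulAction X W :=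
    { smul := fun x w => ⟨(x : G) * w * (x : G)⁻¹, hXW x x.2 w w.2⟩
      one_smul := fun w => Subtype.ext (by change ((1 : X) : G) * w * ((1 : X) : G)⁻¹ = w; simp)
      mul_smul := fun x y w => Subtype.ext (by
        change ((x * y : X) : G) * w * ((x * y : X) : G)⁻¹ = x * (y * w * (y : G)⁻¹) * (x : G)⁻¹
        rw [Subgroup.coe_mul]; group)
      smul_one := fun x => Subtype.ext (by
        change (x : G) * ((1 : W) : G) * (x : G)⁻¹ = ((1 : W) : G); simp)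
      smul_mul := fun x v w => Subtype.ext (by
        change (x : G) * ((v * w : W) : G) * (x : G)⁻¹ = (x * v * (x : G)⁻¹) * (x * w * (x : G)⁻¹)
        rw [Subgroup.coe_mul]; group) }
  have hsm : ∀ (x : X) (w : W), ((x • w : W) : G) = x * w * (x : G)⁻¹ := fun _ _ => rfl
  set a' : W := ⟨a, ha⟩ with ha'
  have hfin : (MulAction.orbit X a').Finite := Set.toFinite _
  let Om : Finset W := hfin.toFinset
  have hOm : ∀ w : W, w ∈ Om ↔ w ∈ MulAction.orbit X a' := fun w => Set.Finite.mem_toFinset _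
  have hcard : ¬ 2 ∣ Om.card := by
    intro h2
    apply hodd
    have h3 : Om.card = (MulAction.stabilizer X a').index := by
      rw [MulAction.index_stabilizer, Set.ncard_eq_toFinset_card _ hfin]
    rw [h3] at h2
    refine h2.trans ?_
    have h4 : T.subgroupOf X ≤ MulAction.stabilizer X a' := by
      intro t ht
      rw [MulAction.mem_stabilizer_iff]
      exact Subtype.ext (haT t (mem_subgroupOf.1 ht))
    exact index_dvd_of_le h4
  let s : W := ∏ w ∈ Om, w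
  have hs2 : ∀ w : W, w ^ 2 = 1 := fun w => Subtype.ext (by
    change (w : G) ^ 2 = 1
    rw [pow_two]; exact hW2 w w.2)
  -- a map permuting `Om` fixes the product
  have hperm : ∀ ψ : W → W, Function.Injective ψ → (∀ w ∈ Om, ψ w ∈ Om) → ∏ w ∈ Om, ψ w = s := by
    intro ψ hψ hm
    have h1 : Om.image ψ = Om := Finset.eq_of_subset_of_card_le (Finset.image_subset_iff.2 hm)
      (by rw [Finset.card_image_of_injective _ hψ])
    have h2 : ∏ w ∈ Om.image ψ, w = ∏ w ∈ Om, ψ w :=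
      Finset.prod_image (f := fun w : W => w) fun x _ y _ e => hψ e
    rw [← h2, h1]
  refine ⟨s, s.2, fun x hx => ?_, fun b hb => ?_⟩
  · have h1 : (⟨x, hx⟩ : X) • s = s := by
      have h2 : (⟨x, hx⟩ : X) • s = ∏ w ∈ Om, (⟨x, hx⟩ : X) • w := Finset.smul_prod'
      rw [h2]
      refine hperm _ (MulAction.injective _) fun w hw => ?_
      rw [hOm] at *
      exact (MulAction.mem_orbit_of_mem_orbit _ hw)
    exact congrArg Subtype.val h1
  · -- `ψ w = b w b⁻¹`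
    let ψ : W →* W :=
      { toFun := fun w => ⟨b * w * b⁻¹, hBW b hb w w.2⟩
        map_one' := Subtype.ext (by change b * ((1 : W) : G) * b⁻¹ = ((1 : W) : G); simp)
        map_mul' := fun v w => Subtype.ext (by
          change b * ((v * w : W) : G) * b⁻¹ = (b * v * b⁻¹) * (b * w * b⁻¹)
          rw [Subgroup.coe_mul]; group) }
    have hψ : ∀ w : W, ((ψ w : W) : G) = b * w * b⁻¹ := fun _ => rfl
    have hψi : Function.Injective ψ := fun v w e => Subtype.ext (by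
      have h1 : b * (v : G) * b⁻¹ = b * w * b⁻¹ := congrArg Subtype.val e
      exact mul_left_cancel (mul_right_cancel h1))
    let z : W := a'⁻¹ * ψ a'
    have hz : ∀ x : X, x • z = z := fun x => Subtype.ext (hab b hb x x.2)
    have h1 : ∏ w ∈ Om, z⁻¹ * ψ w = s := by
      refine hperm _ (fun v w e => hψi (mul_left_cancel e)) fun w hw => ?_
      rw [hOm] at *
      obtain ⟨x, rfl⟩ := hw
      refine ⟨⟨b * x * b⁻¹, hBX b hb x x.2⟩, ?_⟩
      set x' : X := ⟨b * x * b⁻¹, hBX b hb x x.2⟩ with hx'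
      have h2 : x' • ψ a' = ψ (x • a') := Subtype.ext (by
        change (b * x * b⁻¹) * (b * a * b⁻¹) * (b * x * b⁻¹)⁻¹ = b * (x * a * (x : G)⁻¹) * b⁻¹
        group)
      have h3 : x' • (z⁻¹ * ψ a') = z⁻¹ * ψ (x • a') := by
        rw [smul_mul', smul_inv', hz, h2]
      have h4 : z⁻¹ * ψ a' = a' := by
        change (a'⁻¹ * ψ a')⁻¹ * ψ a' = a'
        rw [mul_inv_rev, inv_inv, mul_assoc, mul_comm a', inv_mul_cancel_left]
      rw [h4] at h3
      exact h3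
    have h2 : ∏ w ∈ Om, z⁻¹ * ψ w = z⁻¹ ^ Om.card * ψ s := by
      rw [Finset.prod_mul_distrib, Finset.prod_const, map_prod]
    have h3 : z⁻¹ ^ Om.card = z⁻¹ := by
      obtain ⟨k, hk⟩ : ∃ k, Om.card = 2 * k + 1 := ⟨Om.card / 2, by omega⟩
      rw [hk, pow_add, pow_mul, hs2, one_pow, one_mul, pow_one]
    rw [h2, h3] at h1
    -- `ψ s = z s`, `ψ a' = a' z`
    have h4 : ψ (a' * s) = a' * s := by
      have h5 : ψ s = z * s := by
        conv_rhs => rw [← h1]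
        rw [mul_inv_cancel_left]
      have h6 : ψ a' = a' * z := by
        change ψ a' = a' * (a'⁻¹ * ψ a')
        rw [mul_inv_cancel_left]
      rw [map_mul, h5, h6]
      calc a' * z * (z * s) = a' * (z ^ 2 * s) := by rw [pow_two]; simp only [mul_assoc]
        _ = a' * s := by rw [hs2, one_mul]
    exact congrArg Subtype.val h4

/-- **LEMMA G''.** -/
theorem lemG {B D L W K Z : Subgroup G} (hsyl : Syl B D) (hDZ : D ≤ centralizer (Z : Set G))
    (hWB : W ≤ B) (hWc : ∀ x ∈ W, ∀ y ∈ W, x * y = y * x) (hW2 : ∀ x ∈ W, x * x = 1)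
    (hWn : D ⊔ L ≤ normalizer (W : Set G)) (hZW : Z ≤ W) (hCW : W ⊓ centralizer (B : Set G) ≤ Z)
    (hKY : K ≤ D ⊔ L) (hKn : D ⊔ L ≤ normalizer (K : Set G)) (hKD : K ⊓ centralizer (Z : Set G) ≤ D)
    (hT : L ≤ normalizer ((B ⊓ K : Subgroup G) : Set G)) :
    D ⊔ L ≤ normalizer ((K ⊓ D : Subgroup G) : Set G) := by
  have hBD : B ≤ D := hsyl.1
  set X : Subgroup G := K ⊓ D with hX
  have hXZ : X = K ⊓ centralizer (Z : Set G) :=
    le_antisymm (inf_le_inf_left _ hDZ) (le_inf inf_le_left hKD)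
  have hDX : ∀ d ∈ D, ∀ x ∈ X, d * x * d⁻¹ ∈ X := fun d hd x hx =>
    ⟨(mem_normalizer_iff.1 (hKn (mem_sup_left hd)) x).1 hx.1, D.mul_mem (D.mul_mem hd hx.2) (D.inv_mem hd)⟩
  have hBK : B ⊓ K = B ⊓ X := by
    rw [hX, ← inf_assoc, inf_right_comm, inf_eq_left.2 hBD]
  have hTs : Syl (B ⊓ X) X := SQ1.FFOne.syl_inf hsyl inf_le_right hDX
  have hodd : ¬ 2 ∣ (B ⊓ X).relIndex X := syl_not_dvd hTs
  have hXW : ∀ x ∈ X, ∀ w ∈ W, x * w * x⁻¹ ∈ W := fun x hx w hw =>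
    (mem_normalizer_iff.1 (hWn (hKY hx.1)) w).1 hw
  have hBW : ∀ b ∈ B, ∀ w ∈ W, b * w * b⁻¹ ∈ W := fun b hb w hw =>
    (mem_normalizer_iff.1 (hWn (mem_sup_left (hBD hb))) w).1 hw
  -- `C_W(T) ≤ C_W(X)`
  have key : W ⊓ centralizer ((B ⊓ X : Subgroup G) : Set G) ≤ W ⊓ centralizer (X : Set G) := by
    intro y hy
    by_contra hyX
    have hA : ∀ b ∈ B, ∀ p ∈ W ⊓ centralizer ((B ⊓ X : Subgroup G) : Set G),
        b * p * b⁻¹ ∈ W ⊓ centralizer ((B ⊓ X : Subgroup G) : Set G) := by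
      rintro b hb p ⟨hp, hpc⟩
      refine ⟨hBW b hb p hp, mem_centralizer_iff.2 fun t ht => ?_⟩
      have h1 : b⁻¹ * t * b ∈ B ⊓ X := by
        refine ⟨B.mul_mem (B.mul_mem (B.inv_mem hb) ht.1) hb, ?_⟩
        have := hDX b⁻¹ (inv_mem (hBD hb)) t ht.2
        rwa [inv_inv] at this
      have h2 := mem_centralizer_iff.1 hpc _ h1
      calc t * (b * p * b⁻¹) = b * (b⁻¹ * t * b * p) * b⁻¹ := by group
        _ = b * (p * (b⁻¹ * t * b)) * b⁻¹ := by rw [h2]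
        _ = b * p * b⁻¹ * t := by group
    have hA0 : ∀ b ∈ B, ∀ p ∈ W ⊓ centralizer (X : Set G), b * p * b⁻¹ ∈ W ⊓ centralizer (X : Set G) := by
      rintro b hb p ⟨hp, hpc⟩
      refine ⟨hBW b hb p hp, mem_centralizer_iff.2 fun t ht => ?_⟩
      have h1 : b⁻¹ * t * b ∈ X := by
        have := hDX b⁻¹ (inv_mem (hBD hb)) t ht
        rwa [inv_inv] at this
      have h2 := mem_centralizer_iff.1 hpc _ h1
      calc t * (b * p * b⁻¹) = b * (b⁻¹ * t * b * p) * b⁻¹ := by group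
        _ = b * (p * (b⁻¹ * t * b)) * b⁻¹ := by rw [h2]
        _ = b * p * b⁻¹ * t := by group
    obtain ⟨a, ha, haN, hab⟩ := exists_central_mod hsyl.2.1 (inf_le_left.trans hWB) hA hA0
      hy hyX
    apply haN
    obtain ⟨s, hs, hsX, hsB⟩ := exists_orbit_prod (T := B ⊓ X) (X := X) (B := B) hWc hW2 hXW inf_le_right hodd
      ha.1 (fun t ht => by rw [mem_centralizer_iff.1 ha.2 t ht, mul_inv_cancel_right])
      (fun b hb => hDX b (hBD hb)) hBW (fun b hb x hx => by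
        have h1 := (hab b hb).2
        rw [mem_centralizer_iff.1 h1 x hx, mul_inv_cancel_right])
    have h1 : a * s ∈ Z := by
      refine hCW ⟨mul_mem ha.1 hs, mem_centralizer_iff.2 fun b hb => ?_⟩
      exact mul_inv_eq_iff_eq_mul.1 (hsB b hb)
    refine ⟨ha.1, mem_centralizer_iff.2 fun x hx => ?_⟩
    have hxZ : x * (a * s) = a * s * x := (mem_centralizer_iff.1 (hDZ hx.2) _ h1).symm
    have hxs : x * s = s * x := mul_inv_eq_iff_eq_mul.1 (hsX x hx)
    have c1 : Commute x (a * s) := hxZ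
    have c2 : Commute x s := hxs
    have e1 : a = a * s * s⁻¹ := by group
    have c3 : Commute x a := by
      rw [e1]; exact c1.mul_right c2.inv_right
    exact c3.eq
  -- `N_Y(T)` normalises `X`
  have hN : ∀ n ∈ D ⊔ L, n ∈ normalizer ((B ⊓ K : Subgroup G) : Set G) → cj n X ≤ X := by
    intro n hn hnT
    rintro _ ⟨x, hx, rfl⟩
    change n * x * n⁻¹ ∈ X
    rw [hXZ]
    refine ⟨(mem_normalizer_iff.1 (hKn hn) x).1 hx.1, mem_centralizer_iff.2 fun z hz => ?_⟩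
    -- `z^n ∈ C_W(X)`
    have h1 : n⁻¹ * z * n ∈ W ⊓ centralizer (X : Set G) := by
      apply key
      refine ⟨(mem_normalizer_iff''.1 (hWn hn) z).1 (hZW hz), mem_centralizer_iff.2 fun t ht => ?_⟩
      rw [← hBK] at ht
      have h2 : n * t * n⁻¹ ∈ B ⊓ K := (mem_normalizer_iff.1 hnT t).1 ht
      have h3 : z * (n * t * n⁻¹) = n * t * n⁻¹ * z := mem_centralizer_iff.1 (hDZ (hBD h2.1)) z hz
      calc t * (n⁻¹ * z * n) = n⁻¹ * (n * t * n⁻¹ * z) * n := by group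
        _ = n⁻¹ * (z * (n * t * n⁻¹)) * n := by rw [h3]
        _ = n⁻¹ * z * n * t := by group
    have h4 := mem_centralizer_iff.1 h1.2 x hx
    calc z * (n * x * n⁻¹) = n * ((n⁻¹ * z * n) * x) * n⁻¹ := by group
      _ = n * (x * (n⁻¹ * z * n)) * n⁻¹ := by rw [h4]
      _ = n * x * n⁻¹ * z := by group
  refine sup_le (fun d hd => mem_normalizer_of_cj_le ?_) fun l hl => mem_normalizer_of_cj_le
    (hN l (mem_sup_right hl) (hT hl))
  rintro _ ⟨x, hx, rfl⟩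
  exact hDX d hd x hx

/-- if a subgroup of `K ∩ D` moves a conjugate of `Z`, then `L` does not normalise `B ∩ K` -/
theorem moves_of {B D L W K Z : Subgroup G} (hsyl : Syl B D) (hDZ : D ≤ centralizer (Z : Set G))
    (hWB : W ≤ B) (hWc : ∀ x ∈ W, ∀ y ∈ W, x * y = y * x) (hW2 : ∀ x ∈ W, x * x = 1)
    (hWn : D ⊔ L ≤ normalizer (W : Set G)) (hZW : Z ≤ W) (hCW : W ⊓ centralizer (B : Set G) ≤ Z)
    (hKY : K ≤ D ⊔ L) (hKn : D ⊔ L ≤ normalizer (K : Set G)) (hKD : K ⊓ centralizer (Z : Set G) ≤ D)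
    {F : Subgroup G} (hF : F ≤ K ⊓ D) {y : G} (hy : y ∈ D ⊔ L) (hFy : ¬ F ≤ centralizer (cj y Z : Set G)) :
    ¬ L ≤ normalizer ((B ⊓ K : Subgroup G) : Set G) := by
  intro hT
  have h1 := lemG hsyl hDZ hWB hWc hW2 hWn hZW hCW hKY hKn hKD hT
  apply hFy
  intro f hf
  refine mem_centralizer_iff.2 ?_
  rintro _ ⟨z, hz, rfl⟩
  change y * z * y⁻¹ * f = f * (y * z * y⁻¹)
  have h2 : y⁻¹ * f * y ∈ K ⊓ D := (mem_normalizer_iff''.1 (h1 hy) f).1 (hF hf)
  have h3 := mem_centralizer_iff.1 (hDZ h2.2) z hz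
  calc y * z * y⁻¹ * f = y * (z * (y⁻¹ * f * y)) * y⁻¹ := by group
    _ = y * (y⁻¹ * f * y * z) * y⁻¹ := by rw [h3]
    _ = f * (y * z * y⁻¹) := by group

end Cfsg.Agent.Omega.EDel.QP
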