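import Cfsg.Agent.Omega.EDel.Zero
import Cfsg.Agent.Omega.EDel.QP

/-!
# THEOREM DELTA: `(QP)`: `⟨D, L_i⟩ = K D` if `K ⊴ ⟨D, L_i⟩` and `K ∩ O` moves `N_i` (helper557, LEMMA G'')
-/

set_option autoImplicit false
set_option linter.unusedSectionVars false

namespace Cfsg.Agent.Omega.EDel

open Subgroup Cfsg Cfsg.Agent.ZN.ChoiceBase
open Cfsg.Agent.ZN (zc zl o2 jj)
open Cfsg.Agent.Omega.EK3 (CT mem_CT CT_mono)
open Cfsg.Agent.Omega.EK3.StarE (EE EE_le le_EE norm_EE le_norm_of_cj_le)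
open Cfsg.Agent.ZN.ChoiceSit (Syl)

universe u

variable {G : Type u} [Group G] {ι : Type} {B Q V X ZJ : Subgroup G} {L W Z C A : ι → Subgroup G} {z : ι → G}

namespace Zf

variable (h : Zf B Q V X ZJ L W Z C A z)
include h

/-- an element of `B` which moves `W i` maps `w ∈ W i - Z i` to `z i w` -/
theorem conj_of_moves {i : ι} {b : G} (hb : b ∈ B) (hbW : ¬ ∀ w ∈ W i, b * w = w * b) {w : G} (hw : w ∈ W i)
    (hwZ : w ∉ Z i) : b * w * b⁻¹ = z i * w := by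
  have h1 : b * w ≠ w * b := fun e => hwZ ((h.fr.blk i).mem_Z hb hbW hw e)
  have h2 : w * b * w⁻¹ * b⁻¹ ∈ Z i :=
    (h.fr.blk i).comm_le le_rfl (Subgroup.commutator_mem_commutator hw hb)
  rcases (h.hz i _).1 h2 with h3 | h3
  · exact absurd (by
      have h4 : w * b * w⁻¹ = b := mul_inv_eq_one.1 h3
      have h5 : w * b = b * w := mul_inv_eq_iff_eq_mul.1 h4
      exact h5.symm) h1
  · -- `w (b w⁻¹ b⁻¹) = z`
    have hsq : z i * z i = 1 := by rw [← pow_two]; exact h.ZJ_sq (h.z_mem i)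
    have h4 : (w * b * w⁻¹ * b⁻¹)⁻¹ = z i := by
      rw [h3]
      exact inv_eq_of_mul_eq_one_left hsq
    have h5 : b * w * b⁻¹ = (w * b * w⁻¹ * b⁻¹)⁻¹ * w := by group
    rw [h5, h4]

section fin

variable [Finite G] [Finite ι]

/-- `T = B ∩ K` moves `W i` if `L i` does not normalise it -/
theorem moves_W {i : ι} {K : Subgroup G} (hLK : L i ≤ normalizer (K : Set G))
    (hT : ¬ L i ≤ normalizer ((B ⊓ K : Subgroup G) : Set G)) : ∃ b ∈ B, b ∈ K ∧ ¬ ∀ w ∈ W i, b * w = w * b := by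
  by_contra hcon
  push Not at hcon
  refine hT (le_norm_of_cj_le fun l hl => ?_)
  rintro _ ⟨x, hx, rfl⟩
  exact ⟨(h.fr.blk i).cor l hl x hx.1 fun v hv => hcon x hx.1 hx.2 v hv,
    (mem_normalizer_iff.1 (hLK hl) x).1 hx.2⟩

/-- if `b ∈ B ∩ K` moves `W i`, then `L i ≤ K D` -/
theorem L_le_of_moves {i : ι} {K : Subgroup G} (hKT : K ≤ CT z ({i} : Set ι)ᶜ)
    (hLK : L i ≤ normalizer (K : Set G)) {b : G} (hb : b ∈ B) (hbK : b ∈ K) (hbW : ¬ ∀ w ∈ W i, b * w = w * b) :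
    L i ≤ K ⊔ centralizer (ZJ : Set G) := by
  have hF := h.fr.blk i
  obtain ⟨k, hk, hs⟩ := hF.sup
  have h2 : ⁅W i, B⁆ ≤ Z i := hF.comm_le le_rfl
  have hs' : W i ≤ Z i ⊔ cj k (Z i) := hs.trans (sup_le (h2.trans le_sup_left) ((cj_mono k h2).trans le_sup_right))
  have hziW : z i ∈ W i := hF.ZV (h.z_mem_Z i)
  set x₀ : G := k * z i * k⁻¹ with hx₀
  have hx₀W : x₀ ∈ W i := hF.nV k hk _ hziW
  have hne : ∀ g : G, g * z i * g⁻¹ ≠ 1 := fun g e => h.z_ne i (by simpa using e)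
  have hmemcj : ∀ x, x ∈ cj k (Z i) → x = 1 ∨ x = x₀ := by
    rintro _ ⟨y, hy, rfl⟩
    rcases (h.hz i y).1 hy with rfl | rfl
    · left
      simp
    · right
      rfl
  have hx₀Z : x₀ ∉ Z i := by
    intro hx
    have h3 : cj k (Z i) ≤ Z i := fun x hx' => by
      rcases hmemcj x hx' with rfl | rfl
      · exact one_mem _
      · exact hx
    have h4 : W i = Z i := le_antisymm (hs'.trans (sup_le le_rfl h3)) hF.ZV
    have h5 := hF.card
    rw [h4, h.fr.cardZ i] at h5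
    omega
  -- the elements of `W i`
  have hWel : ∀ x ∈ W i, x = 1 ∨ x = z i ∨ x = x₀ ∨ x = z i * x₀ := by
    intro x hx
    have hn : Z i ≤ normalizer (cj k (Z i) : Set G) := by
      refine le_trans (fun a ha => ?_) (centralizer_le_normalizer _)
      rw [mem_centralizer_iff]
      rintro c hc
      rcases hmemcj c hc with rfl | rfl
      · simp
      · exact hF.comm hx₀W (hF.ZV ha)
    obtain ⟨a, ha, c, hc, rfl⟩ := mem_sup_of_norm hn (hs' hx)
    rcases (h.hz i a).1 ha with rfl | rfl <;> rcases hmemcj c hc with rfl | rfl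
    · left; simp
    · right; right; left; simp
    · right; left; simp
    · right; right; right; rfl
  -- `b₁ = k b k⁻¹ ∈ K`, `b₁ z b₁⁻¹ = x₀ z`
  have hb₁ : k * b * k⁻¹ ∈ K := (mem_normalizer_iff.1 (hLK hk) b).1 hbK
  have hcomm : x₀ * z i = z i * x₀ := hF.comm hx₀W hziW
  have e1 : (k * b * k⁻¹) * z i * (k * b * k⁻¹)⁻¹ = z i * x₀ := by
    have hw' : k⁻¹ * z i * k ∈ W i := by
      have := hF.nV k⁻¹ (inv_mem hk) _ hziW
      rwa [inv_inv] at this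
    have hw'Z : k⁻¹ * z i * k ∉ Z i := by
      intro hz'
      rcases (h.hz i _).1 hz' with h3 | h3
      · exact h.z_ne i (by
          have : k * (k⁻¹ * z i * k) * k⁻¹ = 1 := by rw [h3]; simp
          simpa [mul_assoc] using this)
      · apply hx₀Z
        have h4 : x₀ = z i := by
          rw [hx₀]
          conv_lhs => rw [← h3]
          group
        rw [h4]
        exact h.z_mem_Z i
    have h3 := h.conj_of_moves hb hbW hw' hw'Z
    calc (k * b * k⁻¹) * z i * (k * b * k⁻¹)⁻¹ = k * (b * (k⁻¹ * z i * k) * b⁻¹) * k⁻¹ := by group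
      _ = k * (z i * (k⁻¹ * z i * k)) * k⁻¹ := by rw [h3]
      _ = x₀ * z i := by rw [hx₀]; group
      _ = z i * x₀ := hcomm
  have e2 : b * x₀ * b⁻¹ = z i * x₀ := h.conj_of_moves hb hbW hx₀W hx₀Z
  intro l hl
  -- `k' ∈ K` with `k' (l z l⁻¹) k'⁻¹ = z`
  obtain ⟨c, hc, ec⟩ : ∃ c ∈ K, c * (l * z i * l⁻¹) * c⁻¹ = z i := by
    rcases hWel _ (hF.nV l hl _ hziW) with h3 | h3 | h3 | h3
    · exact absurd h3 (hne l)
    · exact ⟨1, one_mem _, by rw [h3]; simp⟩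
    · refine ⟨(k * b * k⁻¹)⁻¹ * b, mul_mem (inv_mem hb₁) hbK, ?_⟩
      rw [h3]
      calc (k * b * k⁻¹)⁻¹ * b * x₀ * ((k * b * k⁻¹)⁻¹ * b)⁻¹
          = (k * b * k⁻¹)⁻¹ * (b * x₀ * b⁻¹) * (k * b * k⁻¹) := by group
        _ = (k * b * k⁻¹)⁻¹ * ((k * b * k⁻¹) * z i * (k * b * k⁻¹)⁻¹) * (k * b * k⁻¹) := by rw [e2, e1]
        _ = z i := by group
    · refine ⟨(k * b * k⁻¹)⁻¹, inv_mem hb₁, ?_⟩
      rw [h3, ← e1]
      group
  have hD : c * l ∈ centralizer (ZJ : Set G) := by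
    refine h.mem_D fun j => ?_
    by_cases hj : j = i
    · subst hj
      have h4 : c * l * z j * (c * l)⁻¹ = z j := by
        calc c * l * z j * (c * l)⁻¹ = c * (l * z j * l⁻¹) * c⁻¹ := by group
          _ = z j := ec
      exact mul_inv_eq_iff_eq_mul.1 h4
    · exact mem_CT.1 (mul_mem (hKT hc) (h.L_le_CT (T := ({i} : Set ι)ᶜ) (by simp) hl)) j hj
  have e : l = c⁻¹ * (c * l) := by group
  rw [e]
  exact mul_mem (mem_sup_left (inv_mem hc)) (mem_sup_right hD)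

/-- **(QP)** -/
theorem gen {i : ι} (h2 : ∃ l, l ≠ i) {K : Subgroup G} (hKY : K ≤ centralizer (ZJ : Set G) ⊔ L i)
    (hYK : centralizer (ZJ : Set G) ⊔ L i ≤ normalizer (K : Set G))
    (hm : ¬ K ⊓ o2 (centralizer (ZJ : Set G)) ≤
      centralizer (EE (zpowers (z i)) (centralizer (ZJ : Set G) ⊔ L i) : Set G)) :
    centralizer (ZJ : Set G) ⊔ L i ≤ K ⊔ centralizer (ZJ : Set G) := by
  set D : Subgroup G := centralizer (ZJ : Set G) with hD
  have hT : (({i} : Set ι)ᶜ).Nonempty := h2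
  have hYT : D ⊔ L i ≤ CT z ({i} : Set ι)ᶜ := h.DL_le_CT (by simp)
  have hO : o2 D ≤ D := Cfsg.Agent.ZN.o2_le _
  have hEO : EE ZJ (D ⊔ L i) ≤ o2 D := h.E_le_O hT hYT
  have hEeab := h.E_el hT hYT
  have hOB : o2 D ≤ B := by
    -- `O₂(D) ≤ B`
    exact h.o2_le_of le_rfl fun t ht _ => hO ht
  -- a conjugate of `ZJ` moved by `K ∩ O`
  obtain ⟨y, hy, hF⟩ : ∃ y ∈ D ⊔ L i, ¬ K ⊓ o2 D ≤ centralizer (cj y ZJ : Set G) := by
    by_contra hcon
    push Not at hcon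
    refine hm (le_centralizer_iff.1 (EE_le fun y hy => ?_))
    exact (cj_mono y (zpowers_le.2 (h.z_mem i))).trans (le_centralizer_iff.1 (hcon y hy))
  have hn := QP.moves_of (B := B) (D := D) (L := L i) (W := EE ZJ (D ⊔ L i)) (K := K) (Z := ZJ)
    ⟨h.B_le_D, h.Bp, fun R hR hR2 hBR => le_antisymm (h.syl R hR hR2 hBR) hBR⟩ le_rfl (hEO.trans hOB)
    (fun x hx y hy => SQ1.Bau.elem_comm hEeab x hx y hy)
    (fun x hx => by rw [← pow_two]; exact SQ1.Bau.elem_sq hEeab x hx) (norm_EE _ _) (le_EE _ _)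
    (fun x hx => by
      rw [← h.fr.zcB]
      exact mem_zc.2 ⟨hOB (hEO hx.1), SQ1.Bau.elem_sq hEeab x hx.1, fun y hy => mem_centralizer_iff.1 hx.2 y hy⟩)
    hKY hYK inf_le_right (F := K ⊓ o2 D) (inf_le_inf_left _ hO) hy hF
  obtain ⟨b, hb, hbK, hbW⟩ := h.moves_W (le_sup_right.trans hYK) hn
  exact sup_le le_sup_right (h.L_le_of_moves (hKY.trans hYT) (le_sup_right.trans hYK) hb hbK hbW)

end fin

end Zf

end Cfsg.Agent.Omega.EDel
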