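import Cfsg.Agent.Omega.EDel.NoOf
import Cfsg.Agent.Omega.EDel.Gen
import Cfsg.Agent.Omega.ESym.CoreS

/-!
# THEOREM S'' over `Zf`

`Y i = ⟨C_G(ZJ), L i⟩`, `N i = ⟨z i^(Y i)⟩`.

* `Zf.sy_of_norm`, `Zf.exists_sy` : an element which permutes the `z l` induces a symmetry (`cjY`: `N_G(B)` maps `L i` into
  `Y j` if it maps `z i` to `z j`);
* `Zf.core` : `CoreS.Core`;
* **`Zf.false_of`** : the end: no nontrivial 2-subgroup is normalised by all `Y i`, at least three indices, `tr`, `sw`.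
-/

set_option autoImplicit false
set_option linter.unusedSectionVars false

namespace Cfsg.Agent.Omega.EDel

open Subgroup Cfsg Cfsg.Agent.ZN.ChoiceBase
open Cfsg.Agent.ZN (zc zl o2 jj)
open Cfsg.Agent.Omega.EK3 (CT mem_CT CT_mono)
open Cfsg.Agent.Omega.EK3.StarE (EE EE_le EE_mono le_EE norm_EE cj_le_EE cj_iSup_le)
open Cfsg.Agent.Omega.ESym.CoreS (EI Sy Core)
open Cfsg.Agent.ZN.ChoiceSit (Syl)

universe u

variable {G : Type u} [Group G] {ι : Type} {B Q V X ZJ : Subgroup G} {L W Z C A : ι → Subgroup G} {z : ι → G}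

/-- `Y i = ⟨C_G(ZJ), L i⟩` -/
def YL (ZJ : Subgroup G) (L : ι → Subgroup G) (i : ι) : Subgroup G := centralizer (ZJ : Set G) ⊔ L i

/-- `N i = ⟨z i^(Y i)⟩` -/
def NL (ZJ : Subgroup G) (L : ι → Subgroup G) (z : ι → G) (i : ι) : Subgroup G := EE (zpowers (z i)) (YL ZJ L i)

theorem D_le_YL (i : ι) : centralizer (ZJ : Set G) ≤ YL ZJ L i := le_sup_left

/-- Frattini: `B` Sylow in `D`, `D` normalised by `g`. -/
theorem exists_norm_mul [Finite G] {B D : Subgroup G} (hB : Syl B D) {g : G} (hg : g ∈ normalizer (D : Set G)) :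
    ∃ c ∈ D, c * g ∈ normalizer (B : Set G) := by
  have e := cj_eq_of_mem_normalizer hg
  have h1 : Syl (cj g B) D := by
    refine ⟨e ▸ cj_mono g hB.1, isPGroup_cj g hB.2.1, fun Q hQ hQ2 hle => ?_⟩
    have h2 : cj g⁻¹ Q ≤ D := by
      have := cj_mono g⁻¹ hQ
      rwa [cj_eq_of_mem_normalizer (inv_mem hg)] at this
    have h3 : B ≤ cj g⁻¹ Q := by
      have := cj_mono g⁻¹ hle
      rwa [cj_inv_cj] at this
    have h4 := hB.2.2 _ h2 (isPGroup_cj _ hQ2) h3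
    rw [← h4, cj_cj_inv]
  obtain ⟨c, hc, hcB⟩ := ZN.ChoiceSit.syl_conj h1 hB
  refine ⟨c, hc, ?_⟩
  rw [mem_normalizer_iff_cj, ← cj_cj]
  exact hcB

namespace Zf

variable (h : Zf B Q V X ZJ L W Z C A z)
include h

theorem YL_le_CT (i : ι) : YL ZJ L i ≤ CT z ({i} : Set ι)ᶜ := h.DL_le_CT (by simp)

theorem syl_D [Finite G] : Syl B (centralizer (ZJ : Set G)) :=
  ⟨h.B_le_D, h.Bp, fun R hR hR2 hBR => le_antisymm (h.syl R hR hR2 hBR) hBR⟩

section norm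

variable [Finite G]

theorem norm_ZJ {g : G} (hg : g ∈ normalizer (B : Set G)) : g ∈ normalizer (ZJ : Set G) := by
  rw [mem_normalizer_iff_cj]
  conv_rhs => rw [← h.fr.zcB]
  conv_lhs => rw [← h.fr.zcB]
  rw [← LemmaK.Main.zc_cj, cj_eq_of_mem_normalizer hg]

/-- **a symmetry from `N_G(B)`** -/
theorem sy_of_norm
    (cjY : ∀ g ∈ normalizer (B : Set G), ∀ i j, g * z i * g⁻¹ = z j → cj g (L i) ≤ YL ZJ L j)
    {g : G} (hg : g ∈ normalizer (B : Set G)) {π : Equiv.Perm ι} (hπ : ∀ l, g * z l * g⁻¹ = z (π l)) :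
    Sy (o2 (centralizer (ZJ : Set G))) (YL ZJ L) (NL ZJ L z) g π := by
  have hY : ∀ g ∈ normalizer (B : Set G), ∀ i j, g * z i * g⁻¹ = z j → cj g (YL ZJ L i) ≤ YL ZJ L j := by
    intro g hg i j hij
    have e : cj g (YL ZJ L i) = cj g (centralizer (ZJ : Set G)) ⊔ cj g (L i) := Subgroup.map_sup _ _ _
    rw [e, cj_centralizer, cj_eq_of_mem_normalizer (h.norm_ZJ hg)]
    exact sup_le (D_le_YL j) (cjY g hg i j hij)
  have hN : ∀ g ∈ normalizer (B : Set G), ∀ i j, g * z i * g⁻¹ = z j → cj g (NL ZJ L z i) ≤ NL ZJ L z j := by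
    intro g hg i j hij
    refine cj_iSup_le fun y => ?_
    have h1 : g * y * g⁻¹ ∈ YL ZJ L j := hY g hg i j hij ⟨y, y.2, rfl⟩
    have h2 : cj g (zpowers (z i)) ≤ zpowers (z j) := by
      rintro _ ⟨x, hx, rfl⟩
      obtain ⟨n, rfl⟩ := mem_zpowers_iff.1 hx
      refine mem_zpowers_iff.2 ⟨n, ?_⟩
      show z j ^ n = g * z i ^ n * g⁻¹
      rw [← conj_zpow, hij]
    have h3 : cj g (cj (y : G) (zpowers (z i))) = cj (g * y * g⁻¹) (cj g (zpowers (z i))) := by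
      rw [cj_cj, cj_cj]
      congr 1
      group
    rw [h3]
    exact (cj_mono _ h2).trans (cj_le_EE h1)
  have hinv : ∀ l, g⁻¹ * z (π l) * g⁻¹⁻¹ = z l := fun l => by
    rw [← hπ l]; group
  have hg' : g⁻¹ ∈ normalizer (B : Set G) := inv_mem hg
  refine ⟨?_, fun l => le_antisymm (hY g hg _ _ (hπ l)) ?_, fun l => le_antisymm (hN g hg _ _ (hπ l)) ?_⟩
  · have h1 : g ∈ normalizer (centralizer (ZJ : Set G) : Set G) := by
      rw [mem_normalizer_iff_cj, cj_centralizer, cj_eq_of_mem_normalizer (h.norm_ZJ hg)]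
    exact cj_eq_of_mem_normalizer (ZN.normalizer_le_normalizer_o2 _ h1)
  · have h1 := cj_mono g (hY _ hg' _ _ (hinv l))
    rwa [cj_cj_inv] at h1
  · have h1 := cj_mono g (hN _ hg' _ _ (hinv l))
    rwa [cj_cj_inv] at h1

variable [Finite ι]

/-- an element which permutes the `z l` normalises `ZJ` -/
theorem norm_of_perm {g : G} {π : Equiv.Perm ι} (hπ : ∀ l, g * z l * g⁻¹ = z (π l)) :
    g ∈ normalizer (ZJ : Set G) := by
  have key : ∀ (g : G) (π : Equiv.Perm ι), (∀ l, g * z l * g⁻¹ = z (π l)) → cj g ZJ ≤ ZJ := by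
    intro g π hπ
    refine (cj_mono g (ZJ_le_iSup (OM.Lev.Main.toFg h.fr))).trans (cj_iSup_le fun l => ?_)
    rintro _ ⟨x, hx, rfl⟩
    rcases (h.hz l x).1 hx with rfl | rfl
    · show g * 1 * g⁻¹ ∈ ZJ
      rw [mul_one, mul_inv_cancel]
      exact one_mem _
    · show g * z l * g⁻¹ ∈ ZJ
      rw [hπ]
      exact h.z_mem _
  refine EK3.StarE.norm_of_cj_le (key g π hπ) (key g⁻¹ π⁻¹ fun l => ?_)
  have h1 := hπ (π⁻¹ l)
  rw [show π (π⁻¹ l) = l by simp] at h1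
  rw [← h1]; group

/-- **any element which permutes the `z l`** -/
theorem exists_sy
    (cjY : ∀ g ∈ normalizer (B : Set G), ∀ i j, g * z i * g⁻¹ = z j → cj g (L i) ≤ YL ZJ L j)
    {g : G} {π : Equiv.Perm ι} (hπ : ∀ l, g * z l * g⁻¹ = z (π l)) :
    ∃ g', Sy (o2 (centralizer (ZJ : Set G))) (YL ZJ L) (NL ZJ L z) g' π := by
  have hn : g ∈ normalizer (centralizer (ZJ : Set G) : Set G) := by
    rw [mem_normalizer_iff_cj, cj_centralizer, cj_eq_of_mem_normalizer (h.norm_of_perm hπ)]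
  obtain ⟨c, hc, hcB⟩ := exists_norm_mul h.syl_D hn
  refine ⟨c * g, h.sy_of_norm cjY hcB fun l => ?_⟩
  have h2 : z (π l) * c = c * z (π l) := mem_centralizer_iff.1 hc _ (h.z_mem _)
  calc c * g * z l * (c * g)⁻¹ = c * (g * z l * g⁻¹) * c⁻¹ := by group
    _ = c * z (π l) * c⁻¹ := by rw [hπ]
    _ = z (π l) := by rw [← h2]; group

/-- **`CoreS.Core` over `Zf`** -/
theorem core [Nonempty ι] (hML : ML.Final.MLK.{u, u}) (hK : ∀ i, IsKGroup (YL ZJ L i))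
    (three : ∀ i j : ι, ∃ l, l ≠ i ∧ l ≠ j)
    (tr : ∀ i j, ∃ g, ∃ σ : Equiv.Perm ι,
      Sy (o2 (centralizer (ZJ : Set G))) (YL ZJ L) (NL ZJ L z) g σ ∧ σ i = j)
    (sw : ∀ i j, i ≠ j → ∃ g, ∃ σ : Equiv.Perm ι,
      Sy (o2 (centralizer (ZJ : Set G))) (YL ZJ L) (NL ZJ L z) g σ ∧
        ((σ i = i ∧ σ j ≠ j) ∨ (σ i = j ∧ σ j = i))) :
    Core (o2 (centralizer (ZJ : Set G))) (centralizer (ZJ : Set G)) ZJ (YL ZJ L) (NL ZJ L z) where
  two := MinSimple.VModule.o2_isPGroup _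
  OY i := (Cfsg.Agent.ZN.o2_le _).trans (D_le_YL i)
  OZ := Cfsg.Agent.ZN.o2_le _
  DY := D_le_YL
  three := three
  ne := inferInstance
  eab I hI := h.EI_el h.YL_le_CT hI
  NE i := (h.N_le_EE i _).trans (EE_mono (le_iSup (fun i : ({i} : Set ι) => YL ZJ L i) ⟨i, rfl⟩))
  YN i := norm_EE _ _
  YQ i := h.YQ (D_le_YL i) (h.YL_le_CT i)
  no i := by
    obtain ⟨l, hl, -⟩ := three i i
    exact h.no hML (hK i) (D_le_YL i) (h.YL_le_CT i) ⟨l, hl⟩
  gen i K hKY hYK hm := by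
    obtain ⟨l, hl, -⟩ := three i i
    exact h.gen ⟨l, hl⟩ hKY hYK hm
  tr := tr
  sw := sw

/-- **THEOREM S'' over `Zf`.** -/
theorem false_of [Nonempty ι] (hML : ML.Final.MLK.{u, u}) (hK : IsKProper G)
    (cjY : ∀ g ∈ normalizer (B : Set G), ∀ i j, g * z i * g⁻¹ = z j → cj g (L i) ≤ YL ZJ L j)
    (nl : ∀ U : Subgroup G, U ≠ ⊥ → IsPGroup 2 U → ¬ ∀ i, YL ZJ L i ≤ normalizer (U : Set G))
    (three : ∀ i j : ι, ∃ l, l ≠ i ∧ l ≠ j)
    (tr : ∀ i j, ∃ g, ∃ π : Equiv.Perm ι, (∀ l, g * z l * g⁻¹ = z (π l)) ∧ π i = j)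
    (sw : ∀ i j, i ≠ j → ∃ g, ∃ π : Equiv.Perm ι, (∀ l, g * z l * g⁻¹ = z (π l)) ∧
      ((π i = i ∧ π j ≠ j) ∨ (π i = j ∧ π j = i))) : False := by
  obtain ⟨i₀⟩ := ‹Nonempty ι›
  have : Nonempty ι := ⟨i₀⟩
  have hKi : ∀ i, IsKGroup (YL ZJ L i) := by
    intro i
    refine hK _ fun e => ?_
    obtain ⟨l, hl, -⟩ := three i i
    -- `z l` is central in `G`
    have h1 : ∀ g : G, g * z l = z l * g := fun g =>
      mem_CT.1 (h.YL_le_CT i (by rw [e]; exact mem_top g)) l hl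
    refine nl (zpowers (z l)) (fun e1 => h.z_ne l (zpowers_eq_bot.1 e1)) ?_ fun j g _ => ?_
    · refine h.Bp.to_le (zpowers_le.2 ?_)
      have h2 : z l ∈ zc B := by
        rw [h.fr.zcB]
        exact h.z_mem l
      exact (mem_zc.1 h2).1
    · rw [mem_normalizer_iff_cj]
      refine cj_eq_of_mem_normalizer (centralizer_le_normalizer _ (mem_centralizer_iff.2 fun x hx => ?_))
      obtain ⟨n, rfl⟩ := hx
      exact ((show Commute g (z l) from h1 g).zpow_right n).eq.symm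
  have hO : o2 (centralizer (ZJ : Set G)) ≠ ⊥ := by
    intro e
    obtain ⟨l, hl, -⟩ := three i₀ i₀
    have h1 : z i₀ ∈ EE ZJ (YL ZJ L i₀) := h.N_le_EE i₀ _ (z_mem_EE i₀ _)
    have h2 := h.E_le_O (T := ({i₀} : Set ι)ᶜ) ⟨l, hl⟩ (h.YL_le_CT i₀) h1
    rw [e, mem_bot] at h2
    exact h.z_ne i₀ h2
  obtain ⟨R, hR, hR2, hn⟩ := (h.core hML hKi three
    (fun i j => by
      obtain ⟨g, π, hπ, h1⟩ := tr i j
      obtain ⟨g', hs⟩ := h.exists_sy cjY hπ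
      exact ⟨g', π, hs, h1⟩)
    (fun i j hij => by
      obtain ⟨g, π, hπ, h1⟩ := sw i j hij
      obtain ⟨g', hs⟩ := h.exists_sy cjY hπ
      exact ⟨g', π, hs, h1⟩)).local hO
  exact nl R hR hR2 hn

end norm

end Zf

end Cfsg.Agent.Omega.EDel
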