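import Cfsg.Agent.Omega.ESym.Swap
import Cfsg.Agent.Omega.OM.Lev.Sym
import Cfsg.Agent.Omega.OM.Line
import Cfsg.Agent.Omega.EK3.StarE
import Cfsg.Agent.Omega.Node.MultiOf

/-!
# THEOREM S'' (#23971), [D]: `N_G(B)` on the light pairs (symmetric types)

`d i = {X i, Y i}` in the factor `J i` (`Ch`), `B` a Sylow 2-subgroup of `C_G(Z_J)`, `Z_J = ⟨d i⟩`.

* `Pm d g σ` : `g d_l g⁻¹ = d_(σ l)`;
* `Mv B d` : `tr` transitive; `sw` : for `i ≠ j` some `g ∈ N(B)` fixes `i` and moves `j`, or interchanges them;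
  `tp` : some `g ∈ N(B)` acts as a transposition;
* `mv_of` : from `SyL`, `Ch` (`m ≥ 2`);  `three_of` : at least three pairs (`k ≥ 2` or `m ≥ 3`);
* `exists_mv_neg`, `exists_mv_lev` : `Line.exists_sym` (stage `-1`) and `Lev.Sym.exists_sym_lev` with `Mv`;
* `cj_Y`, `cj_N` : the action of `g ∈ N(B)`, `Pm d g σ`, on `Y i = ⟨C(Z_J), L i⟩` and `N i = ⟨d_i^(Y i)⟩`, from UNI.
-/

set_option autoImplicit false
set_option linter.unusedSectionVars false
set_option linter.unusedVariables false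

namespace Cfsg.Agent.Omega.EDel

open Subgroup Cfsg Cfsg.Agent.ZN Cfsg.Agent.ZN.ChoiceBase Cfsg.Agent.ZN.ChoiceSit
open Cfsg.Agent.Omega.FFThm (ActsSym SymK SymKM)
open Cfsg.Agent.Omega.FrameFF (cv)
open Cfsg.Agent.Omega.SQ1.FFSym
open Cfsg.Agent.Omega.OM.Lev.SymIn Cfsg.Agent.Omega.OM.Lev.SymIn.SyL
open Cfsg.Agent.Omega.OM
open Cfsg.Agent.Omega.NO3S (HypJ)
open scoped Pointwise

universe v

variable {G : Type v} [Group G]

theorem cj_sup (g : G) (H K : Subgroup G) : cj g (H ⊔ K) = cj g H ⊔ cj g K := Subgroup.map_sup H K _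

/-- `g d_l g⁻¹ = d_(σ l)` -/
def Pm {ι : Type*} (d : ι → G) (g : G) (σ : Equiv.Perm ι) : Prop := ∀ l, g * d l * g⁻¹ = d (σ l)

/-- `N_G(B)` on the `d i`. -/
structure Mv {ι : Type*} (B : Subgroup G) (d : ι → G) : Prop where
  inj : Function.Injective d
  tr : ∀ i j, ∃ g ∈ normalizer (B : Set G), ∃ σ, Pm d g σ ∧ σ i = j
  sw : ∀ i j, i ≠ j → ∃ g ∈ normalizer (B : Set G), ∃ σ, Pm d g σ ∧ ((σ i = i ∧ σ j ≠ j) ∨ (σ i = j ∧ σ j = i))
  tp : ∃ a b, a ≠ b ∧ ∃ g ∈ normalizer (B : Set G), ∃ σ, Pm d g σ ∧ σ a = b ∧ σ b = a ∧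
    ∀ l, l ≠ a → l ≠ b → σ l = l

/-- A conjugation which maps the `d i` to `d i`'s permutes them. -/
theorem exists_pm {ι : Type*} [Finite ι] {d : ι → G} (hd : Function.Injective d) {g : G}
    (hg : ∀ l, ∃ l', g * d l * g⁻¹ = d l') : ∃ σ, Pm d g σ := by
  choose f hf using hg
  have hinj : Function.Injective f := by
    intro a b hab
    apply hd
    have h1 := (hf a).trans ((congrArg d hab).trans (hf b).symm)
    exact mul_left_cancel (mul_right_cancel h1)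
  exact ⟨Equiv.ofBijective f (Finite.injective_iff_bijective.1 hinj), hf⟩

/-- Frattini: `B` a Sylow 2-subgroup of `C(Z_J)`, `g ∈ N(Z_J)`. -/
theorem frattini [Finite G] {B ZJ : Subgroup G} (hB : Syl B (centralizer (ZJ : Set G))) {g : G}
    (hg : g ∈ normalizer (ZJ : Set G)) : ∃ c ∈ centralizer (ZJ : Set G), c * g ∈ normalizer (B : Set G) := by
  have e : cj g (centralizer (ZJ : Set G)) = centralizer (ZJ : Set G) := by
    rw [cj_centralizer, cj_eq_of_mem_normalizer hg]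
  have h1 : Syl (cj g B) (centralizer (ZJ : Set G)) := by
    refine ⟨e ▸ cj_mono g hB.1, isPGroup_cj g hB.2.1, fun Q hQ hQ2 hle => ?_⟩
    have h2 : cj g⁻¹ Q ≤ centralizer (ZJ : Set G) := by
      have := cj_mono g⁻¹ hQ
      rw [← e, cj_inv_cj] at this
      exact this
    have h3 : B ≤ cj g⁻¹ Q := by
      have := cj_mono g⁻¹ hle
      rwa [cj_inv_cj] at this
    have h4 := hB.2.2 _ h2 (isPGroup_cj _ hQ2) h3
    rw [← h4, cj_cj_inv]
  obtain ⟨c, hc, hcB⟩ := syl_conj h1 hB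
  refine ⟨c, hc, ?_⟩
  rw [mem_normalizer_iff_cj, ← cj_cj]
  exact hcB

/-- the same, with the action on the `d i` -/
theorem frattini_pm [Finite G] {ι : Type*} {B ZJ : Subgroup G} {d : ι → G} (hB : Syl B (centralizer (ZJ : Set G)))
    (hZ : ZJ = closure (Set.range d)) {g : G} {σ : Equiv.Perm ι} (hg : Pm d g σ) :
    ∃ g' ∈ normalizer (B : Set G), Pm d g' σ := by
  have hn : g ∈ normalizer (ZJ : Set G) := by
    rw [mem_normalizer_iff_cj, hZ]
    unfold cj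
    rw [MonoidHom.map_closure, ← Set.range_comp]
    congr 1
    ext x
    simp only [Set.mem_range, Function.comp_apply]
    constructor
    · rintro ⟨l, rfl⟩
      exact ⟨σ l, (hg l).symm⟩
    · rintro ⟨l, rfl⟩
      refine ⟨σ.symm l, ?_⟩
      have h1 := hg (σ.symm l)
      rw [Equiv.apply_symm_apply] at h1
      exact h1
  obtain ⟨c, hc, hcB⟩ := frattini hB hn
  refine ⟨c * g, hcB, fun l => ?_⟩
  have h1 : d (σ l) ∈ ZJ := hZ ▸ subset_closure ⟨σ l, rfl⟩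
  have h2 : d (σ l) * c = c * d (σ l) := mem_centralizer_iff.1 hc _ h1
  calc c * g * d l * (c * g)⁻¹ = c * (g * d l * g⁻¹) * c⁻¹ := by group
    _ = c * d (σ l) * c⁻¹ := by rw [hg l]
    _ = d (σ l) := by rw [← h2]; group

section syl

variable {T H Q V D Jg : Subgroup G} {AA : Set (Subgroup G)} {k n : ℕ} {o : Fin n}
  {e : G → Fin k → Fin n → ZMod 2} {ι : Type} {J : ι → Fin k} {X Y : ι → Fin n} {t r : ι → G}
  (h : SyL T H Q V Jg D AA o e) (c : Ch Jg H V D o e J X Y t r)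
include h c

theorem d_inj : Function.Injective fun i => u H V D e (J i) (X i) (Y i) := fun i j hij => c.inj i j hij

/-- `T` permutes the `d i` -/
theorem exists_pm_T [Finite G] [Finite ι] {s : G} (hs : s ∈ T) :
    ∃ σ, Pm (fun i => u H V D e (J i) (X i) (Y i)) s σ := by
  refine exists_pm (d_inj h c) fun l => ?_
  obtain ⟨σ, τ, ha, -⟩ := h.exists_act hs
  have h1 := (c.tr l).conj h hs ha
  obtain ⟨l', hl'⟩ := c.ex _ _ _ h1
  exact ⟨l', by rw [h.u_conj (h.TH hs) ha, hl']⟩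

/-- `T` is transitive on the `d i` -/
theorem exists_tr_T [Finite G] [Finite ι] (i j : ι) :
    ∃ s ∈ T, ∃ σ, Pm (fun i => u H V D e (J i) (X i) (Y i)) s σ ∧ σ i = j := by
  -- the factor
  obtain ⟨s₁, hs₁, σ₁, τ₁, ha₁, hσ₁⟩ := h.trans (J i) (J j)
  have h1 := (c.tr i).conj h hs₁ ha₁
  have e1 := h.u_conj (h.TH hs₁) ha₁ (J i) (X i) (Y i)
  rw [hσ₁] at h1 e1
  -- the point
  obtain ⟨s₂, hs₂, π, hπ, hπx⟩ := h.cyc_T Cfsg.Agent.Omega.SQ1.SymCyc.exists_pow (J j) (h1.ne h).1.symm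
    ((c.tr j).ne h).1.symm
  have h2 := h1.conj h hs₂ hπ.act
  have e2 := h.u_conj (h.TH hs₂) hπ.act (J j) (τ₁ (J i) (X i)) (τ₁ (J i) (Y i))
  rw [Equiv.Perm.one_apply, Pi.mulSingle_eq_same, hπx] at h2 e2
  have h3 := h2.disj h (c.tr j)
  rw [h3] at e2
  have hs : s₂ * s₁ ∈ T := mul_mem hs₂ hs₁
  obtain ⟨σ, hσ⟩ := exists_pm_T h c hs
  refine ⟨_, hs, σ, hσ, ?_⟩
  apply d_inj h c
  have h4 := hσ i
  simp only at h4 ⊢
  rw [← h4]
  calc s₂ * s₁ * u H V D e (J i) (X i) (Y i) * (s₂ * s₁)⁻¹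
      = s₂ * (s₁ * u H V D e (J i) (X i) (Y i) * s₁⁻¹) * s₂⁻¹ := by group
    _ = _ := by rw [e1, e2]

/-- a further pair in the factor of `i`, avoiding a set of points -/
theorem exists_idx_of [Finite G] (j : Fin k) (F : Finset (Fin n)) (hF : F.card < n) (ho : o ∈ F) :
    ∃ l, J l = j ∧ (X l ∉ F ∨ Y l ∉ F) := by
  obtain ⟨x, hx⟩ : ∃ x, x ∉ F := by
    by_contra hcon
    push Not at hcon
    have : F = Finset.univ := Finset.eq_univ_of_forall hcon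
    rw [this, Finset.card_univ, Fintype.card_fin] at hF
    omega
  obtain ⟨y, hy⟩ := h.cover Cfsg.Agent.Omega.SQ1.SymCyc.exists_pow j (fun e : x = o => hx (e ▸ ho))
  obtain ⟨l, hl, -, -, h1⟩ := c.exists_idx h hy
  refine ⟨l, hl, ?_⟩
  rcases h1 with ⟨h1, -⟩ | ⟨-, h1⟩
  · exact Or.inl (by rw [h1]; exact hx)
  · exact Or.inr (by rw [h1]; exact hx)

/-- the partner -/
theorem exists_partner [Finite G] (hn : 5 ≤ n) (i : ι) : ∃ l, l ≠ i ∧ J l = J i := by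
  classical
  obtain ⟨l, hl, h1⟩ := exists_idx_of h c (J i) {o, X i, Y i} (lt_of_le_of_lt Finset.card_le_three (by omega))
    (by simp)
  refine ⟨l, ?_, hl⟩
  rintro rfl
  rcases h1 with h1 | h1 <;> exact h1 (by simp)

/-- at least three pairs -/
theorem three_of [Finite G] (hn : 5 ≤ n) (hkn : 2 ≤ k ∨ 6 ≤ n) (i j : ι) : ∃ l, l ≠ i ∧ l ≠ j := by
  classical
  by_cases hJ : J j = J i
  · rcases hkn with hk | hn'
    · -- another factor
      obtain ⟨j', hj'⟩ : ∃ j' : Fin k, j' ≠ J i := by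
        have : Nontrivial (Fin k) := Fin.nontrivial_iff_two_le.2 hk
        exact exists_ne _
      obtain ⟨l, hl, -⟩ := exists_idx_of h c j' {o} (by simp; omega) (by simp)
      refine ⟨l, ?_, ?_⟩
      · rintro rfl; exact hj' hl.symm
      · rintro rfl; exact hj' (hl.symm.trans hJ)
    · obtain ⟨l, hl, h1⟩ := exists_idx_of h c (J i) {o, X i, Y i, X j, Y j}
        (lt_of_le_of_lt Finset.card_le_five (by omega)) (by simp)
      refine ⟨l, ?_, ?_⟩ <;> (rintro rfl; rcases h1 with h1 | h1 <;> exact h1 (by simp))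
  · obtain ⟨l, hl, hJl⟩ := exists_partner h c hn i
    exact ⟨l, hl, fun e => hJ (by rw [← e]; exact hJl)⟩

/-- the interchange of two pairs of one factor, as an element of `N_G(B)` -/
theorem exists_swap_B [Finite G] [Finite ι] {B ZJ : Subgroup G} (hB : Syl B (centralizer (ZJ : Set G)))
    (hZ : ZJ = closure (Set.range fun i => u H V D e (J i) (X i) (Y i))) {i j : ι} (hij : i ≠ j) (hJ : J i = J j) :
    ∃ g ∈ normalizer (B : Set G), ∃ σ, Pm (fun i => u H V D e (J i) (X i) (Y i)) g σ ∧ σ i = j ∧ σ j = i ∧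
      ∀ l, l ≠ i → l ≠ j → σ l = l := by
  classical
  obtain ⟨g, -, h1, h2, h3⟩ := ESym.exists_swap h c hij hJ
  have hP : Pm (fun i => u H V D e (J i) (X i) (Y i)) g (Equiv.swap i j) := by
    intro l
    by_cases hi : l = i
    · subst hi
      rw [Equiv.swap_apply_left]
      exact h1
    · by_cases hj : l = j
      · subst hj
        rw [Equiv.swap_apply_right]
        exact h2
      · rw [Equiv.swap_apply_of_ne_of_ne hi hj]
        exact h3 l hi hj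
  obtain ⟨g', hg', hP'⟩ := frattini_pm hB hZ hP
  exact ⟨g', hg', _, hP', Equiv.swap_apply_left _ _, Equiv.swap_apply_right _ _,
    fun l hi hj => Equiv.swap_apply_of_ne_of_ne hi hj⟩

/-- **`Mv` from the coordinates.** -/
theorem mv_of [Finite G] [Finite ι] (hn : 5 ≤ n) {B ZJ : Subgroup G} (hB : Syl B (centralizer (ZJ : Set G)))
    (hZ : ZJ = closure (Set.range fun i => u H V D e (J i) (X i) (Y i))) (hT : T ≤ normalizer (B : Set G)) :
    Mv B fun i => u H V D e (J i) (X i) (Y i) where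
  inj := d_inj h c
  tr := fun i j => by
    obtain ⟨s, hs, σ, hσ, hij⟩ := exists_tr_T h c i j
    exact ⟨s, hT hs, σ, hσ, hij⟩
  sw := fun i j hij => by
    by_cases hJ : J i = J j
    · obtain ⟨g, hg, σ, hσ, h1, h2, -⟩ := exists_swap_B h c hB hZ hij hJ
      exact ⟨g, hg, σ, hσ, Or.inr ⟨h1, h2⟩⟩
    · obtain ⟨l, hl, hJl⟩ := exists_partner h c hn j
      obtain ⟨g, hg, σ, hσ, h1, h2, h3⟩ := exists_swap_B h c hB hZ hl hJl
      refine ⟨g, hg, σ, hσ, Or.inl ⟨h3 i ?_ hij, ?_⟩⟩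
      · rintro rfl; exact hJ hJl
      · rw [h2]; exact hl
  tp := by
    obtain ⟨j, x, y, hT⟩ := h.exists_tr
    obtain ⟨i, -⟩ := c.ex j x y hT
    obtain ⟨l, hl, hJl⟩ := exists_partner h c hn i
    obtain ⟨g, hg, σ, hσ, h1, h2, h3⟩ := exists_swap_B h c hB hZ hl hJl
    exact ⟨l, i, hl, g, hg, σ, hσ, h1, h2, h3⟩

end syl

/-! ### Stage `-1`: `SyT` as `SyL` -/

section neg

variable {T H Q V D : Subgroup G} {k n : ℕ} {o : Fin n} {e : G → Fin k → Fin n → ZMod 2} {ι : Type}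
  {J : ι → Fin k} {X Y : ι → Fin n} {t r : ι → G}

theorem syL_of_syT [Finite G] (h : SyT T H Q V D o e) : SyL T H Q V (jj T) D (AA T) o e :=
  { h with
    JT := ChoiceBase.jj_le T
    Jn := fun x hx y hy => SyT.J_norm hx hy
    AJ := fun A hA => le_jj hA
    Jle := by rw [jj_eq]; exact le_sup_left }

theorem ch_of_ch (c : SQ1.FFSym.SyT.Ch T H V D o e J X Y t r) : Ch (jj T) H V D o e J X Y t r where
  tr := c.tr
  tJ := c.tJ
  tg := c.tg
  rg := c.rg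
  inj := c.inj
  ex := c.ex

end neg

/-- `S ≤ N(C_S(Z_J))` -/
theorem le_norm_cent {S ZJ : Subgroup G} (hZ : S ≤ normalizer (ZJ : Set G)) :
    S ≤ normalizer ((S ⊓ centralizer (ZJ : Set G) : Subgroup G) : Set G) := by
  intro s hs
  rw [mem_normalizer_iff_cj, cj_inf, cj_centralizer, cj_eq_of_mem_normalizer (hZ hs),
    cj_eq_of_mem_normalizer (Subgroup.le_normalizer hs)]

/-- **Stage `-1`, symmetric modules (`m ≥ 2`)**: `Line.exists_sym` with `Mv`. -/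
theorem exists_mv_neg [Finite G] {S : Sylow 2 G} {P : Subgroup G} (h : HypJ S P) {k m : ℕ} (hk : 0 < k) (hm : 2 ≤ m)
    (N : SymK (S : Subgroup G) P (zl (S : Subgroup G) P) (cv (S : Subgroup G) P) k m) :
    ∃ (ι : Type) (_ : Finite ι) (W : ι → Subgroup G) (d t r : ι → G) (L A : ι → Subgroup G),
      OM.SymOut (S : Subgroup G) P (zl (S : Subgroup G) P) W d t r ∧
      (∀ i, SQ1.BauS.Blk P (S : Subgroup G) (zl (S : Subgroup G) P) d r i (L i)) ∧
      (∀ x ∈ (S : Subgroup G), ∀ i j, x * d i * x⁻¹ = d j → cj x (L i) = L j) ∧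
      (∀ i, A i ∈ AA (S : Subgroup G)) ∧
      Line S P L W (fun i => zpowers (d i)) (fun i => FrSym.CC W i) A 2 ∧
      Mv (bau (S : Subgroup G)) d ∧ ((2 ≤ k ∨ 3 ≤ m) → ∀ i j : ι, ∃ l, l ≠ i ∧ l ≠ j) := by
  obtain ⟨ι, J, X, Y, t, r, h0, hc0, h2⟩ := symOut h.toHyp.syl h.star.toIsMinPar
    (h.star.isLoc.char2 S h.ctx.char2) h.jnot hk (by omega) N h.toHyp.cv
  obtain ⟨L, A, hL, hc, hA, hF⟩ := FrSym.symFr h2 (Uni.mx_sylow S)
  have hfin : Finite ι := h2.bau.finite_index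
  have h4 : 2 ^ 2 ≤ 2 ^ m := Nat.pow_le_pow_right (by norm_num) hm
  have h5 : 5 ≤ 2 ^ m + 1 := by omega
  have hl := syL_of_syT h0
  have hch := ch_of_ch hc0
  have eqB : bau (S : Subgroup G) = (S : Subgroup G) ⊓ centralizer (zj (S : Subgroup G) : Set G) := rfl
  have hZ : (S : Subgroup G) ≤ normalizer (zj (S : Subgroup G) : Set G) :=
    (Line.S_le S).trans (by rw [← ChoiceBase.zc_bau]; exact normalizer_le_of_cj (F := zc) LemmaK.Main.zc_cj _)
  refine ⟨ι, hfin, _, _, t, r, L, A, h2, hL, hc, hA, ⟨h, hF, fun i => ?_⟩, ?_, fun hkm => ?_⟩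
  · obtain ⟨l, hl', -⟩ := exists_partner hl hch h5 i
    exact ⟨l, hl'⟩
  · exact mv_of hl hch h5 (WOneG.syl_B S eqB hZ) h2.zj_eq (Line.S_le S)
  · refine three_of hl hch h5 ?_
    rcases hkm with h6 | h6
    · exact Or.inl h6
    · have h7 : 2 ^ 3 ≤ 2 ^ m := Nat.pow_le_pow_right (by norm_num) h6
      exact Or.inr (by omega)

/-! ### Stage `n` -/

section lev

open Cfsg.Agent.Omega.OM.Lev.Sym
open Cfsg.Agent.Omega.OM.Lev.SIn (In In0 ZJ BB Blk mem_ZJ mem_BB)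
open Cfsg.Agent.Omega.OM.Lev.Uni (FrL Best)
open Cfsg.Agent.Omega.NO3S.OneLine (Exa BFam)
open Cfsg.Agent.Omega.OM.FrSym (CC)
open Cfsg.Agent.Omega.NO3S.Level (Lev BO nxt)
open Cfsg.Agent.Omega.MinPar (IsParS)

variable [Finite G] {S : Sylow 2 G} {P X : Subgroup G} {AA : Set (Subgroup G)}

/-- **The symmetric frame** (`m ≥ 2`) with `Mv`. -/
theorem exists_mv {K : Subgroup G} (h : Exa S P X K AA) {Jg : Subgroup G} {k m : ℕ} (hk : 0 < k) (hm : 2 ≤ m)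
    (N : SymKM (S : Subgroup G) P (zl (S : Subgroup G) P) (cv (S : Subgroup G) P) k m)
    (JT : Jg ≤ (S : Subgroup G)) (Jn : ∀ x ∈ (S : Subgroup G), ∀ y ∈ Jg, x * y * x⁻¹ ∈ Jg)
    (AJ : ∀ A ∈ AA, A ≤ Jg) (Jle : Jg ≤ sSup AA ⊔ ((S : Subgroup G) ⊓ centralizer (X : Set G))) :
    ∃ (ι : Type) (_ : Finite ι) (W : ι → Subgroup G) (d t r : ι → G) (Lb A : ι → Subgroup G),
      SymOut (S : Subgroup G) P (zl (S : Subgroup G) P) Jg W d t r ∧
      (∀ i, Blk P (S : Subgroup G) (zl (S : Subgroup G) P) (ZJ (zl (S : Subgroup G) P) Jg) d r i (Lb i)) ∧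
      (∀ x ∈ (S : Subgroup G), ∀ i j, x * d i * x⁻¹ = d j → cj x (Lb i) = Lb j) ∧
      (∀ i, A i ≤ Jg) ∧ (∀ i : ι, ∃ j, j ≠ i) ∧
      FrL (BB (S : Subgroup G) (ZJ (zl (S : Subgroup G) P) Jg)) (o2 P) (zl (S : Subgroup G) P) X
        (ZJ (zl (S : Subgroup G) P) Jg) Lb W (fun i => zpowers (d i)) (fun i => CC W i) A 2 ∧
      Mv (BB (S : Subgroup G) (ZJ (zl (S : Subgroup G) P) Jg)) d ∧
      ((2 ≤ k ∨ 3 ≤ m) → ∀ i j : ι, ∃ l, l ≠ i ∧ l ≠ j) := by
  have hm1 : 1 ≤ m := by omega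
  obtain ⟨ι, J, U, Y, t, r, h0, Lb, A, c, hs, hL, hc, hAJ, hF⟩ := exists_frame h hk hm1 N (h.cv_eq_bot_sym N)
    (h.zc_o2_sym N hk hm1) JT Jn AJ Jle
  have hfin : Finite ι := hs.bau.finite_index
  have h4 : 2 ^ 2 ≤ 2 ^ m := Nat.pow_le_pow_right (by norm_num) hm
  have h5 : 5 ≤ 2 ^ m + 1 := by omega
  have eqB : BB (S : Subgroup G) (ZJ (zl (S : Subgroup G) P) Jg) =
      (S : Subgroup G) ⊓ centralizer (ZJ (zl (S : Subgroup G) P) Jg : Set G) := rfl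
  have hZ : (S : Subgroup G) ≤ normalizer (ZJ (zl (S : Subgroup G) P) Jg : Set G) := by
    refine EK3.StarE.le_norm_of_cj_le fun s hs' => ?_
    rintro _ ⟨z, hz, rfl⟩
    obtain ⟨h6, h7⟩ := mem_ZJ.1 hz
    refine mem_ZJ.2 ⟨h0.Vn s (h0.TH hs') z h6, fun j hj => ?_⟩
    have h8 : s⁻¹ * j * s ∈ Jg := by
      have := Jn s⁻¹ (inv_mem hs') j hj
      rwa [inv_inv] at this
    show j * (s * z * s⁻¹) = s * z * s⁻¹ * j
    calc j * (s * z * s⁻¹) = s * ((s⁻¹ * j * s) * z) * s⁻¹ := by group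
      _ = s * (z * (s⁻¹ * j * s)) * s⁻¹ := by rw [h7 _ h8]
      _ = s * z * s⁻¹ * j := by group
  refine ⟨ι, hfin, _, _, t, r, Lb, A, hs, hL, hc, hAJ, fun i => ?_, hF, ?_, fun hkm => ?_⟩
  · obtain ⟨l, hl', -⟩ := exists_partner h0 c h5 i
    exact ⟨l, hl'⟩
  · exact mv_of h0 c h5 (WOneG.syl_B S eqB hZ) hs.ZJ_eq (by rw [eqB]; exact le_norm_cent hZ)
  · refine three_of h0 c h5 ?_
    rcases hkm with h6 | h6
    · exact Or.inl h6
    · have h7 : 2 ^ 3 ≤ 2 ^ m := Nat.pow_le_pow_right (by norm_num) h6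
      exact Or.inr (by omega)

/-- **The symmetric frame at a level `K ≤ O₂(P)`**, `B = C_S(Ω₁(Z(nxt S K)))`, `X = Ω₁(Z(K))`, with `Mv`. -/
theorem exists_mv_lev {K : Subgroup G} (hFF : FFThm.StmtM.{v}) (hG : IsCharacteristicTwoType G)
    (hP : IsParS (S : Subgroup G) P) (hL : Lev (S : Subgroup G) K) (hK : K ≤ o2 P)
    (hcen : zc (S : Subgroup G) ⊓ centralizer (P : Set G) = ⊥)
    (hJ : ∃ A ∈ BO (S : Subgroup G) K, ¬ A ≤ o2 P) {k m : ℕ} (hk : 0 < k) (hm : 2 ≤ m)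
    (N : SymKM (S : Subgroup G) P (zl (S : Subgroup G) P) (cv (S : Subgroup G) P) k m) :
    ∃ (ι : Type) (_ : Finite ι) (W : ι → Subgroup G) (d t r : ι → G) (Lb A : ι → Subgroup G),
      SymOut (S : Subgroup G) P (zl (S : Subgroup G) P) (nxt (S : Subgroup G) K) W d t r ∧
      (∀ i, Blk P (S : Subgroup G) (zl (S : Subgroup G) P) (zc (nxt (S : Subgroup G) K)) d r i (Lb i)) ∧
      (∀ x ∈ (S : Subgroup G), ∀ i j, x * d i * x⁻¹ = d j → cj x (Lb i) = Lb j) ∧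
      (∀ i, A i ≤ nxt (S : Subgroup G) K) ∧ (∀ i : ι, ∃ j, j ≠ i) ∧
      FrL ((S : Subgroup G) ⊓ centralizer (zc (nxt (S : Subgroup G) K) : Set G)) (o2 P) (zl (S : Subgroup G) P)
        (zc K) (zc (nxt (S : Subgroup G) K)) Lb W (fun i => zpowers (d i)) (fun i => CC W i) A 2 ∧
      Mv ((S : Subgroup G) ⊓ centralizer (zc (nxt (S : Subgroup G) K) : Set G)) d ∧
      ((2 ≤ k ∨ 3 ≤ m) → ∀ i j : ι, ∃ l, l ≠ i ∧ l ≠ j) := by
  obtain ⟨h, hc⟩ := NO3S.OneLine.exa_lev hFF hG hP hL hK hcen hJ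
  have e1 := (NO3S.OneLine.lev_eq hFF hG hP hL hK hcen hJ).2
  have e2 : ZJ (zl (S : Subgroup G) P) (nxt (S : Subgroup G) K) = zc (nxt (S : Subgroup G) K) := e1.symm
  obtain ⟨ι, hι, W, d, t, r, Lb, A, h1, h2, h3, h4, h5, h6, h7, h8⟩ := exists_mv h hk hm N (NO3S.Level.nxt_le _ _)
    (nxt_norm hL) (fun A hA => NO3S.Level.BO.le_nxt hA) (nxt_le_sup _ _)
  have e3 : BB (S : Subgroup G) (ZJ (zl (S : Subgroup G) P) (nxt (S : Subgroup G) K)) =
      (S : Subgroup G) ⊓ centralizer (zc (nxt (S : Subgroup G) K) : Set G) := by rw [e2]; rfl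
  rw [e3] at h7 h6
  rw [e2] at h2 h6
  exact ⟨ι, hι, W, d, t, r, Lb, A, h1, h2, h3, h4, h5, h6, h7, h8⟩

end lev

/-! ### The action on `Y i` and `N i` -/

section act

open Cfsg.Agent.Omega.Node.MultiOf (FBl FBl.conj)
open Cfsg.Agent.Omega.EK3.StarE (EE_le cj_le_EE)

variable {ι : Type*} {B ZJ : Subgroup G} {L W : ι → Subgroup G} {d : ι → G}

/-- `cj g ⟨Z₀^H⟩ = ⟨(Z₀^g)^(H^g)⟩` -/
theorem cj_EE (g : G) (Z₀ H : Subgroup G) : cj g (EK3.StarE.EE Z₀ H) = EK3.StarE.EE (cj g Z₀) (cj g H) := by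
  apply le_antisymm
  · rw [cj_le_iff]
    refine EE_le fun y hy => ?_
    rw [← cj_le_iff, cj_cj]
    have e : g * y = (g * y * g⁻¹) * g := by group
    rw [e, ← cj_cj]
    have h1 : g * y * g⁻¹ ∈ cj g H := mem_map_of_mem _ hy
    exact cj_le_EE h1
  · refine EE_le ?_
    rintro _ ⟨y, hy, rfl⟩
    show cj (g * y * g⁻¹) (cj g Z₀) ≤ _
    rw [cj_cj]
    have e : g * y * g⁻¹ * g = g * y := by group
    rw [e, ← cj_cj]
    exact cj_mono g (cj_le_EE hy)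

theorem cj_zpowers (g x : G) : cj g (zpowers x) = zpowers (g * x * g⁻¹) := by
  unfold cj
  rw [MonoidHom.map_zpowers]
  rfl

/-- **`(C(Z_J) L_i)^g = C(Z_J) L_(σ i)`** -/
theorem cj_Y (fbl : ∀ i, FBl B (L i) (W i))
    (uni : ∀ L' V' : Subgroup G, FBl B L' V' → ∃ i, V' = W i ∧ L' ≤ L i ⊔ centralizer ((W i ⊔ ZJ : Subgroup G) : Set G))
    (hdW : ∀ i j, d i ∈ W j → i = j) (hdm : ∀ i, d i ∈ W i)
    (hBZ : normalizer (B : Set G) ≤ normalizer (ZJ : Set G))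
    {g : G} (hg : g ∈ normalizer (B : Set G)) {σ : Equiv.Perm ι} (hσ : Pm d g σ) (i : ι) :
    cj g (centralizer (ZJ : Set G) ⊔ L i) = centralizer (ZJ : Set G) ⊔ L (σ i) := by
  have key : ∀ g ∈ normalizer (B : Set G), ∀ σ : Equiv.Perm ι, Pm d g σ → ∀ i,
      cj g (centralizer (ZJ : Set G) ⊔ L i) ≤ centralizer (ZJ : Set G) ⊔ L (σ i) := by
    intro g hg σ hσ i
    have e1 : cj g (centralizer (ZJ : Set G)) = centralizer (ZJ : Set G) := by
      rw [cj_centralizer, cj_eq_of_mem_normalizer (hBZ hg)]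
    obtain ⟨l, hl, hle⟩ := uni _ _ ((fbl i).conj hg)
    have h1 : d (σ i) ∈ W l := by
      rw [← hσ i, ← hl]
      exact ⟨d i, hdm i, rfl⟩
    rw [← hdW _ _ h1] at hle
    rw [cj_sup, e1]
    refine sup_le le_sup_left (hle.trans (sup_le le_sup_right (le_sup_of_le_left (centralizer_le ?_))))
    exact_mod_cast (le_sup_right : ZJ ≤ W (σ i) ⊔ ZJ)
  refine le_antisymm (key g hg σ hσ i) ?_
  have hσ' : Pm d g⁻¹ σ.symm := by
    intro l
    have h1 := hσ (σ.symm l)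
    rw [Equiv.apply_symm_apply] at h1
    rw [← h1]; group
  have h2 := key _ (inv_mem hg) _ hσ' (σ i)
  rw [Equiv.symm_apply_apply] at h2
  have h3 := cj_mono g h2
  rwa [cj_cj_inv] at h3

/-- **`⟨d_i^(Y_i)⟩^g = ⟨d_(σ i)^(Y_(σ i))⟩`** -/
theorem cj_N {Y : ι → Subgroup G} {g : G} {σ : Equiv.Perm ι} (hσ : Pm d g σ) (hY : ∀ i, cj g (Y i) = Y (σ i)) (i : ι) :
    cj g (EK3.StarE.EE (zpowers (d i)) (Y i)) = EK3.StarE.EE (zpowers (d (σ i))) (Y (σ i)) := by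
  rw [cj_EE, cj_zpowers, hσ i, hY i]

end act

end Cfsg.Agent.Omega.EDel
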