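import Cfsg.Agent.Omega.EDel.GenS
import Cfsg.Agent.Omega.EDel.NoOf
import Cfsg.Agent.Omega.EDel.Mv
import Cfsg.Agent.Omega.ESOne.Sy
import Cfsg.Agent.Omega.ESym.Light
import Cfsg.Agent.Omega.Node.SymG

/-!
# THEOREM S'' : the plug for `HypL` (every stage)

* `LF.false_of` : the light frame `LF` (helper457), `(k, m) ≠ (1, 2)`, `NLoc (KZ B ZJ)`: contradiction;
* `eS` : the socket `SymOf.ES K c` if `c k m → 2 ≤ k ∨ 3 ≤ m`;
* `symBigL_of`, `symManyL_of` : `SymBigL K`, `SymManyL K` from (Om).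
-/

set_option autoImplicit false
set_option linter.unusedSectionVars false

namespace Cfsg.Agent.Omega.EDel.FinL

open Subgroup Cfsg Cfsg.Agent.ZN.ChoiceBase Cfsg.Agent.ZN.ChoiceSit
open Cfsg.Agent.ZN (jj zj bau zc zl o2)
open Cfsg.Agent.Omega.FFThm (SymK SymKM)
open Cfsg.Agent.Omega.FrameFF (cv)
open Cfsg.Agent.Omega.SQ1.FFSym (u)
open Cfsg.Agent.Omega.OM
open Cfsg.Agent.Omega.OM.LevD (LB)
open Cfsg.Agent.Omega.Frame (Cls Ctx)
open Cfsg.Agent.Omega.Node.MultiOf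
open Cfsg.Agent.Omega.Node.SymOf
open Cfsg.Agent.Omega.ESym.Light (LF exists_light)
open Cfsg.Agent.Omega.ESOne

universe w

theorem mem_zpowers_two {G : Type*} [Group G] {d : G} (h : d ^ 2 = 1) (x : G) :
    x ∈ zpowers d ↔ x = 1 ∨ x = d := by
  constructor
  · rintro ⟨n, rfl⟩
    rcases Int.even_or_odd' n with ⟨m, rfl | rfl⟩
    · left
      show d ^ (2 * m) = 1
      rw [zpow_mul]
      have : d ^ (2 : ℤ) = 1 := by exact_mod_cast h
      rw [this, one_zpow]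
    · right
      show d ^ (2 * m + 1) = d
      rw [zpow_add, zpow_mul]
      have : d ^ (2 : ℤ) = 1 := by exact_mod_cast h
      rw [this, one_zpow, one_mul, zpow_one]
  · rintro (rfl | rfl)
    · exact one_mem _
    · exact mem_zpowers _

variable {G : Type w} [Group G] [Finite G]

theorem normal_eq_bot (ctx : Ctx G) {U A : Subgroup G} (hA : ∀ x ∈ A, ∀ y ∈ A, x * y = y * x) (hU : U ≤ A)
    (hn : U.Normal) : U = ⊥ := by
  have := ctx.simple
  rcases hn.eq_bot_or_eq_top with h1 | h1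
  · exact h1
  · exfalso
    apply ctx.nonComm
    refine ⟨⟨fun x y => hA x (hU (h1 ▸ mem_top x)) y (hU (h1 ▸ mem_top y))⟩⟩

/-- **THEOREM S''** over the light frame. -/
theorem false_of (hML : ML.Final.MLK.{w, w}) (ctx : Ctx G) {S : Sylow 2 G} {P K B ZJ : Subgroup G} {k m : ℕ}
    {N : SymKM (S : Subgroup G) P (zl (S : Subgroup G) P) (cv (S : Subgroup G) P) k m} (F : LF S P B ZJ N)
    (lb : LB S K B ZJ) (hm : 2 ≤ m) (hkm : 2 ≤ k ∨ 3 ≤ m) (hN : NLoc (KZ B ZJ)) : False := by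
  have hfi := F.fi
  have h4 : 2 ^ 2 ≤ 2 ^ m := Nat.pow_le_pow_right (by norm_num) hm
  have h5 : 5 ≤ 2 ^ m + 1 := by omega
  have hG := ctx.char2
  have hfg := Lev.Main.toFg F.frl
  have hd : ∀ i, u P (zl (S : Subgroup G) P) ⊥ N.e (F.J i) (F.X i) (F.X' i) ∈ ZJ := fun i =>
    hfg.Z_le i (mem_zpowers _)
  have hsq : ∀ i, u P (zl (S : Subgroup G) P) ⊥ N.e (F.J i) (F.X i) (F.X' i) ^ 2 = 1 := fun i => lb.sq _ (hd i)
  have hz := fun i => mem_zpowers_two (hsq i)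
  have hZ : ZJ = closure (Set.range fun i => u P (zl (S : Subgroup G) P) ⊥ N.e (F.J i) (F.X i) (F.X' i)) := by
    apply le_antisymm
    · refine (ZJ_le_iSup hfg).trans (iSup_le fun i => zpowers_le.2 (subset_closure ⟨i, rfl⟩))
    · rw [closure_le]
      rintro _ ⟨i, rfl⟩
      exact hd i
  have hSZ : (S : Subgroup G) ≤ normalizer (ZJ : Set G) :=
    (le_normalizer (H := (S : Subgroup G))).trans
      (lb.nrm _ S.isPGroup' ((lb.KB.trans lb.eqB.le).trans inf_le_left))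
  have hSB : (S : Subgroup G) ≤ normalizer (B : Set G) := by
    rw [lb.eqB]; exact le_norm_cent hSZ
  have mv := mv_of F.sy F.ch h5 lb.syl hZ hSB
  have three : ∀ i j : F.ι, ∃ l, l ≠ i ∧ l ≠ j := three_of F.sy F.ch h5 (by
    rcases hkm with h6 | h6
    · exact Or.inl h6
    · have h7 : 2 ^ 3 ≤ 2 ^ m := Nat.pow_le_pow_right (by norm_num) h6
      exact Or.inr (by omega))
  have sk : Sk0 S K B ZJ (o2 P) (zl (S : Subgroup G) P) F.L _ _ _
      (fun i => u P (zl (S : Subgroup G) P) ⊥ N.e (F.J i) (F.X i) (F.X' i)) := ⟨hG, lb, hfg, hz, F.uni⟩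
  have zf := Zf.of_lb hG lb F.frl hz F.uni
  have hne := F.out.ne
  have hn : ∀ U : Subgroup G, U ≤ ZJ → U.Normal → U = ⊥ := fun U hU hUn =>
    normal_eq_bot ctx (fun x hx y hy => hfg.Vc (hfg.ZJV hx) (hfg.ZJV hy)) hU hUn
  have ex : ∀ i : F.ι, ∃ l, l ≠ i := fun i => by
    obtain ⟨l, hl, -⟩ := three i i
    exact ⟨l, hl⟩
  refine sk.false_of hN three (fun i => ?_) (fun j K' hK hn' hm' => sk.gen j ?_ K' hK hn' hm') (fun i j => ?_)
    (fun i j hij => ?_)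
  · exact zf.no' hML ctx.kproper hn (D_le_Y i) (sk.Y_le_CT (by simp)) (ex i)
  · intro e1
    obtain ⟨l, hl⟩ := ex j
    exact hl (Set.mem_singleton_iff.1 (e1 ▸ Set.mem_univ l))
  · obtain ⟨g, -, σ, h1, h2⟩ := mv.tr i j
    exact ⟨g, σ, h1, h2⟩
  · obtain ⟨g, -, σ, h1, h2⟩ := mv.sw i j hij
    exact ⟨g, σ, h1, h2⟩

variable {K : Cls.{w}}

/-- **(E) for the symmetric types, `HypL`, every stage, `(k, m) ≠ (1, 2)`.** -/
theorem eS (hML : ML.Final.MLK.{w, w}) {c : ℕ → ℕ → Prop} (hc : ∀ k m, c k m → 2 ≤ k ∨ 3 ≤ m) : ES K c := by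
  intro G _ _ hK S P K' B ZJ ι L W Z C k m hk hm hck hM hN
  obtain ⟨N⟩ := hM.sym
  obtain ⟨F⟩ := exists_light hM.hyp.toHypN hM.stg hk hm N
  exact (false_of hML hM.hyp.ctx F hM.lb hm (hc k m hck) hN).elim

/-- **`SymBigL K`** from (Om). -/
theorem symBigL_of (hML : ML.Final.MLK.{w, w}) (hO : OmS K fun k m => k = 1 ∧ 3 ≤ m) : NO3S.SymBigL K :=
  Node.SymOf.symBigL_of hO (eS hML fun _ _ h => Or.inr h.2)

/-- **`SymManyL K`** from (Om). -/
theorem symManyL_of (hML : ML.Final.MLK.{w, w}) (hO : OmS K fun k _ => 2 ≤ k) : NO3S.SymManyL K :=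
  Node.SymOf.symManyL_of hO (eS hML fun _ _ h => Or.inl h)

end Cfsg.Agent.Omega.EDel.FinL
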