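import Cfsg.Agent.Omega.EDel.Fin
import Cfsg.Agent.Omega.ESym.CoreR

/-!
# THEOREM S''T (helper164 #27334) over `Zf`

* `Zf.coreR` : `CoreR` (no `sw`);
* **`Zf.local_fix`** : transitive symmetries, one of them fixes a pair and moves another one: the `Y i = ⟨C_G(ZJ), L i⟩`
  normalise a common nontrivial 2-group;
* **`Zf.local_comm`** : or the symmetries commute and act semiregularly;
* `Zf.false_fix`, `Zf.false_comm` : the same with `nl`.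
-/

set_option autoImplicit false
set_option linter.unusedSectionVars false

namespace Cfsg.Agent.Omega.EDel

open Subgroup Cfsg Cfsg.Agent.ZN.ChoiceBase
open Cfsg.Agent.ZN (zc zl o2 jj)
open Cfsg.Agent.Omega.EK3 (CT mem_CT CT_mono)
open Cfsg.Agent.Omega.EK3.StarE (EE EE_le EE_mono le_EE norm_EE cj_le_EE cj_iSup_le)
open Cfsg.Agent.Omega.ESym.CoreS (EI Sy Core)
open Cfsg.Agent.Omega.ESym.CoreR (CoreR)
open Cfsg.Agent.ZN.ChoiceSit (Syl)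

universe u

variable {G : Type u} [Group G] [Finite G] {ι : Type} [Finite ι] {B Q V X ZJ : Subgroup G}
  {L W Z C A : ι → Subgroup G} {z : ι → G}

namespace Zf

variable (h : Zf B Q V X ZJ L W Z C A z)
include h

/-- **`CoreR` over `Zf`** -/
theorem coreR [Nonempty ι] (hML : ML.Final.MLK.{u, u}) (hK : ∀ i, IsKGroup (YL ZJ L i))
    (three : ∀ i j : ι, ∃ l, l ≠ i ∧ l ≠ j)
    (tr : ∀ i j, ∃ g, ∃ σ : Equiv.Perm ι,
      Sy (o2 (centralizer (ZJ : Set G))) (YL ZJ L) (NL ZJ L z) g σ ∧ σ i = j) :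
    CoreR (o2 (centralizer (ZJ : Set G))) (centralizer (ZJ : Set G)) ZJ (YL ZJ L) (NL ZJ L z) where
  two := MinSimple.VModule.o2_isPGroup _
  OY i := (Cfsg.Agent.ZN.o2_le _).trans (D_le_YL i)
  OZ := Cfsg.Agent.ZN.o2_le _
  DY := D_le_YL
  three := three
  ne := inferInstance
  eab I hI := h.EI_el h.YL_le_CT hI
  NE i := (h.N_le_EE i _).trans (EE_mono (le_iSup (fun i : ({i} : Set ι) => YL ZJ L i) ⟨i, rfl⟩))
  YN i := norm_EE _ _
  YQ i := h.YQ (D_le_YL i) (h.YL_le_CT i)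
  no i := by
    obtain ⟨l, hl, -⟩ := three i i
    exact h.no hML (hK i) (D_le_YL i) (h.YL_le_CT i) ⟨l, hl⟩
  gen i K hKY hYK hm := by
    obtain ⟨l, hl, -⟩ := three i i
    exact h.gen ⟨l, hl⟩ hKY hYK hm
  tr := tr

/-- `O₂(C_G(ZJ)) ≠ 1` -/
theorem o2_D_ne [Nonempty ι] (three : ∀ i j : ι, ∃ l, l ≠ i ∧ l ≠ j) : o2 (centralizer (ZJ : Set G)) ≠ ⊥ := by
  obtain ⟨i₀⟩ := ‹Nonempty ι›
  intro e
  obtain ⟨l, hl, -⟩ := three i₀ i₀
  have h1 : z i₀ ∈ EE ZJ (YL ZJ L i₀) := h.N_le_EE i₀ _ (z_mem_EE i₀ _)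
  have h2 := h.E_le_O (T := ({i₀} : Set ι)ᶜ) ⟨l, hl⟩ (h.YL_le_CT i₀) h1
  rw [e, mem_bot] at h2
  exact h.z_ne i₀ h2

/-- some `Y i = G`, or all the `Y i` are `K`-groups -/
theorem local_of_top (three : ∀ i j : ι, ∃ l, l ≠ i ∧ l ≠ j) {i : ι} (e : YL ZJ L i = ⊤) :
    ∃ R : Subgroup G, R ≠ ⊥ ∧ IsPGroup 2 R ∧ ∀ j, YL ZJ L j ≤ normalizer (R : Set G) := by
  obtain ⟨l, hl, -⟩ := three i i
  have h1 : ∀ g : G, g * z l = z l * g := fun g =>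
    mem_CT.1 (h.YL_le_CT i (by rw [e]; exact mem_top g)) l hl
  refine ⟨zpowers (z l), fun e1 => h.z_ne l (zpowers_eq_bot.1 e1), ?_, fun j g _ => ?_⟩
  · refine h.Bp.to_le (zpowers_le.2 ?_)
    have h2 : z l ∈ zc B := by
      rw [h.fr.zcB]
      exact h.z_mem l
    exact (mem_zc.1 h2).1
  · rw [mem_normalizer_iff_cj]
    refine cj_eq_of_mem_normalizer (centralizer_le_normalizer _ (mem_centralizer_iff.2 fun x hx => ?_))
    obtain ⟨n, rfl⟩ := hx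
    exact ((show Commute g (z l) from h1 g).zpow_right n).eq.symm

section main

variable [Nonempty ι] (hML : ML.Final.MLK.{u, u}) (hK : IsKProper G)
  (cjY : ∀ g ∈ normalizer (B : Set G), ∀ i j, g * z i * g⁻¹ = z j → cj g (L i) ≤ YL ZJ L j)
  (three : ∀ i j : ι, ∃ l, l ≠ i ∧ l ≠ j)
  (tr : ∀ i j, ∃ g, ∃ π : Equiv.Perm ι, (∀ l, g * z l * g⁻¹ = z (π l)) ∧ π i = j)

include hML hK cjY three tr

/-- **one symmetry which fixes a pair and moves another one** -/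
theorem local_fix
    (fix : ∃ g, ∃ π : Equiv.Perm ι, (∀ l, g * z l * g⁻¹ = z (π l)) ∧ ∃ i₀ j₀, π i₀ = i₀ ∧ π j₀ ≠ j₀) :
    ∃ R : Subgroup G, R ≠ ⊥ ∧ IsPGroup 2 R ∧ ∀ j, YL ZJ L j ≤ normalizer (R : Set G) := by
  by_cases hT : ∃ i, YL ZJ L i = ⊤
  · obtain ⟨i, e⟩ := hT
    exact h.local_of_top three e
  · push Not at hT
    refine (h.coreR hML (fun i => hK _ (hT i)) three (fun i j => ?_)).local_of_fix (h.o2_D_ne three) ?_
    · obtain ⟨g, π, hπ, h1⟩ := tr i j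
      obtain ⟨g', hs⟩ := h.exists_sy cjY hπ
      exact ⟨g', π, hs, h1⟩
    · obtain ⟨g, π, hπ, i₀, j₀, h1, h2⟩ := fix
      obtain ⟨g', hs⟩ := h.exists_sy cjY hπ
      exact ⟨g', π, hs, i₀, j₀, h1, h2⟩

/-- **or the symmetries commute and act semiregularly** -/
theorem local_comm :
    (∃ R : Subgroup G, R ≠ ⊥ ∧ IsPGroup 2 R ∧ ∀ j, YL ZJ L j ≤ normalizer (R : Set G)) ∨
      (∀ (g g' : G) (π π' : Equiv.Perm ι), (∀ l, g * z l * g⁻¹ = z (π l)) → (∀ l, g' * z l * g'⁻¹ = z (π' l)) →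
        π * π' = π' * π) ∧
      ∀ (g : G) (π : Equiv.Perm ι), (∀ l, g * z l * g⁻¹ = z (π l)) → ∀ i, π i = i → π = 1 := by
  by_cases hT : ∃ i, YL ZJ L i = ⊤
  · obtain ⟨i, e⟩ := hT
    exact Or.inl (h.local_of_top three e)
  · push Not at hT
    rcases (h.coreR hML (fun i => hK _ (hT i)) three (fun i j => by
      obtain ⟨g, π, hπ, h1⟩ := tr i j
      obtain ⟨g', hs⟩ := h.exists_sy cjY hπ
      exact ⟨g', π, hs, h1⟩)).local_or_comm (h.o2_D_ne three) with h1 | ⟨h1, h2⟩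
    · exact Or.inl h1
    · refine Or.inr ⟨fun g g' π π' hπ hπ' => ?_, fun g π hπ i hi => ?_⟩
      · obtain ⟨g₁, hs⟩ := h.exists_sy cjY hπ
        obtain ⟨g₂, hs'⟩ := h.exists_sy cjY hπ'
        exact h1 g₁ g₂ π π' hs hs'
      · obtain ⟨g₁, hs⟩ := h.exists_sy cjY hπ
        exact h2 g₁ π hs i hi

theorem false_fix (nl : ∀ U : Subgroup G, U ≠ ⊥ → IsPGroup 2 U → ¬ ∀ i, YL ZJ L i ≤ normalizer (U : Set G))
    (fix : ∃ g, ∃ π : Equiv.Perm ι, (∀ l, g * z l * g⁻¹ = z (π l)) ∧ ∃ i₀ j₀, π i₀ = i₀ ∧ π j₀ ≠ j₀) : False := by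
  obtain ⟨R, h1, h2, h3⟩ := h.local_fix hML hK cjY three tr fix
  exact nl R h1 h2 h3

theorem false_comm (nl : ∀ U : Subgroup G, U ≠ ⊥ → IsPGroup 2 U → ¬ ∀ i, YL ZJ L i ≤ normalizer (U : Set G)) :
    (∀ (g g' : G) (π π' : Equiv.Perm ι), (∀ l, g * z l * g⁻¹ = z (π l)) → (∀ l, g' * z l * g'⁻¹ = z (π' l)) →
        π * π' = π' * π) ∧
      ∀ (g : G) (π : Equiv.Perm ι), (∀ l, g * z l * g⁻¹ = z (π l)) → ∀ i, π i = i → π = 1 := by
  rcases h.local_comm hML hK cjY three tr with ⟨R, h1, h2, h3⟩ | h1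
  · exact absurd h3 (nl R h1 h2)
  · exact h1

end main

end Zf

end Cfsg.Agent.Omega.EDel
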