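import Cfsg.Agent.Omega.EDel.Fin
import Cfsg.Agent.Omega.ESym.CoreT

/-!
# THEOREM S''T over `Zf`

* **`Zf.cyc_of`** : no nontrivial 2-subgroup is normalised by all `Y i = ⟨C_G(ZJ), L i⟩`, at least three indices, the
  symmetries of the `z i` transitive: then they all commute with one cycle;
* **`Zf.false_ofT`** : the end, if some symmetry fixes a point and moves another one.
-/

set_option autoImplicit false
set_option linter.unusedSectionVars false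

namespace Cfsg.Agent.Omega.EDel

open Subgroup Cfsg Cfsg.Agent.ZN.ChoiceBase
open Cfsg.Agent.ZN (zc zl o2 jj)
open Cfsg.Agent.Omega.EK3 (CT mem_CT CT_mono)
open Cfsg.Agent.Omega.EK3.StarE (EE EE_le EE_mono le_EE norm_EE cj_le_EE cj_iSup_le)
open Cfsg.Agent.Omega.ESym.CoreS (EI Sy)
open Cfsg.Agent.Omega.ESym.CoreT (Cr eq_of_fix)

universe u

variable {G : Type u} [Group G] {ι : Type} {B Q V X ZJ : Subgroup G} {L W Z C A : ι → Subgroup G} {z : ι → G}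

namespace Zf

variable (h : Zf B Q V X ZJ L W Z C A z)
include h

section norm

variable [Finite G] [Finite ι]

/-- **`CoreT.Cr` over `Zf`** -/
theorem coreT [Nonempty ι] (hML : ML.Final.MLK.{u, u}) (hK : ∀ i, IsKGroup (YL ZJ L i))
    (three : ∀ i j : ι, ∃ l, l ≠ i ∧ l ≠ j)
    (tr : ∀ i j, ∃ g, ∃ σ : Equiv.Perm ι,
      Sy (o2 (centralizer (ZJ : Set G))) (YL ZJ L) (NL ZJ L z) g σ ∧ σ i = j) :
    Cr (o2 (centralizer (ZJ : Set G))) (centralizer (ZJ : Set G)) ZJ (YL ZJ L) (NL ZJ L z) where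
  two := MinSimple.VModule.o2_isPGroup _
  OY i := (Cfsg.Agent.ZN.o2_le _).trans (D_le_YL i)
  OZ := Cfsg.Agent.ZN.o2_le _
  DY := D_le_YL
  three := three
  ne := inferInstance
  eab I hI := h.EI_el h.YL_le_CT hI
  NE i := (h.N_le_EE i _).trans (EE_mono (le_iSup (fun i : ({i} : Set ι) => YL ZJ L i) ⟨i, rfl⟩))
  YN i := norm_EE _ _
  YQ i := h.YQ (D_le_YL i) (h.YL_le_CT i)
  no i := by
    obtain ⟨l, hl, -⟩ := three i i
    exact h.no hML (hK i) (D_le_YL i) (h.YL_le_CT i) ⟨l, hl⟩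
  gen i K hKY hYK hm := by
    obtain ⟨l, hl, -⟩ := three i i
    exact h.gen ⟨l, hl⟩ hKY hYK hm
  tr := tr

/-- **THEOREM S''T over `Zf`**, first form. -/
theorem cyc_of [Nonempty ι] (hML : ML.Final.MLK.{u, u}) (hK : IsKProper G)
    (cjY : ∀ g ∈ normalizer (B : Set G), ∀ i j, g * z i * g⁻¹ = z j → cj g (L i) ≤ YL ZJ L j)
    (nl : ∀ U : Subgroup G, U ≠ ⊥ → IsPGroup 2 U → ¬ ∀ i, YL ZJ L i ≤ normalizer (U : Set G))
    (three : ∀ i j : ι, ∃ l, l ≠ i ∧ l ≠ j)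
    (tr : ∀ i j, ∃ g, ∃ π : Equiv.Perm ι, (∀ l, g * z l * g⁻¹ = z (π l)) ∧ π i = j) :
    ∃ τ : Equiv.Perm ι, (∀ i j, ∃ n : ℕ, (τ ^ n) i = j) ∧
      ∀ g, ∀ π : Equiv.Perm ι, (∀ l, g * z l * g⁻¹ = z (π l)) → ∀ i, π (τ i) = τ (π i) := by
  obtain ⟨i₀⟩ := ‹Nonempty ι›
  have : Nonempty ι := ⟨i₀⟩
  have hKi : ∀ i, IsKGroup (YL ZJ L i) := by
    intro i
    refine hK _ fun e => ?_
    obtain ⟨l, hl, -⟩ := three i i
    -- `z l` is central in `G`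
    have h1 : ∀ g : G, g * z l = z l * g := fun g =>
      mem_CT.1 (h.YL_le_CT i (by rw [e]; exact mem_top g)) l hl
    refine nl (zpowers (z l)) (fun e1 => h.z_ne l (zpowers_eq_bot.1 e1)) ?_ fun j g _ => ?_
    · refine h.Bp.to_le (zpowers_le.2 ?_)
      have h2 : z l ∈ zc B := by
        rw [h.fr.zcB]
        exact h.z_mem l
      exact (mem_zc.1 h2).1
    · rw [mem_normalizer_iff_cj]
      refine cj_eq_of_mem_normalizer (centralizer_le_normalizer _ (mem_centralizer_iff.2 fun x hx => ?_))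
      obtain ⟨n, rfl⟩ := hx
      exact ((show Commute g (z l) from h1 g).zpow_right n).eq.symm
  have hO : o2 (centralizer (ZJ : Set G)) ≠ ⊥ := by
    intro e
    obtain ⟨l, hl, -⟩ := three i₀ i₀
    have h1 : z i₀ ∈ EE ZJ (YL ZJ L i₀) := h.N_le_EE i₀ _ (z_mem_EE i₀ _)
    have h2 := h.E_le_O (T := ({i₀} : Set ι)ᶜ) ⟨l, hl⟩ (h.YL_le_CT i₀) h1
    rw [e, mem_bot] at h2
    exact h.z_ne i₀ h2
  rcases (h.coreT hML hKi three
    (fun i j => by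
      obtain ⟨g, π, hπ, h1⟩ := tr i j
      obtain ⟨g', hs⟩ := h.exists_sy cjY hπ
      exact ⟨g', π, hs, h1⟩)).local_or hO with ⟨R, hR, hR2, hn⟩ | ⟨τ, h1, h2⟩
  · exact absurd hn (nl R hR hR2)
  · refine ⟨τ, h1, fun g π hπ => ?_⟩
    obtain ⟨g', hs⟩ := h.exists_sy cjY hπ
    exact h2 g' π hs

/-- **THEOREM S''T over `Zf`.** -/
theorem false_ofT [Nonempty ι] (hML : ML.Final.MLK.{u, u}) (hK : IsKProper G)
    (cjY : ∀ g ∈ normalizer (B : Set G), ∀ i j, g * z i * g⁻¹ = z j → cj g (L i) ≤ YL ZJ L j)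
    (nl : ∀ U : Subgroup G, U ≠ ⊥ → IsPGroup 2 U → ¬ ∀ i, YL ZJ L i ≤ normalizer (U : Set G))
    (three : ∀ i j : ι, ∃ l, l ≠ i ∧ l ≠ j)
    (tr : ∀ i j, ∃ g, ∃ π : Equiv.Perm ι, (∀ l, g * z l * g⁻¹ = z (π l)) ∧ π i = j)
    (nr : ∃ g, ∃ π : Equiv.Perm ι, (∀ l, g * z l * g⁻¹ = z (π l)) ∧ ∃ i j, π i = i ∧ π j ≠ j) : False := by
  obtain ⟨τ, h1, h2⟩ := h.cyc_of hML hK cjY nl three tr
  obtain ⟨g, π, hπ, i, j, hi, hj⟩ := nr
  exact hj (eq_of_fix h1 (h2 g π hπ) hi j)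

end norm

end Zf

end Cfsg.Agent.Omega.EDel
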