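import Cfsg.Agent.Omega.EDel.GenS
import Cfsg.Agent.Omega.EDel.NoOf
import Cfsg.Agent.Omega.ESOne.Sy
import Cfsg.Agent.Omega.ESym.Light
import Cfsg.Agent.Omega.ESym.Prs
import Cfsg.Agent.Omega.Node.SymG

/-!
# THEOREM S'' : (E) is impossible for all symmetric types with at least three light pairs, over `HypL`

`#23621` (helper787), `#23971` (helper497), `#24003` (helper164), `#23983` (helper11), `#23986` (helper7), `#24014` (helper647).

* `Prs.three` : at least three light pairs if `k ≥ 2` or `m ≥ 3`;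
* `noE_L` : `HypF`, a stage of `HypL`: `¬ NLoc (KZ B ZJ)`;
* `eS_three` : `ES K (2 ≤ k ∨ 3 ≤ m)`; `eSH_three` : `ESH K HypLP (2 ≤ k ∨ 3 ≤ m)`.
-/

set_option autoImplicit false
set_option linter.unusedSectionVars false

namespace Cfsg.Agent.Omega.EDel.FinalL

open Subgroup Cfsg Cfsg.Agent.ZN.ChoiceBase
open Cfsg.Agent.ZN (jj zj bau zc zl o2)
open Cfsg.Agent.Omega.FFThm (ActsSym SymK SymKM)
open Cfsg.Agent.Omega.FrameFF (cv)
open Cfsg.Agent.Omega.SQ1.FFSym (u)
open Cfsg.Agent.Omega.ESym (Prs prs_lev)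
open Cfsg.Agent.Omega.ESym.Light (LF exists_light)
open Cfsg.Agent.Omega.ESOne
open Cfsg.Agent.Omega.NO3S (HypF HypL)
open Cfsg.Agent.Omega.Frame (Cls)
open Cfsg.Agent.Omega.Node.MultiOf
open Cfsg.Agent.Omega.Node.SymOf (MulS ES)
open Cfsg.Agent.Omega.Node.SymG (MulSG ESH)
open Cfsg.Agent.Omega.OM.LevD (LB)

universe v

section prs

variable {G : Type v} [Group G] {k n : ℕ} {S H V : Subgroup G} {o : Fin n} {e : G → Fin k → Fin n → ZMod 2}
  {ι : Type} {J : ι → Fin k} {X Y : ι → Fin n}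

/-- **at least three light pairs** -/
theorem prs_three (h : Prs S H V o e J X Y) (hn : 4 ≤ n) (hkn : 2 ≤ k ∨ 6 ≤ n) (i j : ι) :
    ∃ l, l ≠ i ∧ l ≠ j := by
  classical
  by_cases hJ : J i = J j
  · rcases hkn with hk | hn6
    · have : Nontrivial (Fin k) := Fin.nontrivial_iff_two_le.2 hk
      obtain ⟨j', hj'⟩ := exists_ne (J i)
      have : Nontrivial (Fin n) := Fin.nontrivial_iff_two_le.2 (by omega)
      obtain ⟨x, hx⟩ := exists_ne o
      obtain ⟨l, hl, -⟩ := h.cov j' x hx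
      refine ⟨l, ?_, ?_⟩
      · rintro rfl; exact hj' hl.symm
      · rintro rfl; exact hj' (hl.symm.trans hJ.symm)
    · have h1 : ∃ x : Fin n, x ∉ ({o, X i, Y i, X j, Y j} : Finset (Fin n)) := by
        by_contra hcon
        push Not at hcon
        have h2 : (Finset.univ : Finset (Fin n)) ⊆ {o, X i, Y i, X j, Y j} := fun x _ => hcon x
        have h3 := Finset.card_le_card h2
        rw [Finset.card_univ, Fintype.card_fin] at h3
        have h4 := h3.trans (Finset.card_le_five (a := o) (b := X i) (c := Y i) (d := X j) (e := Y j))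
        omega
      obtain ⟨x, hx⟩ := h1
      simp only [Finset.mem_insert, Finset.mem_singleton, not_or] at hx
      obtain ⟨l, -, hl⟩ := h.cov (J i) x hx.1
      refine ⟨l, ?_, ?_⟩
      · rintro rfl
        rcases hl with h5 | h5
        · exact hx.2.1 h5.symm
        · exact hx.2.2.1 h5.symm
      · rintro rfl
        rcases hl with h5 | h5
        · exact hx.2.2.2.1 h5.symm
        · exact hx.2.2.2.2 h5.symm
  · obtain ⟨l, hl, hJl⟩ := h.brother hn i
    exact ⟨l, hl, fun e => hJ (by rw [← e]; exact hJl.symm)⟩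

end prs

section main

variable {G : Type v} [Group G] [Finite G] {S : Sylow 2 G} {P K B ZJ : Subgroup G} {k m : ℕ}
  {N : SymKM (S : Subgroup G) P (zl (S : Subgroup G) P) (cv (S : Subgroup G) P) k m}

omit [Finite G] in
theorem mem_zpowers_sq {x d : G} (hd : d ^ 2 = 1) : x ∈ zpowers d ↔ x = 1 ∨ x = d := by
  constructor
  · intro hx
    obtain ⟨n, rfl⟩ := mem_zpowers_iff.1 hx
    have h2 : d ^ (2 : ℤ) = 1 := by
      have : d ^ ((2 : ℕ) : ℤ) = 1 := by rw [zpow_natCast]; exact hd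
      exact this
    rcases Int.even_or_odd' n with ⟨c, h | h⟩
    · left
      rw [h, zpow_mul, h2, one_zpow]
    · right
      rw [h, zpow_add, zpow_mul, h2, one_zpow, one_mul, zpow_one]
  · rintro (rfl | rfl)
    · exact one_mem _
    · exact mem_zpowers x

/-- **the small frame `Sk0` from the light frame `LF`** -/
theorem sk0 (F : LF S P B ZJ N) (hG : IsCharacteristicTwoType G) (lb : LB S K B ZJ) :
    Sk0 S K B ZJ (o2 P) (zl (S : Subgroup G) P) F.L (fun i => F.sy.NN (F.J i) 0 (F.X i) (F.X' i))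
      (fun i => zpowers (u P (zl (S : Subgroup G) P) ⊥ N.e (F.J i) (F.X i) (F.X' i)))
      (OM.FrSym.CC fun i => F.sy.NN (F.J i) 0 (F.X i) (F.X' i))
      (fun i => u P (zl (S : Subgroup G) P) ⊥ N.e (F.J i) (F.X i) (F.X' i)) where
  char2 := hG
  lb := lb
  fr := OM.Lev.Main.toFg F.frl
  hz := fun i _ => mem_zpowers_sq ((OM.Lev.Main.toFg F.frl).Vsq ((OM.Lev.Main.toFg F.frl).ZV i (mem_zpowers _)))
  uni := F.uni

/-- **THEOREM S''**, light frame -/
theorem false_of_LF (hML : ML.Final.MLK.{v, v}) (h : HypF S P) (F : LF S P B ZJ N) (lb : LB S K B ZJ)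
    (hm : 2 ≤ m) (hk : 0 < k) (hkm : 2 ≤ k ∨ 3 ≤ m) (hN : NLoc (KZ B ZJ)) : False := by
  have hG := h.ctx.char2
  have hfin : Finite F.ι := F.fi
  have h4 : 2 ^ 2 ≤ 2 ^ m := Nat.pow_le_pow_right (by norm_num) hm
  have hP := prs_lev F.sy F.ch
  have hs := sk0 F hG lb
  have hkn : 2 ≤ k ∨ 6 ≤ 2 ^ m + 1 := by
    rcases hkm with h1 | h1
    · exact Or.inl h1
    · right
      have : 2 ^ 3 ≤ 2 ^ m := Nat.pow_le_pow_right (by norm_num) h1
      omega
  have three := prs_three hP (by omega) hkn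
  have hne : Nonempty F.ι := by
    have : Nontrivial (Fin (2 ^ m + 1)) := Fin.nontrivial_iff_two_le.2 (by omega)
    obtain ⟨x, hx⟩ := exists_ne (0 : Fin (2 ^ m + 1))
    obtain ⟨l, -, -⟩ := hP.cov ⟨0, hk⟩ x hx
    exact ⟨l⟩
  have hzf := Zf.of_lb hG lb F.frl hs.hz F.uni
  have hju : ∀ j : F.ι, ({j} : Set F.ι) ≠ Set.univ := by
    intro j e
    obtain ⟨l, hl, -⟩ := three j j
    exact hl (Set.mem_singleton_iff.1 (e ▸ Set.mem_univ l))
  have hn : ∀ U : Subgroup G, U ≤ ZJ → U.Normal → U = ⊥ := by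
    intro U hU hUn
    have : IsSimpleGroup G := h.ctx.simple
    rcases hUn.eq_bot_or_eq_top with h1 | h1
    · exact h1
    · exfalso
      apply h.ctx.nonComm
      have h2 : ∀ x : G, x ∈ zl (S : Subgroup G) P := fun x => hs.fr.ZJV (hU (h1 ▸ mem_top x))
      exact ⟨⟨fun x y => hs.fr.Vc (h2 x) (h2 y)⟩⟩
  refine hs.false_of hN three (fun i => ?_) (fun j K' h1 h2 h3 => hs.gen j (hju j) K' h1 h2 h3)
    (fun i j => ?_) (fun i j hij => ?_)
  · obtain ⟨l, hl, -⟩ := three i i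
    exact hzf.no' hML h.ctx.kproper hn (D_le_Y i) (hs.Y_le_CT (by simp)) ⟨l, hl⟩
  · obtain ⟨g, -, ρ, h1, h2⟩ := hP.trans i j
    exact ⟨g, ρ, h2, h1⟩
  · rcases hP.sw (by omega) hij with ⟨g, -, ρ, h1, h2, h3⟩ | ⟨g, -, ρ, h1, h2, h3⟩
    · exact ⟨g, ρ, h3, Or.inl ⟨h1, h2⟩⟩
    · exact ⟨g, ρ, h3, Or.inr ⟨h1, h2⟩⟩

/-- **(E) is impossible**, stages of `HypL` -/
theorem noE_L (hML : ML.Final.MLK.{v, v}) (h : HypF S P) (st : StgP S P K B ZJ) (hk : 0 < k) (hm : 2 ≤ m)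
    (hkm : 2 ≤ k ∨ 3 ≤ m)
    (N : SymKM (S : Subgroup G) P (zl (S : Subgroup G) P) (cv (S : Subgroup G) P) k m) : ¬ NLoc (KZ B ZJ) := by
  intro hN
  obtain ⟨F⟩ := exists_light h.toHypN st hk hm N
  exact false_of_LF hML h F st.lb hm hk hkm hN

end main

/-- **`ES K`, at least three light pairs** (in particular `SymBigL`, `SymManyL`) -/
theorem eS_three (hML : ML.Final.MLK.{v, v}) (K : Cls.{v}) :
    ES K fun k m => 2 ≤ k ∨ 3 ≤ m := by
  intro G _ _ _ S P K' B ZJ ι L W Z C k m hk hm hkm hM hN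
  obtain ⟨N⟩ := hM.sym
  exact absurd hN (noE_L hML hM.hyp.toHypF hM.stg hk hm hkm N)

end Cfsg.Agent.Omega.EDel.FinalL
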