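import Cfsg.Agent.Omega.ESym.CoreS
import Cfsg.Agent.Omega.NO3S.EThree.FrameG
import Cfsg.Agent.Omega.NoFF.Basic
import Cfsg.Agent.Omega.EK3.StarE

/-!
# THEOREM S'': the fields `two`, `OY`, `OZ`, `DY`, `NE`, `YN`, `YQ` of `ESym.CoreS.Core` from the frame `Fg`

`D = C_G(ZJ)`, `O = O₂(D)`, `Y i = ⟨D, L i⟩`, `N i = ⟨Z_i^(Y i)⟩`; frame `Fg B Q V ZJ L W Z C q` (any `q`, any index type).

* `YL`, `NL` : `Y i`, `N i`; `NL_eq_V` : `N i = NoFF.Basic.V (Z i) (Y i)`;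
* `stab` : `C_{Y i}(Z i) ≤ D`; `cent_of_norm` : `Y i` centralises `Z l` for `l ≠ i`;
* `two_`, `OY_`, `OZ_`, `DY_`, `NE_`, `YN_`, `YQ_` : the fields; `inf_eq_o2` : `O ⊓ C(N i) = O₂(C_{Y i}(N i))`;
* `YQ_of` : the abstract form.
-/

set_option autoImplicit false
set_option linter.unusedSectionVars false

namespace Cfsg.Agent.Omega.EDel.Flds

open Subgroup Cfsg Cfsg.Agent.ZN.ChoiceBase
open Cfsg.Agent.ZN (zc zl o2)
open Cfsg.Agent.ZN.ChoiceSit (Syl)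
open Cfsg.Agent.Omega.NO3S.EThree.Frame (Fg)
open Cfsg.Agent.Omega.EK3.StarE (EE cj_le_EE EE_le EE_mono le_EE norm_EE)
open Cfsg.Agent.Omega.ESym.CoreS (EI)
open Cfsg.Agent.MinSimple.VModule (le_normalizer_o2 o2_isPGroup le_o2 o2_le)

universe u

variable {G : Type u} [Group G] {ι : Type*}

/-- `Y i = ⟨C_G(ZJ), L i⟩` -/
def YL (ZJ : Subgroup G) (L : ι → Subgroup G) (i : ι) : Subgroup G := centralizer (ZJ : Set G) ⊔ L i

/-- `N i = ⟨Z_i^(Y i)⟩` -/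
def NL (ZJ : Subgroup G) (L Z : ι → Subgroup G) (i : ι) : Subgroup G := ⨆ y : YL ZJ L i, cj (y : G) (Z i)

theorem NL_eq_EE (ZJ : Subgroup G) (L Z : ι → Subgroup G) (i : ι) : NL ZJ L Z i = EE (Z i) (YL ZJ L i) := rfl

theorem NL_eq_V (ZJ : Subgroup G) (L Z : ι → Subgroup G) (i : ι) :
    NL ZJ L Z i = NoFF.Basic.V (Z i) (YL ZJ L i) :=
  le_antisymm (EE_le fun _ hy => NoFF.Basic.Z_le_V hy) (NoFF.Basic.V_le fun _ hy => cj_le_EE hy)

theorem Z_le_NL (ZJ : Subgroup G) (L Z : ι → Subgroup G) (i : ι) : Z i ≤ NL ZJ L Z i := le_EE _ _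

theorem DY_ (ZJ : Subgroup G) (L : ι → Subgroup G) (i : ι) : centralizer (ZJ : Set G) ≤ YL ZJ L i := le_sup_left

theorem L_le_YL (ZJ : Subgroup G) (L : ι → Subgroup G) (i : ι) : L i ≤ YL ZJ L i := le_sup_right

theorem YN_ (ZJ : Subgroup G) (L Z : ι → Subgroup G) (i : ι) :
    YL ZJ L i ≤ normalizer (NL ZJ L Z i : Set G) := norm_EE _ _

theorem D_norm (ZJ : Subgroup G) (L Z : ι → Subgroup G) (i : ι) :
    centralizer (ZJ : Set G) ≤ normalizer (NL ZJ L Z i : Set G) := (DY_ ZJ L i).trans (YN_ ZJ L Z i)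

theorem EI_single (ZJ : Subgroup G) (Y : ι → Subgroup G) (i : ι) : EE ZJ (Y i) ≤ EI ZJ Y {i} :=
  EE_mono (le_iSup (fun l : ({i} : Set ι) => Y l) ⟨i, rfl⟩)

theorem EI_eq_EE (ZJ : Subgroup G) (Y : ι → Subgroup G) (I : Set ι) : EI ZJ Y I = EE ZJ (⨆ i : I, Y i) := rfl

section fin

variable [Finite G]

theorem two_ (ZJ : Subgroup G) : IsPGroup 2 (o2 (centralizer (ZJ : Set G))) := o2_isPGroup _

theorem OD_ (ZJ : Subgroup G) : o2 (centralizer (ZJ : Set G)) ≤ centralizer (ZJ : Set G) := o2_le _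

theorem OZ_ (ZJ : Subgroup G) : o2 (centralizer (ZJ : Set G)) ≤ centralizer (ZJ : Set G) := o2_le _

theorem OY_ (ZJ : Subgroup G) (L : ι → Subgroup G) (i : ι) : o2 (centralizer (ZJ : Set G)) ≤ YL ZJ L i :=
  (OD_ ZJ).trans (DY_ ZJ L i)

/-- an element normalising `X` normalises `O₂(X)` -/
theorem cj_o2_of {X : Subgroup G} {y : G} (hy : cj y X = X) : cj y (o2 X) = o2 X := by
  refine Subgroup.eq_of_le_of_card_ge (le_o2 ?_ ((o2_isPGroup X).map _) ?_) (card_cj _ _).ge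
  · have := cj_mono y (o2_le X)
    rwa [hy] at this
  · have := cj_mono y (le_normalizer_o2 X)
    rwa [cj_normalizer, hy] at this

/-- `C_{Y}(N) ≤ D`: `O₂(D) ⊓ C(N) = O₂(C_Y(N))`. -/
theorem inf_eq_of {D Y N : Subgroup G} (hDY : D ≤ Y) (hYN : Y ≤ normalizer (N : Set G))
    (hst : Y ⊓ centralizer (N : Set G) ≤ D) :
    o2 D ⊓ centralizer (N : Set G) = o2 (Y ⊓ centralizer (N : Set G)) := by
  have hYC : Y ≤ normalizer ((Y ⊓ centralizer (N : Set G) : Subgroup G) : Set G) := by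
    intro y hy
    rw [mem_normalizer_iff_cj, cj_inf, cj_centralizer, cj_eq_of_mem_normalizer (hYN hy),
      cj_eq_of_mem_normalizer (Subgroup.le_normalizer hy)]
  apply le_antisymm
  · refine le_o2 ?_ ((o2_isPGroup D).to_le inf_le_left) ?_
    · exact inf_le_inf_right _ ((o2_le D).trans hDY)
    · intro c hc
      rw [mem_normalizer_iff_cj, cj_inf, cj_centralizer, cj_eq_of_mem_normalizer (hYN hc.1),
        cj_eq_of_mem_normalizer (le_normalizer_o2 D (hst hc))]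
  · refine le_inf (le_o2 ((o2_le _).trans hst) (o2_isPGroup _) ?_) ((o2_le _).trans inf_le_right)
    intro d hd
    have h1 := hYC (hDY hd)
    rw [mem_normalizer_iff_cj] at h1 ⊢
    exact cj_o2_of h1

/-- `C_Y(N) ≤ D ≤ Y`, `N` normal in `Y`: `O₂(D) ⊓ C(N)` is normal in `Y`. -/
theorem YQ_of {D Y N : Subgroup G} (hDY : D ≤ Y) (hYN : Y ≤ normalizer (N : Set G))
    (hst : Y ⊓ centralizer (N : Set G) ≤ D) :
    Y ≤ normalizer ((o2 D ⊓ centralizer (N : Set G) : Subgroup G) : Set G) := by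
  rw [inf_eq_of hDY hYN hst]
  intro y hy
  have h1 : cj y (Y ⊓ centralizer (N : Set G)) = Y ⊓ centralizer (N : Set G) := by
    rw [cj_inf, cj_centralizer, cj_eq_of_mem_normalizer (hYN hy), cj_eq_of_mem_normalizer (Subgroup.le_normalizer hy)]
  rw [mem_normalizer_iff_cj, cj_o2_of h1]

end fin

section frame

variable {B Q V ZJ : Subgroup G} {L W Z C : ι → Subgroup G} {q : ℕ} (h : Fg B Q V ZJ L W Z C q)
include h

/-- `Y i` centralises `ZJ ⊓ C i` -/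
theorem YL_cent (i : ι) : YL ZJ L i ≤ centralizer ((ZJ ⊓ C i : Subgroup G) : Set G) := by
  refine sup_le (centralizer_le inf_le_left) fun l hl => ?_
  rw [mem_centralizer_iff]
  rintro z ⟨hz, hzC⟩
  exact (h.LC i l hl z hz hzC).symm

/-- `Y i` centralises `Z l` for `l ≠ i` -/
theorem YL_cent_Z {i l : ι} (hil : i ≠ l) : YL ZJ L i ≤ centralizer (Z l : Set G) :=
  (YL_cent h i).trans (centralizer_le (le_inf (h.Z_le l) ((h.blk l).ZV.trans (h.WjC i l hil))))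

/-- **`C_{Y i}(Z i) ≤ C_G(ZJ)`** -/
theorem stab (i : ι) : YL ZJ L i ⊓ centralizer (Z i : Set G) ≤ centralizer (ZJ : Set G) := by
  rintro x ⟨h1, h2⟩
  rw [mem_centralizer_iff]
  intro z hz
  obtain ⟨w, hw, c, hc, hcJ, rfl⟩ := h.split_ZJ i hz
  have e1 := mem_centralizer_iff.1 h2 w hw
  have e2 := mem_centralizer_iff.1 (YL_cent h i h1) c ⟨hcJ, hc⟩
  calc w * c * x = w * (c * x) := mul_assoc _ _ _
    _ = w * x * c := by rw [e2, ← mul_assoc]
    _ = x * (w * c) := by rw [e1, mul_assoc]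

theorem cent_NL (i : ι) : YL ZJ L i ⊓ centralizer (NL ZJ L Z i : Set G) ≤ centralizer (ZJ : Set G) :=
  (inf_le_inf_left _ (centralizer_le (Z_le_NL ZJ L Z i))).trans (stab h i)

/-- `N i ≤ ⟨ZJ^(Y i)⟩` -/
theorem NE_ (i : ι) : NL ZJ L Z i ≤ EI ZJ (YL ZJ L) {i} := by
  refine le_trans ?_ (EI_single ZJ (YL ZJ L) i)
  exact EE_le fun y hy => (cj_mono y (h.Z_le i)).trans (cj_le_EE hy)

theorem inf_eq_o2 [Finite G] (i : ι) : o2 (centralizer (ZJ : Set G)) ⊓ centralizer (NL ZJ L Z i : Set G) =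
    o2 (YL ZJ L i ⊓ centralizer (NL ZJ L Z i : Set G)) :=
  inf_eq_of (DY_ ZJ L i) (YN_ ZJ L Z i) (cent_NL h i)

theorem YQ_ [Finite G] (i : ι) : YL ZJ L i ≤
    normalizer ((o2 (centralizer (ZJ : Set G)) ⊓ centralizer (NL ZJ L Z i : Set G) : Subgroup G) : Set G) :=
  YQ_of (DY_ ZJ L i) (YN_ ZJ L Z i) (cent_NL h i)

end frame

end Cfsg.Agent.Omega.EDel.Flds
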