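import Cfsg.Agent.Omega.EDel.QP
import Cfsg.Agent.Omega.ESOne.Fields

/-!
# THEOREM S'' : the field `gen` of `ESym.CoreS.Core` over the small frame `Sk0` (LEMMA G'', helper557 #23477)

* `le_sup_of_moves` : a block `L` over `B`, `q = 2`, `K` normalised by `L`, `L` not in `N(B ⊓ K)`: `L ≤ K ⊔ D`;
* `Sk0.gen` : `K` normal in `Y j`, `K ⊓ O` moves `N j`: `Y j ≤ K ⊔ D`.
-/

set_option autoImplicit false
set_option linter.unusedSectionVars false

namespace Cfsg.Agent.Omega.EDel.GenS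

open Subgroup Cfsg Cfsg.Agent.ZN.ChoiceBase
open Cfsg.Agent.ZN (zc zl o2)
open Cfsg.Agent.ZN.ChoiceSit (Syl)
open Cfsg.Agent.Omega.OM.Uni (FB)
open Cfsg.Agent.Omega.ESOne
open Cfsg.Agent.Omega.EK3 (CT mem_CT ET CT_norm_ET ZJ_le_ET)
open Cfsg.Agent.Omega.EK3.StarE (EE le_EE norm_EE EE_le cj_le_EE)

universe u

variable {G : Type u} [Group G]

/-- **a normal subgroup of a block which moves the module** (`q = 2`) -/
theorem le_sup_of_moves [Finite G] {B L W Z K D : Subgroup G} {z : G} (hb : FB B L W Z 2)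
    (hz : ∀ x, x ∈ Z ↔ x = 1 ∨ x = z) (hKn : L ≤ normalizer (K : Set G))
    (hm : ¬ L ≤ normalizer ((B ⊓ K : Subgroup G) : Set G)) (hD : L ⊓ centralizer ({z} : Set G) ≤ D) :
    L ≤ K ⊔ D := by
  have hzZ : z ∈ Z := (hz z).2 (Or.inr rfl)
  have hWc : ∀ x ∈ W, ∀ y ∈ W, x * y = y * x := fun x hx y hy => SQ1.Bau.elem_comm hb.el x hx y hy
  have hWs : ∀ x ∈ W, x * x = 1 := fun x hx => by
    have := SQ1.Bau.elem_sq hb.el x hx
    rwa [pow_two] at this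
  -- some `b ∈ B ⊓ K` moves `W`
  have h1 : ∃ b ∈ B ⊓ K, ¬ ∀ v ∈ W, b * v = v * b := by
    by_contra hcon
    push Not at hcon
    apply hm
    intro l hl
    rw [mem_normalizer_iff_cj]
    refine Subgroup.eq_of_le_of_card_ge ?_ (card_cj l _).ge
    rintro _ ⟨x, hx, rfl⟩
    exact ⟨hb.cor l hl x hx.1 (hcon x hx), (mem_normalizer_iff.1 (hKn hl) x).1 hx.2⟩
  obtain ⟨b, ⟨hbB, hbK⟩, hbm⟩ := h1
  -- `b` acts as the transvection with centre `z`
  have hact : ∀ v ∈ W, v ∉ Z → b * v * b⁻¹ = z * v := by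
    intro v hv hvZ
    have h2 : b * v * b⁻¹ * v⁻¹ ∈ Z := hb.com b hbB v hv
    rcases (hz _).1 h2 with h3 | h3
    · exfalso
      have h4 : b * v = v * b := by
        have := mul_inv_eq_one.1 h3
        exact mul_inv_eq_iff_eq_mul.1 this
      exact hbm (hb.free b hbB v hv hvZ h4)
    · exact mul_inv_eq_iff_eq_mul.1 h3
  have hzW : z ∈ W := hb.ZV hzZ
  intro l hl
  by_cases hlz : l * z = z * l
  · exact mem_sup_right (hD ⟨hl, mem_centralizer_singleton_iff.2 hlz⟩)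
  -- `w = z^l`
  set w := l * z * l⁻¹ with hw
  have hwW : w ∈ W := hb.nV l hl z hzW
  have hz1 : z ≠ 1 := by
    rintro rfl
    exact hlz (by simp)
  have hnot : ∀ y ∈ L, y * z ≠ z * y → y * z * y⁻¹ ∉ Z := by
    intro y _ hyz hyZ
    rcases (hz _).1 hyZ with h3 | h3
    · exact hz1 (by simpa using conj_eq_one_iff.1 h3)
    · exact hyz (mul_inv_eq_iff_eq_mul.1 h3)
  have hwZ : w ∉ Z := hnot l hl hlz
  have hlz' : l⁻¹ * z ≠ z * l⁻¹ := by
    intro e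
    apply hlz
    calc l * z = l * (z * l⁻¹) * l := by group
      _ = l * (l⁻¹ * z) * l := by rw [e]
      _ = z * l := by group
  have hw' : l⁻¹ * z * l ∈ W := by
    have := hb.nV l⁻¹ (inv_mem hl) z hzW
    rwa [inv_inv] at this
  have hw'Z : l⁻¹ * z * l ∉ Z := by
    have := hnot l⁻¹ (inv_mem hl) hlz'
    rwa [inv_inv] at this
  -- `κ = b * (l b l⁻¹)`
  have hκK : b * (l * b * l⁻¹) ∈ K := mul_mem hbK ((mem_normalizer_iff.1 (hKn hl) b).1 hbK)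
  have h5 : (l * b * l⁻¹) * z * (l * b * l⁻¹)⁻¹ = w * z := by
    calc (l * b * l⁻¹) * z * (l * b * l⁻¹)⁻¹ = l * (b * (l⁻¹ * z * l) * b⁻¹) * l⁻¹ := by group
      _ = l * (z * (l⁻¹ * z * l)) * l⁻¹ := by rw [hact _ hw' hw'Z]
      _ = w * z := by rw [hw]; group
  have h6 : b * z * b⁻¹ = z := by
    rw [hb.cZ b hbB z hzZ]
    group
  have h7 : (b * (l * b * l⁻¹)) * z * (b * (l * b * l⁻¹))⁻¹ = w := by
    calc (b * (l * b * l⁻¹)) * z * (b * (l * b * l⁻¹))⁻¹ =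
        b * ((l * b * l⁻¹) * z * (l * b * l⁻¹)⁻¹) * b⁻¹ := by group
      _ = (b * w * b⁻¹) * (b * z * b⁻¹) := by rw [h5]; group
      _ = z * w * z := by rw [hact w hwW hwZ, h6]
      _ = w * (z * z) := by rw [hWc z hzW w hwW, mul_assoc]
      _ = w := by rw [hWs z hzW, mul_one]
  have hb'L : b * (l * b * l⁻¹) ∈ L := mul_mem (hb.BL hbB) (mul_mem (mul_mem hl (hb.BL hbB)) (inv_mem hl))
  have h8 : (b * (l * b * l⁻¹))⁻¹ * l ∈ D := by
    refine hD ⟨L.mul_mem (L.inv_mem hb'L) hl, mem_centralizer_singleton_iff.2 ?_⟩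
    have h9 : (b * (l * b * l⁻¹)) * z * (b * (l * b * l⁻¹))⁻¹ = l * z * l⁻¹ := h7
    calc (b * (l * b * l⁻¹))⁻¹ * l * z = (b * (l * b * l⁻¹))⁻¹ * (l * z * l⁻¹) * l := by group
      _ = (b * (l * b * l⁻¹))⁻¹ * ((b * (l * b * l⁻¹)) * z * (b * (l * b * l⁻¹))⁻¹) * l := by rw [h9]
      _ = z * ((b * (l * b * l⁻¹))⁻¹ * l) := by group
  have e : l = (b * (l * b * l⁻¹)) * ((b * (l * b * l⁻¹))⁻¹ * l) := by group
  rw [e]
  exact Subgroup.mul_mem_sup hκK h8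

section frame

variable [Finite G] {S : Sylow 2 G} {K B ZJ Q V : Subgroup G} {ι : Type} [Finite ι]
  {L W Z C : ι → Subgroup G} {z : ι → G}

/-- **QP over `Sk0`** -/
theorem _root_.Cfsg.Agent.Omega.ESOne.Sk0.gen (h : Sk0 S K B ZJ Q V L W Z C z) (j : ι)
    (hj : ({j} : Set ι) ≠ Set.univ) (K' : Subgroup G) (hK : K' ≤ YY ZJ L j)
    (hn : YY ZJ L j ≤ normalizer (K' : Set G))
    (hm : ¬ K' ⊓ OO ZJ ≤ centralizer (NN ZJ L z j : Set G)) : YY ZJ L j ≤ K' ⊔ DD ZJ := by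
  have hT : (({j} : Set ι)ᶜ).Nonempty := by
    rw [Set.nonempty_compl]
    exact hj
  have hYT : YY ZJ L j ≤ CT z ({j} : Set ι)ᶜ := h.Y_le_CT (by simp)
  have hEE : EE ZJ (YY ZJ L j) ≤ ET ZJ z ({j} : Set ι)ᶜ := by
    refine EE_le fun y hy => ?_
    have h3 := cj_mono (y : G) (ZJ_le_ET (ZJ := ZJ) (z := z) (T := ({j} : Set ι)ᶜ))
    rwa [cj_eq_of_mem_normalizer (CT_norm_ET (hYT hy))] at h3
  have hWB : EE ZJ (YY ZJ L j) ≤ B := hEE.trans ((h.ET_le_o2 hT).trans (h.o2_CT_le_B _))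
  have hWc : ∀ x ∈ EE ZJ (YY ZJ L j), ∀ y ∈ EE ZJ (YY ZJ L j), x * y = y * x :=
    fun x hx y hy => h.ET_comm hT (hEE hx) (hEE hy)
  have hW2 : ∀ x ∈ EE ZJ (YY ZJ L j), x * x = 1 := fun x hx => by
    have := h.ET_sq hT (hEE hx)
    rwa [pow_two] at this
  have hCW : EE ZJ (YY ZJ L j) ⊓ centralizer (B : Set G) ≤ ZJ := by
    intro x hx
    rw [← h.fr.zcB]
    exact mem_zc.2 ⟨hWB hx.1, h.ET_sq hT (hEE hx.1), fun y hy => mem_centralizer_iff.1 hx.2 y hy⟩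
  have hFO : K' ⊓ OO ZJ ≤ K' ⊓ centralizer (ZJ : Set G) := inf_le_inf_left _ OO_le_D
  have hy : ∃ y ∈ YY ZJ L j, ¬ K' ⊓ OO ZJ ≤ centralizer (cj y ZJ : Set G) := by
    by_contra hcon
    push Not at hcon
    apply hm
    rw [le_centralizer_iff]
    refine EE_le fun y hy => ?_
    rw [le_centralizer_iff]
    exact (hcon y hy).trans (centralizer_le (cj_mono y (zpowers_le.2 (h.z_mem j))))
  obtain ⟨y, hyY, hyF⟩ := hy
  have hmv := QP.moves_of h.syl_B le_rfl hWB hWc hW2 (norm_EE ZJ (YY ZJ L j)) (le_EE ZJ _) hCW hK hn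
    inf_le_right hFO hyY hyF
  have hL : L j ≤ K' ⊔ DD ZJ := by
    refine le_sup_of_moves (h.fr.blk j) (h.hz j) ((L_le_Y j).trans hn) hmv ?_
    exact (inf_le_inf_right _ (L_le_Y j)).trans (h.cap j)
  exact sup_le le_sup_right hL

end frame

end Cfsg.Agent.Omega.EDel.GenS
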