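import Cfsg.Agent.Omega.EDel.Fin
import Cfsg.Agent.Omega.EDel.Mv
import Cfsg.Agent.Omega.ESym.Light
import Cfsg.Agent.Omega.Node.SymOf

/-!
# THEOREM S'' (#23971): (E) for symmetric blocks with at least three light pairs, every stage of `HypL`

* `Zf.cjY_of_uni`, `Zf.nl_of_uni` : `cjY` and `nl` of `Zf.false_of` from UNI+ (`UniI`) and `NLoc (KZ B ZJ)`;
* **`eS`** : `Node.SymOf.ES K (fun k m => 2 ≤ k ∨ 3 ≤ m)`; `eS_big`, `eS_many`.
-/

set_option autoImplicit false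
set_option linter.unusedSectionVars false

namespace Cfsg.Agent.Omega.EDel

open Subgroup Cfsg Cfsg.Agent.ZN.ChoiceBase
open Cfsg.Agent.ZN (zc zl o2 jj zj bau)
open Cfsg.Agent.Omega.SQ1.FFSym
open Cfsg.Agent.Omega.FFThm (SymKM)
open Cfsg.Agent.Omega.FrameFF (cv)
open Cfsg.Agent.Omega.OM.LevD (LB)
open Cfsg.Agent.Omega.Node.MultiOf (KZ NLoc FBl StgP)
open Cfsg.Agent.Omega.Node.SymOf (ES MulS)
open Cfsg.Agent.Omega.NO3S.ESym (UniI)
open Cfsg.Agent.Omega.Frame (Cls)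

universe u

section zf

variable {G : Type u} [Group G] {ι : Type} {B Q V X ZJ : Subgroup G} {L W Z C A : ι → Subgroup G} {z : ι → G}

/-- `z j ∈ W i` only for `i = j` -/
theorem Zf.eq_of_mem (h : Zf B Q V X ZJ L W Z C A z) {i j : ι} (hj : z j ∈ W i) : i = j := by
  by_contra hij
  have h1 : z j ∈ W j ⊓ C j := mem_inf.2 ⟨(h.fr.blk j).ZV (h.z_mem_Z j), h.fr.WjC j i (Ne.symm hij) hj⟩
  rw [h.fr.dir j, mem_bot] at h1
  exact h.z_ne j h1

theorem Zf.fbl [Finite G] {S : Sylow 2 G} {K : Subgroup G} (h : Zf B Q V X ZJ L W Z C A z) (lb : LB S K B ZJ)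
    (i : ι) : FBl B (L i) (W i) :=
  ⟨⟨_, _, h.fr.blk i⟩, (h.fr.blk i).toBlock (h.fr.cardZ i) lb.Bp lb.weakNormal⟩

theorem cent_sup_le (U ZJ : Subgroup G) : centralizer ((U ⊔ ZJ : Subgroup G) : Set G) ≤ centralizer (ZJ : Set G) :=
  centralizer_le (SetLike.coe_subset_coe.2 le_sup_right)

/-- UNI+ gives `cjY` -/
theorem Zf.cjY_of_uni [Finite G] {S : Sylow 2 G} {K : Subgroup G} (h : Zf B Q V X ZJ L W Z C A z)
    (lb : LB S K B ZJ) (uni : UniI B ZJ L W) {g : G} (hg : g ∈ normalizer (B : Set G)) {i j : ι}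
    (hij : g * z i * g⁻¹ = z j) : cj g (L i) ≤ YL ZJ L j := by
  obtain ⟨l, hl, hle⟩ := uni _ _ ((h.fbl lb i).conj hg)
  have h1 : z j ∈ W l := by
    rw [← hl, ← hij]
    exact ⟨z i, (h.fr.blk i).ZV (h.z_mem_Z i), rfl⟩
  have h2 := h.eq_of_mem h1
  subst h2
  exact hle.trans (sup_le le_sup_right ((cent_sup_le _ _).trans le_sup_left))

/-- UNI+ : `KZ` is generated by the `Y i` -/
theorem KZ_le_of_uni [Nonempty ι] (uni : UniI B ZJ L W) : KZ B ZJ ≤ ⨆ i, YL ZJ L i := by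
  obtain ⟨i₀⟩ := ‹Nonempty ι›
  refine sup_le ((D_le_YL i₀).trans (le_iSup (fun i => YL ZJ L i) i₀)) (iSup_le fun i => ?_)
  obtain ⟨j, -, h1⟩ := uni _ _ i.2
  exact (h1.trans (sup_le le_sup_right ((cent_sup_le _ _).trans le_sup_left))).trans
    (le_iSup (fun i => YL ZJ L i) j)

end zf

/-- **(E) over a light frame**: `Ch` coordinates, `LB`, `FrL`, UNI+. -/
theorem false_of_lf {G : Type u} [Group G] [Finite G] (hML : ML.Final.MLK.{u, u}) (hK : IsKProper G)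
    (hG : IsCharacteristicTwoType G) {S : Sylow 2 G} {P K B ZJ : Subgroup G} (lb : LB S K B ZJ) {k m : ℕ}
    (hm : 2 ≤ m) (hc : 2 ≤ k ∨ 3 ≤ m)
    {N : SymKM (S : Subgroup G) P (zl (S : Subgroup G) P) (cv (S : Subgroup G) P) k m}
    (F : ESym.Light.LF S P B ZJ N) (hN : NLoc (KZ B ZJ)) : False := by
  have hfi := F.fi
  set z : F.ι → G := fun i => u P (zl (S : Subgroup G) P) ⊥ N.e (F.J i) (F.X i) (F.X' i) with hzdef
  have hz : ∀ i x, x ∈ zpowers (z i) ↔ x = 1 ∨ x = z i := by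
    intro i x
    have h1 : z i ^ 2 = 1 := SQ1.Bau.elem_sq F.frl.elX _ (F.frl.VX (F.frl.ZV i (mem_zpowers _)))
    constructor
    · intro hx
      obtain ⟨n, rfl⟩ := mem_zpowers_iff.1 hx
      rcases Int.even_or_odd' n with ⟨c, rfl | rfl⟩
      · left
        rw [zpow_mul]
        have : z i ^ (2 : ℤ) = 1 := by exact_mod_cast h1
        rw [this, one_zpow]
      · right
        rw [zpow_add, zpow_mul]
        have : z i ^ (2 : ℤ) = 1 := by exact_mod_cast h1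
        rw [this, one_zpow, zpow_one, one_mul]
    · rintro (rfl | rfl)
      · exact one_mem _
      · exact mem_zpowers _
  have zf := Zf.of_lb hG lb F.frl hz F.uni
  have h4 : 2 ^ 2 ≤ 2 ^ m := Nat.pow_le_pow_right (by norm_num) hm
  have h5 : 5 ≤ 2 ^ m + 1 := by omega
  have hZ : ZJ = closure (Set.range z) := by
    apply le_antisymm
    · refine (ZJ_le_iSup (OM.Lev.Main.toFg F.frl)).trans (iSup_le fun i => ?_)
      exact zpowers_le.2 (subset_closure ⟨i, rfl⟩)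
    · rw [closure_le]
      rintro _ ⟨i, rfl⟩
      exact zf.z_mem i
  have hSZ : (S : Subgroup G) ≤ normalizer (ZJ : Set G) :=
    (le_normalizer (H := (S : Subgroup G))).trans
      (lb.nrm _ S.isPGroup' ((lb.KB.trans lb.eqB.le).trans inf_le_left))
  have hT : (S : Subgroup G) ≤ normalizer (B : Set G) := by
    rw [lb.eqB]
    exact le_norm_cent hSZ
  have mv : Mv B z := mv_of F.sy F.ch h5 zf.syl_D hZ hT
  have three : ∀ i j : F.ι, ∃ l, l ≠ i ∧ l ≠ j := by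
    refine three_of F.sy F.ch h5 ?_
    rcases hc with h6 | h6
    · exact Or.inl h6
    · have h7 : 2 ^ 3 ≤ 2 ^ m := Nat.pow_le_pow_right (by norm_num) h6
      exact Or.inr (by omega)
  have hne : Nonempty F.ι := by
    obtain ⟨a, -⟩ := mv.tp
    exact ⟨a⟩
  refine zf.false_of hML hK (fun g hg i j hij => zf.cjY_of_uni lb F.uni hg hij) (fun U hU hU2 hn => ?_) three
    (fun i j => ?_) (fun i j hij => ?_)
  · exact hU (hN U hU2 ((KZ_le_of_uni F.uni).trans (iSup_le hn)))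
  · obtain ⟨g, -, σ, hσ, h1⟩ := mv.tr i j
    exact ⟨g, σ, hσ, h1⟩
  · obtain ⟨g, -, σ, hσ, h1⟩ := mv.sw i j hij
    exact ⟨g, σ, hσ, h1⟩

variable {K : Cls.{u}}

/-- **(E), symmetric blocks, at least three light pairs, every stage of `HypL`.** -/
theorem eS (hML : ML.Final.MLK.{u, u}) : ES K fun k m => 2 ≤ k ∨ 3 ≤ m := by
  intro G _ _ _ S P K' B ZJ ι L W Z C k m hk hm hc hM hN
  obtain ⟨N⟩ := hM.sym
  obtain ⟨F⟩ := ESym.Light.exists_light hM.hyp.toHypN hM.stg hk hm N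
  exact (false_of_lf hML hM.hyp.ctx.kproper hM.hyp.ctx.char2 hM.stg.lb hm hc F hN).elim

theorem eS_big (hML : ML.Final.MLK.{u, u}) : ES K fun k m => k = 1 ∧ 3 ≤ m := (eS hML).mono fun _ _ h => Or.inr h.2

theorem eS_many (hML : ML.Final.MLK.{u, u}) : ES K fun k _ => 2 ≤ k := (eS hML).mono fun _ _ h => Or.inl h

end Cfsg.Agent.Omega.EDel
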