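import Cfsg.Agent.Omega.EDel.FinalL
import Cfsg.Agent.Omega.Node.OmLevZ

/-!
# `SymBigL`, `SymManyL` (fields 7, 8 of `Node.NO3SOpen.OpenL`) from MLK

(Om): `OmLevZ.omS_two`; (E): THEOREM S'' (`FinalL.eS_three`).
-/

set_option autoImplicit false

namespace Cfsg.Agent.Omega.EDel.PlugL

open Cfsg.Agent.Omega.Frame (Cls)
open Cfsg.Agent.Omega.Node

universe v

variable {K : Cls.{v}}

/-- **`SymBigL K`**: `V_P` = even subsets of `{1..2^m+1}`, `m ≥ 3` -/
theorem symBigL (hML : ML.Final.MLK.{v, v}) : NO3S.SymBigL K :=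
  SymOf.symBigL_of OmLevZ.omS_two ((FinalL.eS_three hML K).mono fun _ _ h => Or.inr h.2)

/-- **`SymManyL K`**: `k ≥ 2` such modules, `m ≥ 2` -/
theorem symManyL (hML : ML.Final.MLK.{v, v}) : NO3S.SymManyL K :=
  SymOf.symManyL_of OmLevZ.omS_two ((FinalL.eS_three hML K).mono fun _ _ h => Or.inl h)

end Cfsg.Agent.Omega.EDel.PlugL
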