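import Cfsg.Agent.ZN.ChoiceSit

/-!
# `B` is Sylow in `C_G(z_n : n ≠ l, m)` (bb #24127 (2))

`B` Sylow in `D = C_G(z_n : all n)`, `N_G(B)` permutes the `z_n` and contains no element which interchanges `z_l`, `z_m`
and fixes the other ones.
-/

set_option autoImplicit false

namespace Cfsg.Agent.Omega.EDel.SylB

open Subgroup
open Cfsg.Agent.ZN.ChoiceSit (Syl syl_not_dvd)

variable {G : Type*} [Group G]

/-- a `2`-group which is its own normaliser in every larger `2`-group of `X` is Sylow in `X` -/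
theorem syl_of_nc [Finite G] {B X : Subgroup G} (hBX : B ≤ X) (hB : IsPGroup 2 B)
    (h : ∀ Q : Subgroup G, Q ≤ X ⊓ normalizer (B : Set G) → IsPGroup 2 Q → B ≤ Q → Q = B) : Syl B X := by
  refine ⟨hBX, hB, fun Q hQ hp hle => ?_⟩
  by_contra hne
  have hn : ¬ Q ⊓ normalizer (B : Set G) ≤ B := by
    intro h0
    have hf : Fact (Nat.Prime 2) := ⟨Nat.prime_two⟩
    have hlt : B < Q := lt_of_le_of_ne hle fun h => hne h.symm
    have h1 : B.subgroupOf Q < ⊤ := by
      refine lt_top_iff_ne_top.2 fun h2 => ?_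
      exact hlt.not_ge (subgroupOf_eq_top.1 h2)
    have h2 := hp.isNilpotent
    have h3 := Group.normalizerCondition_of_isNilpotent (G := Q) _ h1
    refine h3.not_ge ?_
    intro x hx
    rw [mem_subgroupOf]
    refine h0 ⟨x.2, ?_⟩
    rw [mem_normalizer_iff] at hx
    refine mem_normalizer_iff.2 fun y => ?_
    constructor
    · intro hy
      exact (hx ⟨y, hle hy⟩).1 hy
    · intro hy
      have hyQ : y ∈ Q := by
        have h4 := Q.mul_mem (Q.mul_mem (Q.inv_mem x.2) (hle hy)) x.2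
        have e : (x : G)⁻¹ * (x * y * (x : G)⁻¹) * x = y := by group
        rwa [e] at h4
      exact (hx ⟨y, hyQ⟩).2 hy
  refine hn (h _ (inf_le_inf hQ le_rfl) (hp.to_le inf_le_left) (le_inf hle le_normalizer)).le

variable {ι : Type*} {z : ι → G} {B : Subgroup G} {l m : ι}

/-- `N_G(B) ∩ C_G(z_n : n ≠ l, m) ≤ D` -/
theorem nB (hinj : Function.Injective z)
    (hN : ∀ g ∈ normalizer (B : Set G), ∃ σ : Equiv.Perm ι, ∀ i, g * z i * g⁻¹ = z (σ i))
    (hsw : ¬ ∃ g ∈ normalizer (B : Set G), ∃ σ : Equiv.Perm ι, (∀ i, g * z i * g⁻¹ = z (σ i)) ∧ σ l = m ∧ σ m = l ∧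
      ∀ n, n ≠ l → n ≠ m → σ n = n) :
    centralizer (z '' {n | n ≠ l ∧ n ≠ m}) ⊓ normalizer (B : Set G) ≤ centralizer (Set.range z) := by
  rintro g ⟨hg, hgB⟩
  obtain ⟨σ, hσ⟩ := hN g hgB
  have hfix : ∀ n, n ≠ l → n ≠ m → σ n = n := fun n h1 h2 => by
    apply hinj
    rw [← hσ n, mul_inv_eq_iff_eq_mul]
    exact (mem_centralizer_iff.1 hg (z n) ⟨n, ⟨h1, h2⟩, rfl⟩).symm
  have hlm : σ l = l ∨ σ l = m := by
    by_contra hcon
    push Not at hcon
    have h1 := hfix (σ l) hcon.1 hcon.2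
    exact hcon.1 (σ.injective h1)
  have hml : σ m = m ∨ σ m = l := by
    by_contra hcon
    push Not at hcon
    have h1 := hfix (σ m) hcon.2 hcon.1
    exact hcon.1 (σ.injective h1)
  have hl : σ l = l ∧ σ m = m := by
    rcases hlm with h1 | h1
    · refine ⟨h1, ?_⟩
      rcases hml with h2 | h2
      · exact h2
      · have h3 : m = l := σ.injective (h2.trans h1.symm)
        rw [h3]; exact h1
    · rcases hml with h2 | h2
      · have h3 : l = m := σ.injective (h1.trans h2.symm)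
        rw [h3]; exact ⟨h2, h2⟩
      · exact absurd ⟨g, hgB, σ, hσ, h1, h2, hfix⟩ hsw
  have hall : ∀ n, σ n = n := fun n => by
    by_cases h1 : n = l
    · rw [h1]; exact hl.1
    · by_cases h2 : n = m
      · rw [h2]; exact hl.2
      · exact hfix n h1 h2
  refine mem_centralizer_iff.2 ?_
  rintro _ ⟨n, rfl⟩
  have h1 := hσ n
  rw [hall n, mul_inv_eq_iff_eq_mul] at h1
  exact h1.symm

/-- **(2)** `B` is Sylow in `C_G(z_n : n ≠ l, m)` -/
theorem syl [Finite G] (hB : Syl B (centralizer (Set.range z))) (hinj : Function.Injective z)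
    (hN : ∀ g ∈ normalizer (B : Set G), ∃ σ : Equiv.Perm ι, ∀ i, g * z i * g⁻¹ = z (σ i))
    (hsw : ¬ ∃ g ∈ normalizer (B : Set G), ∃ σ : Equiv.Perm ι, (∀ i, g * z i * g⁻¹ = z (σ i)) ∧ σ l = m ∧ σ m = l ∧
      ∀ n, n ≠ l → n ≠ m → σ n = n) :
    Syl B (centralizer (z '' {n | n ≠ l ∧ n ≠ m})) := by
  refine syl_of_nc (hB.1.trans (centralizer_le (Set.image_subset_range _ _))) hB.2.1 fun Q hQ hp hle => ?_
  exact hB.2.2 Q (hQ.trans (nB hinj hN hsw)) hp hle

theorem not_dvd [Finite G] (hB : Syl B (centralizer (Set.range z))) (hinj : Function.Injective z)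
    (hN : ∀ g ∈ normalizer (B : Set G), ∃ σ : Equiv.Perm ι, ∀ i, g * z i * g⁻¹ = z (σ i))
    (hsw : ¬ ∃ g ∈ normalizer (B : Set G), ∃ σ : Equiv.Perm ι, (∀ i, g * z i * g⁻¹ = z (σ i)) ∧ σ l = m ∧ σ m = l ∧
      ∀ n, n ≠ l → n ≠ m → σ n = n) :
    ¬ 2 ∣ B.relIndex (centralizer (z '' {n | n ≠ l ∧ n ≠ m})) := syl_not_dvd (syl hB hinj hN hsw)

end Cfsg.Agent.Omega.EDel.SylB
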