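import Cfsg.Agent.Omega.EK3.StarE
import Cfsg.Agent.Omega.KL.FlagNO
import Cfsg.Agent.Omega.KL.StarQ.GrpD

/-!
# `|I| ≥ 3` blocks over a `T`-frame, any `q_b`, fields (bb #24915 (A), (B), #25349): (E) is impossible (helper804)

`T` is a 2-group, `F i ≤ R i ≤ V i` (`i : ι`), `T` centralises the `F i` and `C_{V i}(T) ≤ F i`.
`XO F l = C_G(F n : n ≠ l)`, `XT F i j = C_G(F n : n ≠ i, j)`, `DT F = C_G(F n : all n)`, `ZT F = ⟨F n⟩`.

* `TFr T F R V L` : the frame;
* `TFr.fr` : the frame `StarE.Fr` (K3'', #23086) over `O₂(DT F)`, `DT F`, `ZT F`, `XO F`, `⟨F i ^ XO F i⟩`, `L`;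
* **`TFr.exists_ginD`** : `StarE.Out` (i, j, F₁, F, x) gives the input `GInD` of KL* with bad parabolics (#24701) for
  `C = XO F j`, `D = XO F j ∩ N(R j)`, `M = ⟨ZT^⟨XO F i, XO F j⟩⟩`, `Z = F j`, `Y = V i`;
* **`TFr.false_of`** : contradiction.
-/

set_option autoImplicit false
set_option linter.unusedSectionVars false

namespace Cfsg.Agent.Omega.EDel.TStar

open Subgroup Cfsg Cfsg.Agent.ZN.ChoiceBase
open Cfsg.Agent.ZN (o2)
open Cfsg.Agent.Omega.NO3S.EThree
open Cfsg.Agent.Omega.NO3S.EThree.ExactA (eab_mono eab_sup eab_iff)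
open Cfsg.Agent.Omega.EK3.Rank (NoOn)
open Cfsg.Agent.Omega.EK3.StarE (EE EE_le EE_mono le_EE cj_le_EE norm_EE)
open Cfsg.Agent.Omega.NoFF.ThmJFam (Ex)
open Cfsg.Agent.MinSimple.MinParabolic (IsMinPar)
open Cfsg.Agent.MinSimple.VModule (le_normalizer_o2 o2_isPGroup o2_le le_o2 o2_le_of_sylow)
open Cfsg.Agent.Omega.KL.FlagNO (V_le_of_norm le_V' le_normalizer_V' V_mono_right)
open Cfsg.Agent.Omega.KL.StarQ (GInD)

universe u

variable {G : Type u} [Group G] {ι : Type*}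

/-- `⟨F n⟩` -/
def ZT (F : ι → Subgroup G) : Subgroup G := ⨆ n, F n

/-- `C_G(F n : all n)` -/
def DT (F : ι → Subgroup G) : Subgroup G := centralizer (ZT F : Set G)

/-- `C_G(F n : n ≠ l)` -/
def XO (F : ι → Subgroup G) (l : ι) : Subgroup G := centralizer {x : G | ∃ n, n ≠ l ∧ x ∈ F n}

/-- `C_G(F n : n ≠ i, j)` -/
def XT (F : ι → Subgroup G) (i j : ι) : Subgroup G := centralizer {x : G | ∃ n, n ≠ i ∧ n ≠ j ∧ x ∈ F n}

/-- `⟨F l ^ XO F l⟩` -/
def NT (F : ι → Subgroup G) (l : ι) : Subgroup G := NoFF.Basic.V (F l) (XO F l)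

/-- **The `T`-frame.** -/
structure TFr (T : Subgroup G) (F R V L : ι → Subgroup G) : Prop where
  two : IsPGroup 2 T
  FT : ∀ i, F i ≤ T
  TF : ∀ i, T ≤ centralizer (F i : Set G)
  elF : ∀ i, Ex (F i)
  FR : ∀ i, F i ≤ R i
  RV : ∀ i, R i ≤ V i
  capV : ∀ i, V i ⊓ centralizer (T : Set G) ≤ F i
  /-- `V i ≤ N i` -/
  VN : ∀ i, V i ≤ NT F i
  sylX : ∀ l, ¬ 2 ∣ T.relIndex (XO F l)
  o2T : ∀ i j, i ≠ j → o2 (XT F i j) ≤ T
  char2 : ∀ i j, i ≠ j → XT F i j ⊓ centralizer (o2 (XT F i j) : Set G) ≤ o2 (XT F i j)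
  LX : ∀ i, L i ≤ XO F i
  LV : ∀ i, L i ≤ normalizer (V i : Set G)
  LR : ∀ i j, i ≠ j → L i ≤ normalizer (R j : Set G)
  gen : ∀ i, XO F i ≤ DT F ⊔ L i
  DR : ∀ i, DT F ≤ normalizer (R i : Set G)
  ntR : ∀ j, XO F j ⊓ normalizer (T : Set G) ≤ normalizer (R j : Set G)
  ntV : ∀ i j, i ≠ j → XO F j ⊓ normalizer (T : Set G) ≤ normalizer (V i : Set G)
  /-- block type -/
  good : ∀ i j, i ≠ j → ∀ P : Subgroup G, IsMinPar T P → P ≤ XO F j → ¬ P ≤ normalizer (R j : Set G) →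
    ∀ g ∈ P, Odd (orderOf g) → g ∈ centralizer (V i : Set G)
  /-- the others -/
  bad : ∀ i j, i ≠ j → ∀ P : Subgroup G, IsMinPar T P → P ≤ XO F j → P ≤ normalizer (R j : Set G) →
    P ≤ centralizer (F j : Set G) ∨ P ≤ normalizer (V i : Set G)
  ne : o2 (DT F) ≠ ⊥
  nl : ∀ U : Subgroup G, U ≤ o2 (DT F) → DT F ≤ normalizer (U : Set G) → (∀ i, L i ≤ normalizer (U : Set G)) → U = ⊥
  KX : ∀ l, IsKGroup (XO F l)

section basics

variable {F : ι → Subgroup G}

theorem F_le_ZT (n : ι) : F n ≤ ZT F := le_iSup F n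

theorem ZT_le {K : Subgroup G} (h : ∀ n, F n ≤ K) : ZT F ≤ K := iSup_le h

theorem le_cent_iff {K : Subgroup G} {s : Set G} : K ≤ centralizer s ↔ ∀ x ∈ s, K ≤ centralizer ({x} : Set G) := by
  constructor
  · intro h x hx
    exact h.trans (centralizer_le (Set.singleton_subset_iff.2 hx))
  · intro h k hk
    rw [mem_centralizer_iff]
    exact fun x hx => mem_centralizer_iff.1 (h x hx hk) x rfl

theorem le_XO {K : Subgroup G} {l : ι} (h : ∀ n, n ≠ l → K ≤ centralizer (F n : Set G)) : K ≤ XO F l := by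
  intro k hk
  rw [XO, mem_centralizer_iff]
  rintro x ⟨n, hn, hx⟩
  exact mem_centralizer_iff.1 (h n hn hk) x hx

theorem le_XT {K : Subgroup G} {i j : ι} (h : ∀ n, n ≠ i → n ≠ j → K ≤ centralizer (F n : Set G)) : K ≤ XT F i j := by
  intro k hk
  rw [XT, mem_centralizer_iff]
  rintro x ⟨n, hn, hn', hx⟩
  exact mem_centralizer_iff.1 (h n hn hn' hk) x hx

theorem XO_cent {l n : ι} (h : n ≠ l) : XO F l ≤ centralizer (F n : Set G) :=
  centralizer_le fun _ hx => ⟨n, h, hx⟩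

theorem XT_cent {i j n : ι} (h : n ≠ i) (h' : n ≠ j) : XT F i j ≤ centralizer (F n : Set G) :=
  centralizer_le fun _ hx => ⟨n, h, h', hx⟩

theorem DT_cent (n : ι) : DT F ≤ centralizer (F n : Set G) := centralizer_le (F_le_ZT n)

theorem DT_le_XO (l : ι) : DT F ≤ XO F l := le_XO fun n _ => DT_cent n

theorem XO_le_XT (i j : ι) : XO F i ≤ XT F i j := le_XT fun _ h _ => XO_cent h

theorem XO_le_XT' (i j : ι) : XO F j ≤ XT F i j := le_XT fun _ _ h => XO_cent h

theorem le_DT {K : Subgroup G} (h : ∀ n, K ≤ centralizer (F n : Set G)) : K ≤ DT F := by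
  rw [DT, Subgroup.le_centralizer_iff]
  exact ZT_le fun n => Subgroup.le_centralizer_iff.1 (h n)

/-- `C_{X l}(F l) = D` -/
theorem XO_inf (l : ι) : XO F l ⊓ centralizer (F l : Set G) ≤ DT F := le_DT fun n => by
  by_cases h : n = l
  · rw [h]
    exact inf_le_right
  · exact inf_le_left.trans (XO_cent h)

theorem F_le_NT (l : ι) : F l ≤ NT F l := le_V' _ _

end basics

namespace TFr

variable {T : Subgroup G} {F R V L : ι → Subgroup G} (h : TFr T F R V L)
include h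

theorem T_le_DT : T ≤ DT F := le_DT h.TF

theorem T_le_XO (l : ι) : T ≤ XO F l := h.T_le_DT.trans (DT_le_XO l)

theorem ZT_le_T : ZT F ≤ T := ZT_le h.FT

theorem TZ : T ≤ centralizer (ZT F : Set G) := h.T_le_DT

/-- the involutions of `Z(O₂(X_ij))` -/
theorem exists_om {i j : ι} (hij : i ≠ j) : ∃ W : Subgroup G, IsElementaryAbelian 2 W ∧ ZT F ≤ W ∧
    W ≤ o2 (XT F i j) ∧ XT F i j ≤ normalizer (W : Set G) := by
  set X := XT F i j with hX
  set Q := o2 X with hQ
  have hQX : Q ≤ X := o2_le X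
  have hcomm : ∀ a ∈ Q ⊓ centralizer (Q : Set G), ∀ b ∈ Q ⊓ centralizer (Q : Set G), a * b = b * a :=
    fun a ha b hb => mem_centralizer_iff.1 hb.2 a ha.1
  let W : Subgroup G :=
    { carrier := {x | x ∈ Q ⊓ centralizer (Q : Set G) ∧ x ^ 2 = 1}
      one_mem' := ⟨one_mem _, one_pow 2⟩
      mul_mem' := by
        rintro a b ⟨ha, ha2⟩ ⟨hb, hb2⟩
        refine ⟨mul_mem ha hb, ?_⟩
        have hc : Commute a b := hcomm a ha b hb
        rw [hc.mul_pow, ha2, hb2, one_mul]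
      inv_mem' := by
        rintro a ⟨ha, ha2⟩
        refine ⟨inv_mem ha, ?_⟩
        rw [inv_pow, ha2, inv_one] }
  have hmem : ∀ {x : G}, x ∈ W ↔ x ∈ Q ⊓ centralizer (Q : Set G) ∧ x ^ 2 = 1 := Iff.rfl
  have hWQ : W ≤ Q ⊓ centralizer (Q : Set G) := fun x hx => (hmem.1 hx).1
  refine ⟨W, eab_iff.2 ⟨fun x hx => mem_centralizer_iff.2 fun y hy => ?_, fun x hx => (hmem.1 hx).2⟩, ?_,
    hWQ.trans inf_le_left, ?_⟩
  · exact hcomm y (hWQ hy) x (hWQ hx)
  · refine ZT_le fun n x hx => hmem.2 ⟨?_, h.elF n x hx⟩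
    have hc : x ∈ centralizer (Q : Set G) := by
      have h1 : Q ≤ centralizer (F n : Set G) := (h.o2T i j hij).trans (h.TF n)
      exact (Subgroup.le_centralizer_iff.1 h1) hx
    have hxX : x ∈ X := ((h.T_le_XO i).trans (XO_le_XT i j)) (h.FT n hx)
    exact ⟨h.char2 i j hij ⟨hxX, hc⟩, hc⟩
  · intro g hg
    have hgQ : g ∈ normalizer (Q : Set G) := le_normalizer_o2 X hg
    rw [mem_normalizer_iff_cj]
    have key : ∀ y ∈ X, cj y W ≤ W := by
      intro y hy x hx
      have hyQ : y ∈ normalizer (Q : Set G) := le_normalizer_o2 X hy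
      rw [mem_cj] at hx
      obtain ⟨h1, h2⟩ := hmem.1 hx
      refine hmem.2 ⟨?_, ?_⟩
      · have h3 : x ∈ cj y (Q ⊓ centralizer (Q : Set G)) := by
          rw [mem_cj]
          exact h1
        rwa [cj_inf, cj_centralizer, cj_eq_of_mem_normalizer hyQ] at h3
      · have h3 : y * (y⁻¹ * x * y) ^ 2 * y⁻¹ = x ^ 2 := by
          rw [pow_two, pow_two]
          group
        rw [← h3, h2, mul_one, mul_inv_cancel]
    refine le_antisymm (key g hg) ?_
    have h1 := cj_mono g (key g⁻¹ (inv_mem hg))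
    rwa [cj_cj_inv] at h1

theorem E_le {i j : ι} (hij : i ≠ j) : ∃ W : Subgroup G, IsElementaryAbelian 2 W ∧
    W ≤ o2 (XT F i j) ∧ EE (ZT F) (XO F i ⊔ XO F j) ≤ W := by
  obtain ⟨W, h1, h2, h3, h4⟩ := h.exists_om hij
  refine ⟨W, h1, h3, EE_le fun y hy => ?_⟩
  have hy' : y ∈ normalizer (W : Set G) := h4 ((sup_le (XO_le_XT i j) (XO_le_XT' i j)) hy)
  have h5 := cj_mono y h2
  rwa [cj_eq_of_mem_normalizer hy'] at h5

theorem Eeab {i j : ι} (hij : i ≠ j) : IsElementaryAbelian 2 (EE (ZT F) (XO F i ⊔ XO F j)) := by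
  obtain ⟨W, h1, -, h2⟩ := h.E_le hij
  exact eab_mono h1 h2

theorem o2XT_le {i j : ι} (hij : i ≠ j) : o2 (XT F i j) ≤ o2 (DT F) := by
  refine le_o2 ((h.o2T i j hij).trans h.T_le_DT) (o2_isPGroup _) ?_
  exact ((DT_le_XO i).trans (XO_le_XT i j)).trans (le_normalizer_o2 _)

theorem EO {i j : ι} (hij : i ≠ j) : EE (ZT F) (XO F i ⊔ XO F j) ≤ o2 (DT F) := by
  obtain ⟨W, -, h1, h2⟩ := h.E_le hij
  exact (h2.trans h1).trans (h.o2XT_le hij)

theorem NE (i : ι) : NT F i ≤ EE (ZT F) (XO F i) :=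
  V_le_of_norm ((F_le_ZT i).trans (le_EE _ _)) (norm_EE _ _)

variable [Finite G] [Nontrivial ι]

theorem eab (i : ι) : IsElementaryAbelian 2 (NT F i) := by
  obtain ⟨j, hj⟩ := exists_ne i
  exact eab_mono (h.Eeab hj.symm) ((h.NE i).trans (EE_mono le_sup_left))

theorem NO (i : ι) : NT F i ≤ o2 (DT F) := by
  obtain ⟨j, hj⟩ := exists_ne i
  exact ((h.NE i).trans (EE_mono le_sup_left)).trans (h.EO hj.symm)

theorem NQ (i j : ι) : NT F i ≤ o2 (DT F) ⊓ centralizer (NT F j : Set G) := by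
  refine le_inf (h.NO i) ?_
  by_cases hij : i = j
  · subst hij
    exact (eab_iff.1 (h.eab i)).1
  · have h1 := (eab_iff.1 (h.Eeab hij)).1
    exact (((h.NE i).trans (EE_mono le_sup_left)).trans h1).trans (centralizer_le ((h.NE j).trans (EE_mono le_sup_right)))

theorem o2XO_le (l : ι) : o2 (XO F l) ≤ T := o2_le_of_sylow h.two (h.sylX l)

theorem syl_inf (l : ι) : XO F l ⊓ centralizer (F l : Set G) = DT F :=
  le_antisymm (XO_inf l) (le_inf (DT_le_XO l) (DT_cent l))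

/-- `Q l = O ∩ C(N l) = O₂(X l)` -/
theorem Q_eq (l : ι) : o2 (DT F) ⊓ centralizer (NT F l : Set G) = o2 (XO F l) := by
  apply le_antisymm
  · refine (KL.FlagNO.flag_inf (H := XO F l) (Z := F l) ?_)
    rw [h.syl_inf l]
  · refine le_inf ?_ ?_
    · refine le_o2 ((h.o2XO_le l).trans h.T_le_DT) (o2_isPGroup _) ?_
      exact (DT_le_XO l).trans (le_normalizer_o2 _)
    · exact KL.FlagNO.o2_cent h.two (h.sylX l) (h.TF l)

theorem no (ml : ML.Final.MLK.{u, u}) (l : ι) : NoOn (o2 (DT F)) (NT F l) := by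
  intro A hA hAO
  refine KL.FlagNO.flag_no ml h.two (h.T_le_XO l) (h.sylX l) (h.TF l) (h.KX l)
    (fun x hx => (eab_iff.1 (h.eab l)).2 x hx) ?_ (fun x hx => (eab_iff.1 hA).2 x hx)
  rw [h.syl_inf l]
  exact hAO

/-- **the frame of K3''** -/
theorem fr (ml : ML.Final.MLK.{u, u}) : EK3.StarE.Fr (o2 (DT F)) (DT F) (ZT F) (XO F) (NT F) L where
  OD := o2_le _
  DO := le_normalizer_o2 _
  OZ := o2_le _
  DY := DT_le_XO
  LY := h.LX
  YDL := h.gen
  eab := h.eab
  NQ := h.NQ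
  YN := fun _ => le_normalizer_V' _ _
  YQ := fun i => by
    rw [h.Q_eq i]
    exact le_normalizer_o2 _
  no := h.no ml
  nl := h.nl
  Eeab := fun _ _ hij => h.Eeab hij
  EO := fun _ _ hij => h.EO hij
  NE := h.NE

theorem O_le_T : o2 (DT F) ≤ T := by
  obtain ⟨l⟩ : Nonempty ι := inferInstance
  refine o2_le_of_sylow h.two fun h1 => h.sylX l ?_
  rw [← relIndex_mul_relIndex T (DT F) (XO F l) h.T_le_DT (DT_le_XO l)]
  exact h1.mul_right _

/-- `L i` normalises `C_{X j}(V i)` -/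
theorem L_norm {i j : ι} (hij : i ≠ j) :
    L i ≤ normalizer ((XO F j ⊓ centralizer (V i : Set G) : Subgroup G) : Set G) := by
  have key : ∀ g ∈ L i, cj g (XO F j ⊓ centralizer (V i : Set G)) ≤ XO F j ⊓ centralizer (V i : Set G) := by
    intro g hg
    have h1 : cj g (XO F j ⊓ centralizer (V i : Set G)) ≤ centralizer (V i : Set G) := by
      rw [cj_inf, cj_centralizer g (V i), cj_eq_of_mem_normalizer (h.LV i hg)]
      exact inf_le_right
    refine le_inf (le_XO fun n hn => ?_) h1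
    by_cases hni : n = i
    · subst hni
      exact h1.trans (centralizer_le ((h.FR n).trans (h.RV n)))
    · have h2 : g ∈ normalizer (F n : Set G) :=
        centralizer_le_normalizer _ ((XO_cent hni) (h.LX i hg))
      have h3 : cj g (XO F j) ≤ cj g (centralizer (F n : Set G)) := cj_mono g (XO_cent hn)
      rw [cj_centralizer, cj_eq_of_mem_normalizer h2] at h3
      exact (cj_mono g inf_le_left).trans h3
  intro g hg
  rw [mem_normalizer_iff_cj]
  refine le_antisymm (key g hg) ?_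
  have h1 := cj_mono g (key g⁻¹ (inv_mem hg))
  rwa [cj_cj_inv] at h1

theorem T_norm {i j : ι} (hij : i ≠ j) : T ≤ normalizer (V i : Set G) :=
  (le_inf (h.T_le_XO j) le_normalizer).trans (h.ntV i j hij)

/-- **the input of KL* with bad parabolics** -/
theorem exists_ginD [Finite ι] (ml : ML.Final.MLK.{u, u}) : ∃ i j, i ≠ j ∧ ∃ A : Subgroup G,
    GInD (XO F j) T A (XO F j ⊓ normalizer (R j : Set G)) (EE (ZT F) (XO F i ⊔ XO F j)) (F j) (V i) := by
  have hf := h.fr ml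
  obtain ⟨i, j, F₁, A, x, o⟩ := hf.star h.ne
  have hij := o.ne
  refine ⟨i, j, hij, A, ?_⟩
  have hNM : NT F j ≤ EE (ZT F) (XO F i ⊔ XO F j) := (h.NE j).trans (EE_mono le_sup_right)
  have hAT : A ≤ T := o.leO.trans h.O_le_T
  have hTD : T ≤ normalizer ((XO F j ⊓ centralizer (V i : Set G) : Subgroup G) : Set G) := by
    intro t ht
    rw [mem_normalizer_iff_cj, cj_inf, cj_centralizer, cj_eq_of_mem_normalizer (h.T_norm hij ht),
      cj_eq_of_mem_normalizer (le_normalizer (h.T_le_XO j ht))]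
  -- `A` centralises `R j`
  have hAR : A ≤ centralizer (R j : Set G) := by
    have h1 : F₁ ≤ centralizer (R j : Set G) :=
      (o.le₁.trans inf_le_right).trans (centralizer_le ((h.RV j).trans (h.VN j)))
    have h2 := cj_mono x h1
    rw [cj_centralizer, cj_eq_of_mem_normalizer (h.LR i j hij o.xL), ← o.eq] at h2
    exact h2
  have hAD : A ≤ o2 (XO F j ⊓ normalizer (R j : Set G)) := by
    set C₁ := XO F j ⊓ centralizer (R j : Set G) with hC₁
    have h1 : C₁ ≤ DT F := (inf_le_inf_left _ (centralizer_le (h.FR j))).trans (XO_inf j)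
    have h2 : o2 (DT F) ⊓ C₁ ≤ o2 C₁ := by
      refine le_o2 inf_le_right ((o2_isPGroup _).to_le inf_le_left) ?_
      intro c hc
      rw [mem_normalizer_iff_cj, cj_inf, cj_eq_of_mem_normalizer (le_normalizer_o2 _ (h1 hc)),
        cj_eq_of_mem_normalizer (le_normalizer hc)]
    have h3 : o2 C₁ ≤ o2 (XO F j ⊓ normalizer (R j : Set G)) := by
      refine le_o2 ((o2_le _).trans (inf_le_inf_left _ (centralizer_le_normalizer _))) (o2_isPGroup _) ?_
      refine le_trans ?_ (ZN.normalizer_le_normalizer_o2 C₁)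
      rintro d ⟨hd1, hd2⟩
      rw [mem_normalizer_iff_cj, hC₁, cj_inf, cj_centralizer, cj_eq_of_mem_normalizer (le_normalizer hd1),
        cj_eq_of_mem_normalizer hd2]
    exact (le_inf o.leO (le_inf (hAT.trans (h.T_le_XO j)) hAR)).trans (h2.trans h3)
  have hAY : A ≤ o2 ((XO F j ⊓ centralizer (V i : Set G)) ⊔ T) := by
    have h1 : A ≤ o2 (XO F j ⊓ centralizer (V i : Set G)) :=
      o.low hf (V := V i) (Zp := F j) (o2_isPGroup _) (h.VN i) (h.L_norm hij)
        (((h.LX i).trans (XO_cent hij.symm)).trans (centralizer_le_normalizer _)) (F_le_NT j) (XO_inf j)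
    refine h1.trans (le_o2 ((o2_le _).trans le_sup_left) (o2_isPGroup _) (sup_le (le_normalizer_o2 _) ?_))
    exact hTD.trans (ZN.normalizer_le_normalizer_o2 _)
  exact
    { CM := o.YE hf
      sqM := fun m hm => (eab_iff.1 (h.Eeab hij)).2 m hm
      TC := h.T_le_XO j
      two := h.two
      syl := h.sylX j
      ZM := (F_le_NT j).trans hNM
      YM := (h.VN i).trans ((h.NE i).trans (EE_mono le_sup_left))
      TZ := h.TF j
      NY := h.ntV i j hij
      cY := (h.capV i).trans (Subgroup.le_centralizer_iff.1 (XO_cent hij))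
      ND := le_inf inf_le_left (h.ntR j)
      AD := hAD
      good := fun P hP hPX hPD => by
        have h1 : ¬ P ≤ normalizer (R j : Set G) := fun hc => hPD (le_inf hPX hc)
        refine ⟨fun g hg ho => h.good i j hij P hP hPX h1 g hg ho, fun hc => h1 ?_⟩
        exact ((le_inf hPX hc).trans (XO_inf j)).trans (h.DR j)
      bad := fun P hP hPX hPD => h.bad i j hij P hP hPX (hPD.trans inf_le_right)
      AT := hAT
      sqA := fun a ha => (eab_iff.1 o.eab).2 a ha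
      AY := hAY
      nk := o.le_cent hf
      mv := o.off.mov
      no := fun B hB => o.no_sub hf hNM le_rfl hB
      le := o.off.le
      K := h.KX j }

/-- **THEOREM.** There is no `T`-frame. -/
theorem false_of [Finite ι] (ml : ML.Final.MLK.{u, u}) (ext : ML.Ex.Two.Ext.{u, u}) : False := by
  obtain ⟨i, j, -, A, hg⟩ := h.exists_ginD ml
  exact hg.false_of ml ext

end TFr

end Cfsg.Agent.Omega.EDel.TStar
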