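import Cfsg.Agent.Omega.EDel.ThmU

/-!
# THEOREM U (1), (2) in group form (helper848 #24915 (B): `T`-frames, fields and different `q_i` allowed)

`F i` : the `T`-fixed part of the `i`-th line; `T` a 2-group which is Sylow in the kernel of `N_G(T)` on the indices.

* `XF F l m` : `C_G(F n : n ≠ l, m)`;
* `Fr.no_perm` : an element of `N_G(T) ∩ XF F l m` fixes all indices (in the situation of `Fr.exists_A`);
* `Fr.sylT` : `T` is a Sylow 2-subgroup of `XF F l m`;
* `Fr.mainT` : (1) and (2) together.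
-/

set_option autoImplicit false
set_option linter.unusedSectionVars false

namespace Cfsg.Agent.Omega.EDel.ThmU

open Subgroup Cfsg Cfsg.Agent.ZN Cfsg.Agent.ZN.ChoiceBase
open Cfsg.Agent.Omega.NO3S.EThree
open Cfsg.Agent.Omega.NoFF.Basic (comm_symm comm_mono)
open Cfsg.Agent.Omega.ESym.CoreS

universe u

variable {G : Type u} [Group G]

/-- `C_G(F n : n ≠ l, m)` -/
def XF {ι : Type*} (F : ι → Subgroup G) (l m : ι) : Subgroup G :=
  centralizer {x | ∃ n, n ≠ l ∧ n ≠ m ∧ x ∈ F n}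

theorem XF_comm {ι : Type*} (F : ι → Subgroup G) (l m : ι) : XF F l m = XF F m l := by
  unfold XF
  congr 1
  ext x
  constructor
  · rintro ⟨n, h1, h2, h3⟩
    exact ⟨n, h2, h1, h3⟩
  · rintro ⟨n, h1, h2, h3⟩
    exact ⟨n, h2, h1, h3⟩

theorem XF_le {ι : Type*} (F : ι → Subgroup G) {l m n : ι} (hl : n ≠ l) (hm : n ≠ m) :
    XF F l m ≤ centralizer (F n : Set G) :=
  centralizer_le fun _ hx => ⟨n, hl, hm, hx⟩

/-- a 2-group which contains the 2-elements of its normaliser in `X` is Sylow in `X` -/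
theorem sylow_of_two [Finite G] {T X : Subgroup G} (hT : IsPGroup 2 T) (hTX : T ≤ X)
    (h : ∀ g ∈ X ⊓ normalizer (T : Set G), (∃ k : ℕ, g ^ 2 ^ k = 1) → g ∈ T) : ¬ 2 ∣ T.relIndex X := by
  have : Fact (Nat.Prime 2) := ⟨Nat.prime_two⟩
  set D := X ⊓ normalizer (T : Set G) with hD
  have hTD : T ≤ D := le_inf hTX le_normalizer
  refine sylow_of_norm (D := D) hT hTD inf_le_left ?_ le_rfl
  intro h2
  -- `D / T` has even order: there is a 2-element of `D` outside `T`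
  have hn : (T.subgroupOf D).Normal := normal_subgroupOf_of_le_normalizer inf_le_right
  have hU : IsPGroup 2 (T.subgroupOf D) := hT.comap_of_injective _ D.subtype_injective
  obtain ⟨P, hP⟩ := hU.exists_le_sylow
  have h3 : (P : Subgroup D) ≤ T.subgroupOf D := by
    intro g hg
    rw [mem_subgroupOf]
    refine h g g.2 ?_
    obtain ⟨k, hk⟩ := P.isPGroup' ⟨g, hg⟩
    refine ⟨k, ?_⟩
    have := congrArg (fun x : P => ((x : D) : G)) hk
    simpa using this
  have h4 : (P : Subgroup D) = T.subgroupOf D := le_antisymm h3 hP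
  have h5 := P.not_dvd_index
  rw [h4] at h5
  exact h5 h2

section core

variable [Finite G] {ι : Type*} {O D ZJ : Subgroup G} {Y N : ι → Subgroup G} (h : Fr O D ZJ Y N)
include h

/-- an element of `N_G(T) ∩ C_G(F n : n ≠ l, m)` fixes all indices -/
theorem Fr.no_perm [Finite ι] (hO : O ≠ ⊥)
    (nl : ∀ R : Subgroup G, R ≠ ⊥ → IsPGroup 2 R → ¬ ∀ j, Y j ≤ normalizer (R : Set G))
    {A : Subgroup G} (hA : A ∈ AA O) (hc : ∀ i, A ≤ centralizer (N i : Set G)) {l m : ι} (hlm : l ≠ m)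
    (hAm : ¬ A ≤ centralizer (EI ZJ Y {l, m} : Set G)) {T : Subgroup G} {F : ι → Subgroup G}
    (hF : Function.Injective F)
    (NT : ∀ g ∈ normalizer (T : Set G), ∃ σ : Equiv.Perm ι, Sy O Y N g σ ∧ ∀ i, cj g (F i) = F (σ i))
    {g : G} (hgX : g ∈ XF F l m) (hgT : g ∈ normalizer (T : Set G)) (i : ι) : cj g (F i) = F i := by
  obtain ⟨σ, hσ, hσF⟩ := NT g hgT
  have hfix : ∀ n, n ≠ l → n ≠ m → σ n = n := by
    intro n hn1 hn2
    apply hF
    rw [← hσF n]
    exact cj_eq_of_mem_normalizer (centralizer_le_normalizer _ (XF_le F hn1 hn2 hgX))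
  have hl : σ l = l := by
    by_contra hne
    have hm : σ l = m := by
      by_contra hne'
      have h4 := hfix _ hne hne'
      exact hne (σ.injective h4)
    exact h.no_swap hO nl hA hc hlm hAm hσ hm hfix
  have hmm : σ m = m := by
    by_contra hne
    have hne' : σ m ≠ l := fun e => hlm (σ.injective (hl.trans e.symm))
    exact hne (σ.injective (hfix _ hne' hne))
  have hi : σ i = i := by
    by_cases h1 : i = l
    · rw [h1]; exact hl
    by_cases h2 : i = m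
    · rw [h2]; exact hmm
    · exact hfix i h1 h2
  rw [hσF i, hi]

/-- **THEOREM U (2), group form**: `T` is Sylow in `C_G(F n : n ≠ l, m)`. -/
theorem Fr.sylT [Finite ι] (hO : O ≠ ⊥)
    (nl : ∀ R : Subgroup G, R ≠ ⊥ → IsPGroup 2 R → ¬ ∀ j, Y j ≤ normalizer (R : Set G))
    {A : Subgroup G} (hA : A ∈ AA O) (hc : ∀ i, A ≤ centralizer (N i : Set G)) {l m : ι} (hlm : l ≠ m)
    (hAm : ¬ A ≤ centralizer (EI ZJ Y {l, m} : Set G)) {T : Subgroup G} (hT : IsPGroup 2 T)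
    {F : ι → Subgroup G} (hF : Function.Injective F)
    (NT : ∀ g ∈ normalizer (T : Set G), ∃ σ : Equiv.Perm ι, Sy O Y N g σ ∧ ∀ i, cj g (F i) = F (σ i))
    (ker : ∀ g ∈ normalizer (T : Set G), (∃ k : ℕ, g ^ 2 ^ k = 1) → (∀ i, cj g (F i) = F i) → g ∈ T)
    (hTX : T ≤ XF F l m) : ¬ 2 ∣ T.relIndex (XF F l m) :=
  sylow_of_two hT hTX fun g hg h2 => ker g hg.2 h2 (h.no_perm hO nl hA hc hlm hAm hF NT hg.1 hg.2)

/-- **THEOREM U (1), (2) together, group form.** -/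
theorem Fr.mainT [Finite ι] (hO : O ≠ ⊥)
    (nl : ∀ R : Subgroup G, R ≠ ⊥ → IsPGroup 2 R → ¬ ∀ j, Y j ≤ normalizer (R : Set G))
    {T : Subgroup G} (hT : IsPGroup 2 T) {F : ι → Subgroup G} (hF : Function.Injective F)
    (hTF : ∀ i, T ≤ centralizer (F i : Set G))
    (NT : ∀ g ∈ normalizer (T : Set G), ∃ σ : Equiv.Perm ι, Sy O Y N g σ ∧ ∀ i, cj g (F i) = F (σ i))
    (ker : ∀ g ∈ normalizer (T : Set G), (∃ k : ℕ, g ^ 2 ^ k = 1) → (∀ i, cj g (F i) = F i) → g ∈ T) :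
    ∃ A ∈ AA O, (∀ i, A ≤ centralizer (N i : Set G)) ∧ ∃ l m, l ≠ m ∧
      ¬ A ≤ centralizer (EI ZJ Y {l, m} : Set G) ∧ ¬ 2 ∣ T.relIndex (XF F l m) ∧
      ∀ g ∈ XF F l m ⊓ normalizer (T : Set G), ∀ i, cj g (F i) = F i := by
  obtain ⟨A, hA, hc, l, m, hlm, hAm⟩ := h.exists_A hO nl
  refine ⟨A, hA, hc, l, m, hlm, hAm, h.sylT hO nl hA hc hlm hAm hT hF NT ker ?_, fun g hg i =>
    h.no_perm hO nl hA hc hlm hAm hF NT hg.1 hg.2 i⟩
  intro t ht
  rw [XF, mem_centralizer_iff]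
  rintro x ⟨n, -, -, hx⟩
  exact (mem_centralizer_iff.1 (hTF n ht)) x hx

end core

end Cfsg.Agent.Omega.EDel.ThmU
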