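import Cfsg.Agent.Omega.KL.ZR.End
import Cfsg.Agent.Omega.KL.Plug
import Cfsg.Agent.Omega.NOThreeL.JQ

/-!
# THEOREM U (#24127, helper23), (3): SIGMA inside a local group in which `B` is Sylow

`B` a Sylow 2-subgroup of `Y`, `Y` of characteristic 2, `Z = Ω₁(Z(B))`, `A` elementary abelian of maximal order in
`O ≥ U = ⟨Z^Y⟩`, moving `U`.

* `Sig c B Y O A` : this, every `B`-minimal `P ≤ Y` has `|Z : C_Z(P)| ≤ c` and centralises a `z ∈ Z` with
  `A ≤ O₂(C_Y(z))`;
* `Sig.zpre` : the input `ZR.ZPre c` of the END (helper636) for `Y` acting on `U`;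
* **`Sig.false_of`** : `Sig 2` is impossible (EXT);
* `Two z₁ z₂ B Y O A` : `Z = C_Z(Y)⟨z₁, z₂⟩`, every `B`-minimal `P ≤ Y` centralises `z₁` or `z₂`, `A ≤ O₂(C_Y(z₁)) ∩
  O₂(C_Y(z₂))`; `Two.sig : Sig 2`, **`Two.false_of`**.
-/

set_option autoImplicit false
set_option linter.unusedSectionVars false

namespace Cfsg.Agent.Omega.EDel.USig

open Subgroup Cfsg
open Cfsg.Agent.ZN (o2 zc zl)
open Cfsg.Agent.ClassTwoFusion.Quad Cfsg.Agent.Omega.ML.MinFrame
open Cfsg.Agent.MinSimple.MinParabolic (IsMinPar)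
open Cfsg.Agent.MinSimple.VModule (mem_zc zc_le zl_le zc_le_zl le_normalizer_zl le_o2 o2_isPGroup o2_le
  le_normalizer_o2 zl_le_zc zc_sq le_centralizer_zc normalizer_le_normalizer_zc)
open Cfsg.Agent.Omega.NoFF.ThmJQ (MxIn)
open Cfsg.Agent.Omega.NoFF.ThmJFam (Ex card_sup_inf)
open Cfsg.Agent.Omega.NoFF.Basic (comm_symm comm_mono)
open Cfsg.Agent.Omega.KL.ZR (ZPre)
open Cfsg.Agent.Omega.ML.Final (MLK)
open Cfsg.Agent.Omega.ML.Ex.Two (Ext)

universe u

variable {G : Type u} [Group G]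

/-- **The setting.** -/
structure Sig (c : ℕ) (B Y O A : Subgroup G) : Prop where
  p2 : IsPGroup 2 B
  BY : B ≤ Y
  syl : ¬ 2 ∣ B.relIndex Y
  char2 : Y ⊓ centralizer (o2 Y : Set G) ≤ o2 Y
  KY : IsKGroup Y
  OY : O ≤ Y
  UO : zl B Y ≤ O
  mx : MxIn O A
  mv : ¬ A ≤ centralizer (zl B Y : Set G)
  par : ∀ P : Subgroup G, IsMinPar B P → P ≤ Y → (zc B ⊓ centralizer (P : Set G)).relIndex (zc B) ≤ c
  fix : ∀ P : Subgroup G, IsMinPar B P → P ≤ Y →
    ∃ z ∈ zc B, P ≤ centralizer ({z} : Set G) ∧ A ≤ o2 (Y ⊓ centralizer ({z} : Set G))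
  good : ∃ z ∈ zc B, A ≤ o2 (Y ⊓ centralizer ({z} : Set G))

/-- conjugation -/
abbrev actU {C X : Subgroup G} (h : C ≤ normalizer (X : Set G)) : MulDistribMulAction C X where
  smul c x := ⟨c * x * (c : G)⁻¹, (mem_normalizer_iff.1 (h c.2) x).1 x.2⟩
  one_smul x := Subtype.ext (by change ((1 : C) : G) * x * ((1 : C) : G)⁻¹ = x; simp)
  mul_smul a b x := Subtype.ext (by
    change ((a * b : C) : G) * x * ((a * b : C) : G)⁻¹ = a * (b * x * (b : G)⁻¹) * (a : G)⁻¹
    push_cast; group)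
  smul_mul c x y := Subtype.ext (by
    change (c : G) * ((x * y : X) : G) * (c : G)⁻¹ = (c * x * (c : G)⁻¹) * (c * y * (c : G)⁻¹)
    push_cast; group)
  smul_one c := Subtype.ext (by change (c : G) * ((1 : X) : G) * (c : G)⁻¹ = ((1 : X) : G); simp)

namespace Sig

section

variable [Finite G] {c : ℕ} {B Y O A : Subgroup G} (h : Sig c B Y O A)
include h

theorem zl_le_zc : zl B Y ≤ zc (o2 Y) := MinSimple.VModule.zl_le_zc h.BY h.p2 h.syl h.char2

theorem ex_zl : Ex (zl B Y) := fun _ hx => (mem_zc.1 (h.zl_le_zc hx)).2.2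

theorem AY : A ≤ Y := h.mx.2.1.trans h.OY

/-- Thompson -/
theorem card_le : Nat.card (zl B Y) * Nat.card (A ⊓ centralizer (zl B Y : Set G) : Subgroup G) ≤
    Nat.card A * Nat.card (zl B Y ⊓ centralizer (A : Set G) : Subgroup G) := by
  have h1 := h.mx.2.2 _ (Ex.sup h.ex_zl (h.mx.1.mono inf_le_left)
    (comm_symm (inf_le_right : A ⊓ centralizer (zl B Y : Set G) ≤ _)))
    (sup_le h.UO (inf_le_left.trans h.mx.2.1))
  have h2 := card_sup_inf (A := zl B Y) (B := A ⊓ centralizer (zl B Y : Set G)) (comm_symm inf_le_right)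
  have h3 : Nat.card (zl B Y ⊓ (A ⊓ centralizer (zl B Y : Set G)) : Subgroup G) ≤
      Nat.card (zl B Y ⊓ centralizer (A : Set G) : Subgroup G) :=
    Subgroup.card_le_of_le (inf_le_inf le_rfl (inf_le_left.trans h.mx.1.comm))
  rw [← h2]
  exact Nat.mul_le_mul h1 h3

theorem relIndex_le : (centralizer (A : Set G)).relIndex (zl B Y) ≤ (centralizer (zl B Y : Set G)).relIndex A :=
  FFThm.relIndex_le_iff.1 h.card_le

/-- **The input of the END.** -/
theorem zpre : letI := actU (le_normalizer_zl B Y)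
    ZPre c (B.subgroupOf Y) (A.subgroupOf Y) ((zc B).subgroupOf (zl B Y)) := by
  let := actU (le_normalizer_zl B Y)
  change ZPre c (B.subgroupOf Y) (A.subgroupOf Y) ((zc B).subgroupOf (zl B Y))
  have hZU : zc B ≤ (zl B Y) := zc_le_zl _ _
  have hsm : ∀ (g : Y) (m : (zl B Y)), ((g • m : (zl B Y)) : G) = g * m * (g : G)⁻¹ := fun _ _ => rfl
  have hfix : ∀ (g : Y) (m : (zl B Y)), g • m = m ↔ (m : G) * g = g * m := by
    intro g m
    rw [Subtype.ext_iff, hsm, mul_inv_eq_iff_eq_mul, eq_comm]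
  have hst : ∀ (m : (zl B Y)) (g : Y), g ∈ MulAction.stabilizer Y m ↔ (g : G) ∈ Y ⊓ centralizer ({(m : G)} : Set G) := by
    intro m g
    rw [MulAction.mem_stabilizer_iff, hfix, mem_inf, mem_centralizer_singleton_iff]
    exact ⟨fun e => ⟨g.2, e.symm⟩, fun e => e.2.symm⟩
  have hcv : ∀ P : Subgroup Y, (zc B).subgroupOf (zl B Y) ⊓ cv (zl B Y) (P : Set Y) =
      (zc B ⊓ centralizer ((P.map Y.subtype : Subgroup G) : Set G)).subgroupOf (zl B Y) := by
    intro P
    ext m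
    rw [mem_inf, mem_subgroupOf, mem_subgroupOf, mem_inf, mem_centralizer_iff]
    refine and_congr_right fun _ => ⟨?_, ?_⟩
    · rintro hm _ ⟨p, hp, rfl⟩
      exact ((hfix p m).1 (hm p hp)).symm
    · intro hm p hp
      exact (hfix p m).2 (hm p (mem_map_of_mem Y.subtype hp)).symm
  refine ⟨⟨?_, ?_, ?_, ?_, ?_, ?_⟩, ?_, ?_, ?_, ?_, ?_, ?_, h.KY⟩
  · intro m
    apply Subtype.ext
    have := h.ex_zl m m.2
    rw [pow_two] at this
    exact this
  · exact h.p2.comap_of_injective Y.subtype Y.subtype_injective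
  · exact h.syl
  · intro t ht z hz
    rw [hfix]
    exact ((mem_zc.1 (mem_subgroupOf.1 hz)).2.1 t (mem_subgroupOf.1 ht)).symm
  · intro g hg z hz
    refine mem_subgroupOf.2 ?_
    rw [hsm]
    have hgB : (g : G) ∈ normalizer (B : Set G) := by
      rw [mem_normalizer_iff]
      intro t
      constructor
      · intro ht
        exact (mem_normalizer_iff.1 hg ⟨t, h.BY ht⟩).1 ht
      · intro ht
        have h1 : (g : G)⁻¹ * ((g : G) * t * (g : G)⁻¹) * (g : G)⁻¹⁻¹ ∈ B :=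
          (mem_normalizer_iff.1 (inv_mem hg) ⟨(g : G) * t * (g : G)⁻¹, h.BY ht⟩).1 ht
        have e : (g : G)⁻¹ * ((g : G) * t * (g : G)⁻¹) * (g : G)⁻¹⁻¹ = t := by group
        rwa [e] at h1
    exact (mem_normalizer_iff.1 (normalizer_le_normalizer_zc B hgB) _).1 (mem_subgroupOf.1 hz)
  · intro P hP
    rw [hcv, relIndex_subgroupOf hZU]
    exact h.par _ (KL.Plug.minPar_map h.BY hP) (map_subtype_le P)
  · rw [eq_top_iff]
    intro m _
    set V : Subgroup (zl B Y) := ⨆ z : (zc B).subgroupOf (zl B Y), orb (⊤ : Subgroup Y) (z : (zl B Y)) with hV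
    have h1 : (zl B Y) ≤ V.map (zl B Y).subtype := by
      refine zl_le ?_ ?_
      · intro z hz
        refine ⟨⟨z, hZU hz⟩, ?_, rfl⟩
        exact le_iSup (fun z : (zc B).subgroupOf (zl B Y) => orb (⊤ : Subgroup Y) (z : (zl B Y)))
          ⟨⟨z, hZU hz⟩, mem_subgroupOf.2 hz⟩ (mem_orb_self _ _)
      · have hVg : ∀ g : Y, ∀ v ∈ V, g • v ∈ V := by
          intro g v hv
          have h2 : V ≤ V.comap (MulDistribMulAction.toMonoidHom (zl B Y) g) := by
            refine iSup_le fun z => ?_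
            intro w hw
            exact le_iSup (fun z : (zc B).subgroupOf (zl B Y) => orb (⊤ : Subgroup Y) (z : (zl B Y))) z
              (smul_mem_orb (mem_top g) hw)
          exact h2 hv
        intro g hg
        rw [mem_normalizer_iff]
        intro x
        constructor
        · rintro ⟨v, hv, rfl⟩
          exact ⟨(⟨g, hg⟩ : Y) • v, hVg _ v hv, rfl⟩
        · rintro ⟨v, hv, hvx⟩
          refine ⟨(⟨g, hg⟩ : Y)⁻¹ • v, hVg _ v hv, ?_⟩
          change g⁻¹ * (v : G) * g⁻¹⁻¹ = x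
          have e : (v : G) = g * x * g⁻¹ := hvx
          rw [e]; group
    obtain ⟨v, hv, hvm⟩ := h1 m.2
    rw [← (Subtype.ext hvm : v = m)]
    exact hv
  · intro P hP
    obtain ⟨z, hz, hPz, hAz⟩ := h.fix _ (KL.Plug.minPar_map h.BY hP) (map_subtype_le P)
    refine ⟨⟨z, hZU hz⟩, mem_subgroupOf.2 hz, fun p hp => ?_, KL.Plug.sub_o2 (hst _) hAz⟩
    rw [hfix]
    exact (mem_centralizer_singleton_iff.1 (hPz (mem_map_of_mem Y.subtype hp))).symm
  · obtain ⟨z, hz, hAz⟩ := h.good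
    exact ⟨⟨z, hZU hz⟩, mem_subgroupOf.2 hz, KL.Plug.sub_o2 (hst _) hAz⟩
  · intro a ha
    apply Subtype.ext
    have := h.mx.1 a (mem_subgroupOf.1 ha)
    rw [pow_two] at this
    exact this
  · by_contra hcon
    push Not at hcon
    apply h.mv
    intro a ha
    rw [mem_centralizer_iff]
    intro m hm
    exact (hfix ⟨a, h.AY ha⟩ ⟨m, hm⟩).1 (hcon _ (mem_subgroupOf.2 ha) _)
  · have e1 : cv (zl B Y) (A.subgroupOf Y : Set Y) = (centralizer (A : Set G)).subgroupOf (zl B Y) := by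
      ext m
      rw [mem_subgroupOf, mem_centralizer_iff]
      constructor
      · intro hm a ha
        exact ((hfix ⟨a, h.AY ha⟩ m).1 (hm _ (mem_subgroupOf.2 ha))).symm
      · intro hm a ha
        exact (hfix a m).2 (hm a (mem_subgroupOf.1 ha)).symm
    have e2 : fxr Y (⊤ : Subgroup (zl B Y)) = (centralizer (zl B Y : Set G)).subgroupOf Y := by
      ext g
      rw [mem_subgroupOf, mem_centralizer_iff]
      constructor
      · intro hg m hm
        exact (hfix g ⟨m, hm⟩).1 (hg _ (mem_top _))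
      · intro hg m _
        exact (hfix g m).2 (hg m m.2)
    rw [e1, e2, relIndex_subgroupOf h.AY]
    exact h.relIndex_le

end

/-- **(3) of THEOREM U.** -/
theorem false_of [Finite G] {B Y O A : Subgroup G} (ml : MLK.{u, u}) (hE : Ext.{u, u}) (h : Sig 2 B Y O A) : False := by
  let := actU (le_normalizer_zl B Y)
  exact ZPre.false_of ml hE h.zpre

end Sig

/-- **The form with two centres.** -/
structure Two (z₁ z₂ : G) (B Y O A : Subgroup G) : Prop where
  p2 : IsPGroup 2 B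
  BY : B ≤ Y
  syl : ¬ 2 ∣ B.relIndex Y
  char2 : Y ⊓ centralizer (o2 Y : Set G) ≤ o2 Y
  KY : IsKGroup Y
  OY : O ≤ Y
  UO : zl B Y ≤ O
  mx : MxIn O A
  mv : ¬ A ≤ centralizer (zl B Y : Set G)
  mem₁ : z₁ ∈ zc B
  mem₂ : z₂ ∈ zc B
  gen : zc B ≤ zc B ⊓ centralizer (Y : Set G) ⊔ closure {z₁, z₂}
  o₁ : A ≤ o2 (Y ⊓ centralizer ({z₁} : Set G))
  o₂ : A ≤ o2 (Y ⊓ centralizer ({z₂} : Set G))
  par : ∀ P : Subgroup G, IsMinPar B P → P ≤ Y → P ≤ centralizer ({z₁} : Set G) ∨ P ≤ centralizer ({z₂} : Set G)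

namespace Two

variable [Finite G] {z₁ z₂ : G} {B Y O A : Subgroup G}

theorem swap (h : Two z₁ z₂ B Y O A) : Two z₂ z₁ B Y O A :=
  { h with
    mem₁ := h.mem₂
    mem₂ := h.mem₁
    gen := by rw [Set.pair_comm]; exact h.gen
    o₁ := h.o₂
    o₂ := h.o₁
    par := fun P hP hPY => (h.par P hP hPY).symm }

theorem index_le (h : Two z₁ z₂ B Y O A) {P : Subgroup G} (hPY : P ≤ Y)
    (hP : P ≤ centralizer ({z₁} : Set G)) : (zc B ⊓ centralizer (P : Set G)).relIndex (zc B) ≤ 2 := by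
  set W := zc B ⊓ centralizer (P : Set G) with hW
  -- `Z ≤ W ∪ W z₂`
  have h0 : ∀ x ∈ zc B, x ∈ W ∨ x * z₂ ∈ W := by
    have hc : zc B ⊓ centralizer (Y : Set G) ≤ W := inf_le_inf_left _ (centralizer_le hPY)
    have hz1 : z₁ ∈ W := ⟨h.mem₁, mem_centralizer_iff.2 fun p hp => (mem_centralizer_singleton_iff.1 (hP hp))⟩
    have hz2 : z₂ * z₂ = 1 := by rw [← pow_two]; exact zc_sq B _ h.mem₂
    have hcm : ∀ x ∈ zc B, ∀ y ∈ zc B, x * y = y * x := MinSimple.VModule.zc_comm B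
    -- the set is a subgroup
    let T : Subgroup G :=
      { carrier := {x | x ∈ zc B ∧ (x ∈ W ∨ x * z₂ ∈ W)}
        one_mem' := ⟨one_mem _, Or.inl (one_mem _)⟩
        mul_mem' := by
          rintro x y ⟨hx, hx'⟩ ⟨hy, hy'⟩
          refine ⟨mul_mem hx hy, ?_⟩
          rcases hx' with hx' | hx' <;> rcases hy' with hy' | hy'
          · exact Or.inl (mul_mem hx' hy')
          · right; rw [mul_assoc]; exact mul_mem hx' hy'
          · right
            have e : x * y * z₂ = (x * z₂) * y := by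
              rw [mul_assoc, mul_assoc, hcm y hy z₂ h.mem₂]
            rw [e]; exact mul_mem hx' hy'
          · left
            have e : x * y = (x * z₂) * (y * z₂) := by
              calc x * y = x * (z₂ * z₂) * y := by rw [hz2, mul_one]
                _ = (x * z₂) * (z₂ * y) := by group
                _ = (x * z₂) * (y * z₂) := by rw [hcm z₂ h.mem₂ y hy]
            rw [e]; exact mul_mem hx' hy'
        inv_mem' := by
          rintro x ⟨hx, hx'⟩
          have e : x⁻¹ = x := inv_eq_of_mul_eq_one_left (by rw [← pow_two]; exact zc_sq B _ hx)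
          rw [e]
          exact ⟨hx, hx'⟩ }
    have hT : zc B ≤ T := by
      refine h.gen.trans (sup_le (fun x hx => ⟨hx.1, Or.inl (hc hx)⟩) ?_)
      rw [closure_le]
      rintro x (rfl | rfl)
      · exact ⟨h.mem₁, Or.inl hz1⟩
      · exact ⟨h.mem₂, Or.inr (by rw [hz2]; exact one_mem _)⟩
    exact fun x hx => (hT hx).2
  by_contra hcon
  push Not at hcon
  by_cases h1 : z₂ ∈ W
  · have h2 : zc B ≤ W := fun x hx => by
      rcases h0 x hx with h3 | h3
      · exact h3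
      · exact (mul_mem_cancel_right h1).1 h3
    rw [relIndex_eq_one.2 h2] at hcon
    omega
  · have h2 : (W.subgroupOf (zc B)).index = 2 := by
      rw [index_eq_two_iff]
      refine ⟨⟨z₂, h.mem₂⟩, fun b => ?_⟩
      rw [mem_subgroupOf, mem_subgroupOf]
      change Xor (((b : G) * z₂) ∈ W) ((b : G) ∈ W)
      rcases h0 b b.2 with h3 | h3
      · exact Or.inr ⟨h3, fun h4 => h1 ((mul_mem_cancel_left h3).1 h4)⟩
      · refine Or.inl ⟨h3, fun h4 => h1 ((mul_mem_cancel_left h4).1 h3)⟩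
    rw [relIndex, h2] at hcon
    omega

theorem sig (h : Two z₁ z₂ B Y O A) : Sig 2 B Y O A :=
  { h with
    par := fun P hP hPY => by
      rcases h.par P hP hPY with h1 | h1
      · exact h.index_le hPY h1
      · exact h.swap.index_le hPY h1
    fix := fun P hP hPY => by
      rcases h.par P hP hPY with h1 | h1
      · exact ⟨z₁, h.mem₁, h1, h.o₁⟩
      · exact ⟨z₂, h.mem₂, h1, h.o₂⟩
    good := ⟨z₁, h.mem₁, h.o₁⟩ }

/-- **(3) of THEOREM U, two centres.** -/
theorem false_of (ml : MLK.{u, u}) (hE : Ext.{u, u}) (h : Two z₁ z₂ B Y O A) : False := h.sig.false_of ml hE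

end Two

end Cfsg.Agent.Omega.EDel.USig
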