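import Cfsg.Agent.Omega.EK3.Base
import Cfsg.Agent.Omega.EK3.StarE
import Cfsg.Agent.Omega.OM.Lev.Main
import Cfsg.Agent.Involutions.BaerSuzuki
import Cfsg.Agent.Omega.NO3S.ESym.Frame

/-!
# THEOREM DELTA, step (0): `O₂(C_G(z_l : l ∈ T)) ≤ B`, the groups `E` are elementary abelian, inside `O₂(C_G(ZJ))`

`FrL B Q V X ZJ L W Z C A 2` (any finite index type), `Z i = {1, z i}`, `B` Sylow in `C_G(ZJ)`, `N_G(B)` permutes the
`Z i` and the `W i ZJ`; no coordinates (helper164 #24052).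

* `Zf` : this setting; `Zf.of_lb` : from `LB S K B ZJ` and `UniI B ZJ L W`;
* `Zf.fix` : `t ∈ O₂(C_T) ∩ N_G(B)` centralises `ZJ`; `Zf.o2_le_B`, `o2_le_D`, `o2_le_o2` (`D ≤ Y ≤ C_T`), `o2_le_O`;
* `Zf.char2` (`T ≠ ∅`), `ZJ_le_zc`, `EE_le_zc`, **`E_el`**, **`E_le_O`** (`E = ⟨ZJ^H⟩`, `H ≤ C_T`), `EI_el`;
* `Zf.YQ`, `Zf.o2_Y` : `O ∩ C(N_i) = O₂(Y_i)` for `D ≤ Y_i ≤ C_G(z_l : l ≠ i)`, `N_i = ⟨z_i^(Y_i)⟩`;
* `Zf.syl_Y` : `B` is Sylow in `C_G(z_l : l ≠ i)`.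
-/

set_option autoImplicit false
set_option linter.unusedSectionVars false

namespace Cfsg.Agent.Omega.EDel

open Subgroup Cfsg Cfsg.Agent.ZN.ChoiceBase
open Cfsg.Agent.ZN (zc zl o2 jj)
open Cfsg.Agent.Omega.EK3 (CT mem_CT CT_mono)
open Cfsg.Agent.Omega.EK3.StarE (EE EE_le EE_mono le_EE norm_EE cj_le_EE)
open Cfsg.Agent.Omega.NO3S.EThree
open Cfsg.Agent.Omega.NO3S.EThree.Frame (Fg)
open Cfsg.Agent.Omega.OM.Lev.Uni (FrL)
open Cfsg.Agent.Omega.OM.LevD (LB)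
open Cfsg.Agent.ZN.ChoiceSit (Syl)
open scoped commutatorElement

universe u

variable {G : Type u} [Group G]

/-- The conjugates of `Z ≤ Ω₁Z(Q)` under `H ≤ N(Q)` are in `Ω₁Z(Q)`. -/
theorem EE_le_zc' {Z H Q : Subgroup G} (hZ : Z ≤ zc Q) (hH : H ≤ normalizer (Q : Set G)) : EE Z H ≤ zc Q := by
  refine EE_le fun p hp => ?_
  have h1 : cj p (zc Q) = zc Q := by
    rw [← LemmaK.Main.zc_cj, cj_eq_of_mem_normalizer (hH hp)]
  rw [← h1]
  exact cj_mono p hZ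

theorem eab_of_le_zc {E Q : Subgroup G} (h : E ≤ zc Q) : IsElementaryAbelian 2 E := by
  refine ⟨⟨⟨fun x y => Subtype.ext ?_⟩⟩, fun x hx => (mem_zc.1 (h hx)).2.1⟩
  exact ((mem_zc.1 (h x.2)).2.2 y (mem_zc.1 (h y.2)).1).symm

theorem mem_sup_of_norm {C T : Subgroup G} (h : T ≤ normalizer (C : Set G)) {x : G} (hx : x ∈ T ⊔ C) :
    ∃ t ∈ T, ∃ c ∈ C, x = t * c := by
  rw [← SetLike.mem_coe, coe_mul_of_left_le_normalizer_right T C h] at hx
  obtain ⟨t, ht, c, hc, e⟩ := Set.mem_mul.1 hx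
  exact ⟨t, ht, c, hc, e.symm⟩

/-- `ZJ = ∏ Z i` -/
theorem ZJ_le_iSup [Finite G] {ι : Type} [Finite ι] {B Q V ZJ : Subgroup G} {L W Z C : ι → Subgroup G} {q : ℕ}
    (h : Fg B Q V ZJ L W Z C q) : ZJ ≤ ⨆ i, Z i := by
  classical
  have : Fintype ι := Fintype.ofFinite ι
  have key : ∀ s : Finset ι, ∀ v ∈ ZJ, ∃ w ∈ (⨆ i, Z i), w⁻¹ * v ∈ ZJ ∧ ∀ i ∈ s, w⁻¹ * v ∈ C i := by
    intro s
    induction s using Finset.induction_on with
    | empty => exact fun v hv => ⟨1, one_mem _, by simpa using hv, fun i hi => by simp at hi⟩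
    | insert j s hj ih =>
      intro v hv
      obtain ⟨w, hw, hwV, hwC⟩ := ih v hv
      obtain ⟨a, ha, c, hc, hcJ, e⟩ := h.split_ZJ j hwV
      have e1 : (w * a)⁻¹ * v = a⁻¹ * (w⁻¹ * v) := by group
      have e2 : a⁻¹ * (w⁻¹ * v) = c := by rw [e]; group
      refine ⟨w * a, mul_mem hw ((le_iSup Z j) ha), by rw [e1, e2]; exact hcJ, fun i hi => ?_⟩
      rw [e1]
      rcases Finset.mem_insert.1 hi with rfl | hi
      · rw [e2]
        exact hc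
      · have hij : i ≠ j := fun e => hj (e ▸ hi)
        exact mul_mem (inv_mem (h.WjC i j hij ((h.blk j).ZV ha))) (hwC i hi)
  intro v hv
  obtain ⟨w, hw, hwV, hwC⟩ := key Finset.univ v hv
  have h1 := h.C0 (w⁻¹ * v) (h.ZJV hwV) fun i => hwC i (Finset.mem_univ i)
  have h2 : v = w := (inv_mul_eq_one.1 h1).symm
  rw [h2]
  exact hw

variable {ι : Type} {B Q V X ZJ : Subgroup G} {L W Z C A : ι → Subgroup G} {z : ι → G} {T : Set ι}

/-- **The setting of step (0).** -/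
structure Zf (B Q V X ZJ : Subgroup G) (L W Z C A : ι → Subgroup G) (z : ι → G) : Prop where
  hG : IsCharacteristicTwoType G
  fr : FrL B Q V X ZJ L W Z C A 2
  hz : ∀ i x, x ∈ Z i ↔ x = 1 ∨ x = z i
  Bp : IsPGroup 2 B
  syl : ∀ R : Subgroup G, R ≤ centralizer (ZJ : Set G) → IsPGroup 2 R → B ≤ R → R ≤ B
  uni : ∀ g ∈ normalizer (B : Set G), ∀ i, ∃ j, cj g (Z i) = Z j ∧ cj g (W i) ≤ W j ⊔ ZJ

/-- from a level `LB S K B ZJ` and UNI+ `UniI B ZJ L W` -/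
theorem Zf.of_lb [Finite G] {S : Sylow 2 G} {K : Subgroup G} (hG : IsCharacteristicTwoType G) (lb : LB S K B ZJ)
    (fr : FrL B Q V X ZJ L W Z C A 2) (hz : ∀ i x, x ∈ Z i ↔ x = 1 ∨ x = z i)
    (uni : NO3S.ESym.UniI B ZJ L W) : Zf B Q V X ZJ L W Z C A z where
  hG := hG
  fr := fr
  hz := hz
  Bp := lb.Bp
  syl R hR hR2 hBR := by
    have hSZ : (S : Subgroup G) ≤ normalizer (ZJ : Set G) :=
      (le_normalizer (H := (S : Subgroup G))).trans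
        (lb.nrm _ S.isPGroup' ((lb.KB.trans lb.eqB.le).trans inf_le_left))
    exact ((OM.WOneG.syl_B S lb.eqB hSZ).2.2 R hR hR2 hBR).le
  uni g hg i := by
    have hb : Node.MultiOf.FBl B (L i) (W i) :=
      ⟨⟨_, _, fr.blk i⟩, (fr.blk i).toBlock (fr.cardZ i) lb.Bp lb.weakNormal⟩
    obtain ⟨j, hj, -⟩ := uni _ _ (hb.conj hg)
    refine ⟨j, ?_, hj.le.trans le_sup_left⟩
    -- `Z i = [W i, B]`
    have e1 : cj g ⁅W i, B⁆ = ⁅cj g (W i), cj g B⁆ := Subgroup.map_commutator _ _ _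
    rw [← fr.comm_W i, e1, cj_eq_of_mem_normalizer hg, hj, fr.comm_W j]

namespace Zf

variable (h : Zf B Q V X ZJ L W Z C A z)
include h

theorem z_mem_Z (i : ι) : z i ∈ Z i := (h.hz i _).2 (Or.inr rfl)

theorem z_mem (i : ι) : z i ∈ ZJ := h.fr.Z_le i (h.z_mem_Z i)

theorem ZJ_sq {x : G} (hx : x ∈ ZJ) : x ^ 2 = 1 := SQ1.Bau.elem_sq h.fr.elX _ (h.fr.VX (h.fr.ZJV hx))

theorem ZJ_comm {x y : G} (hx : x ∈ ZJ) (hy : y ∈ ZJ) : x * y = y * x := h.fr.Vc (h.fr.ZJV hx) (h.fr.ZJV hy)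

theorem z_ne (i : ι) : z i ≠ 1 := by
  intro e
  have h1 : Z i = ⊥ := by
    rw [eq_bot_iff]
    intro x hx
    rcases (h.hz i x).1 hx with e1 | e1
    · exact mem_bot.2 e1
    · exact mem_bot.2 (e1.trans e)
  have h2 := h.fr.cardZ i
  rw [h1, card_bot] at h2
  omega

theorem B_le_D : B ≤ centralizer (ZJ : Set G) := by
  intro b hb
  rw [mem_centralizer_iff]
  exact fun v hv => (((h.fr.mem_ZJ v).1 hv).2 b hb).symm

theorem ZJ_le_D : ZJ ≤ centralizer (ZJ : Set G) := fun _ hx =>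
  mem_centralizer_iff.2 fun _ hy => h.ZJ_comm hy hx

theorem D_le_CT : centralizer (ZJ : Set G) ≤ CT z T := by
  refine centralizer_le ?_
  rintro _ ⟨l, -, rfl⟩
  exact h.z_mem l

/-- `L i ≤ C_T` for `i ∉ T` -/
theorem L_le_CT {i : ι} (hi : i ∉ T) : L i ≤ CT z T := by
  intro l hl
  rw [mem_CT]
  intro j hj
  have hij : i ≠ j := fun e => hi (e ▸ hj)
  exact h.fr.LC i l hl _ (h.z_mem j) (h.fr.WjC i j hij ((h.fr.blk j).ZV (h.z_mem_Z j)))

/-- `⟨D, L i⟩ ≤ C_T` for `i ∉ T` -/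
theorem DL_le_CT {i : ι} (hi : i ∉ T) : centralizer (ZJ : Set G) ⊔ L i ≤ CT z T :=
  sup_le h.D_le_CT (h.L_le_CT hi)

section fin

variable [Finite G] [Finite ι]

theorem mem_D {x : G} (hx : ∀ i, x * z i = z i * x) : x ∈ centralizer (ZJ : Set G) := by
  have h1 : ZJ ≤ centralizer ({x} : Set G) := by
    refine (ZJ_le_iSup (OM.Lev.Main.toFg h.fr)).trans (iSup_le fun i y hy => ?_)
    rw [mem_centralizer_singleton_iff]
    rcases (h.hz i y).1 hy with rfl | rfl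
    · simp
    · exact (hx i).symm
  rw [mem_centralizer_iff]
  exact fun y hy => mem_centralizer_singleton_iff.1 (h1 hy)

/-- `D = C_G(all z_l)` -/
theorem D_eq : centralizer (ZJ : Set G) = CT z Set.univ :=
  le_antisymm h.D_le_CT fun x hx => h.mem_D fun i => mem_CT.1 hx i (Set.mem_univ _)

/-- `O₂(L i)` centralises `W i`: a 2-subgroup of `B`, normalised by `L i`, centralises `W i`. -/
theorem cent_W {i : ι} {U : Subgroup G} (hU : U ≤ B) (hL : L i ≤ normalizer (U : Set G)) :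
    U ≤ centralizer (W i : Set G) := by
  -- `Z i ≤ C_{W i}(U)`, which is invariant under `L i`
  obtain ⟨k, hk, hs⟩ := (h.fr.blk i).sup
  have h2 : ⁅W i, B⁆ ≤ Z i := (h.fr.blk i).comm_le le_rfl
  have hZ : Z i ≤ centralizer (U : Set G) := fun x hx => mem_centralizer_iff.2 fun u hu =>
    (h.fr.blk i).cZ u (hU hu) x hx
  have hcj : cj k (Z i) ≤ centralizer (U : Set G) := by
    have h3 := cj_mono k hZ
    rwa [cj_centralizer, cj_eq_of_mem_normalizer (hL hk)] at h3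
  exact le_centralizer_iff.1 (hs.trans (sup_le (h2.trans hZ) ((cj_mono k h2).trans hcj)))

/-- **Step (0)**: an element of `O₂(C_T) ∩ N_G(B)` centralises `ZJ`. -/
theorem fix {t : G} (ht : t ∈ o2 (CT z T)) (htB : t ∈ normalizer (B : Set G)) :
    t ∈ centralizer (ZJ : Set G) := by
  set U := o2 (CT z T) with hU
  have hCTU : CT z T ≤ normalizer (U : Set G) := MinSimple.VModule.le_normalizer_o2 _
  have hBU : B ≤ normalizer (U : Set G) := (h.B_le_D.trans h.D_le_CT).trans hCTU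
  -- if `cj t (Z i) = Z j`, `i = j`, then `t` fixes `z i`
  have hfix : ∀ i, cj t (Z i) = Z i → t * z i = z i * t := by
    intro i hi
    have h1 : t * z i * t⁻¹ ∈ Z i := by
      rw [← hi]
      exact ⟨z i, h.z_mem_Z i, rfl⟩
    rcases (h.hz i _).1 h1 with h2 | h2
    · exact absurd (by simpa using h2) (h.z_ne i)
    · exact mul_inv_eq_iff_eq_mul.1 h2
  refine h.mem_D fun i => ?_
  by_cases hiT : i ∈ T
  · exact mem_CT.1 (Cfsg.Agent.ZN.o2_le _ ht) i hiT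
  obtain ⟨j, hj, hjW⟩ := h.uni t htB i
  by_cases hij : i = j
  · subst hij
    exact hfix i hj
  exfalso
  -- `U ∩ B` centralises `W i`
  have hL : L i ≤ normalizer ((U ⊓ B : Subgroup G) : Set G) := by
    have h1 : ∀ l ∈ L i, cj l (U ⊓ B) ≤ U ⊓ B := by
      rintro l hl _ ⟨x, hx, rfl⟩
      have hlU : l * x * l⁻¹ ∈ U := (mem_normalizer_iff.1 (hCTU (h.L_le_CT hiT hl)) x).1 hx.1
      have h2 : ((U ⊓ L i : Subgroup G)) ≤ B := by
        -- `B (U ∩ L i)` is a 2-subgroup of `L i` over `B`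
        have hn : B ≤ normalizer ((U ⊓ L i : Subgroup G) : Set G) := by
          intro b hb
          rw [mem_normalizer_iff_cj, cj_inf, cj_eq_of_mem_normalizer (hBU hb),
            cj_eq_of_mem_normalizer (le_normalizer ((h.fr.blk i).BL hb))]
        have h3 : IsPGroup 2 (B ⊔ (U ⊓ L i) : Subgroup G) :=
          IsPGroup.to_sup_of_normal_right' h.Bp ((MinSimple.VModule.o2_isPGroup _).to_le inf_le_left) hn
        have h4 := (h.fr.blk i).syl _ le_sup_left (sup_le (h.fr.blk i).BL inf_le_right) h3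
        rw [← h4]
        exact le_sup_right
      exact ⟨hlU, h2 ⟨hlU, (L i).mul_mem ((L i).mul_mem hl ((h.fr.blk i).BL hx.2)) ((L i).inv_mem hl)⟩⟩
    exact EK3.StarE.le_norm_of_cj_le h1
  have hUW : U ⊓ B ≤ centralizer (W i : Set G) := h.cent_W inf_le_right hL
  -- `U ∩ B` centralises `cj t (W i)`
  have htU : cj t (U ⊓ B) = U ⊓ B := by
    rw [cj_inf, cj_eq_of_mem_normalizer (le_normalizer ht), cj_eq_of_mem_normalizer htB]
  have hUW' : U ⊓ B ≤ centralizer (cj t (W i) : Set G) := by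
    have h1 := cj_mono t hUW
    rwa [htU, cj_centralizer] at h1
  -- `τ ∈ A i` moves `w ∈ W i`, centralises `cj t (W i) ≤ W j ZJ`
  have h4 := h.fr.Ane i
  push Not at h4
  obtain ⟨τ, hτ, w, hw, hne⟩ := h4
  have hτB := h.fr.AB i hτ
  have hτc : W j ⊔ ZJ ≤ centralizer ({τ} : Set G) := by
    refine sup_le (fun x hx => ?_) fun x hx => ?_
    · rw [mem_centralizer_singleton_iff]
      exact (h.fr.AC i τ hτ x (h.fr.WjC i j hij hx)).symm
    · rw [mem_centralizer_singleton_iff]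
      exact (((h.fr.mem_ZJ x).1 hx).2 τ hτB).symm
  -- `[t, τ] ∈ U ∩ B`
  have hc : t * τ * t⁻¹ * τ⁻¹ ∈ U ⊓ B := by
    refine ⟨?_, B.mul_mem ((mem_normalizer_iff.1 htB τ).1 hτB) (B.inv_mem hτB)⟩
    have e : t * τ * t⁻¹ * τ⁻¹ = t * (τ * t⁻¹ * τ⁻¹) := by group
    rw [e]
    exact mul_mem ht ((mem_normalizer_iff.1 (hBU hτB) _).1 (inv_mem ht))
  -- it centralises `cj t w`
  have hx : t * w * t⁻¹ ∈ cj t (W i) := ⟨w, hw, rfl⟩
  have h5 := mem_centralizer_iff.1 (hUW' hc) _ hx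
  have h6 := mem_centralizer_singleton_iff.1 (hτc (hjW hx))
  apply hne
  -- `(t w t⁻¹) (t τ t⁻¹ τ⁻¹) = (t τ t⁻¹ τ⁻¹) (t w t⁻¹)`
  have h7 : t * w * t⁻¹ * (t * τ * t⁻¹) = t * τ * t⁻¹ * (t * w * t⁻¹) := by
    have e1 : t * w * t⁻¹ * (t * τ * t⁻¹) = t * w * t⁻¹ * (t * τ * t⁻¹ * τ⁻¹) * τ := by group
    have e2 : t * τ * t⁻¹ * (t * w * t⁻¹) = t * τ * t⁻¹ * τ⁻¹ * (τ * (t * w * t⁻¹)) := by group
    rw [e1, h5, e2, mul_assoc, ← h6]
  have h8 : t * (w * τ) * t⁻¹ = t * (τ * w) * t⁻¹ := by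
    calc t * (w * τ) * t⁻¹ = t * w * t⁻¹ * (t * τ * t⁻¹) := by group
      _ = t * τ * t⁻¹ * (t * w * t⁻¹) := h7
      _ = t * (τ * w) * t⁻¹ := by group
  exact (mul_left_cancel (mul_right_cancel h8)).symm

/-- If every element of `O₂(Y) ∩ N_G(B)` centralises `ZJ`, then `O₂(Y) ≤ B` (`D ≤ Y`). -/
theorem o2_le_of {Y : Subgroup G} (hY : centralizer (ZJ : Set G) ≤ Y)
    (hp : ∀ t ∈ o2 Y, t ∈ normalizer (B : Set G) → t ∈ centralizer (ZJ : Set G)) : o2 Y ≤ B := by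
  have hB : B ≤ normalizer (o2 Y : Set G) := (h.B_le_D.trans hY).trans (MinSimple.VModule.le_normalizer_o2 _)
  have h1 : IsPGroup 2 (B ⊔ o2 Y : Subgroup G) :=
    IsPGroup.to_sup_of_normal_right' h.Bp (MinSimple.VModule.o2_isPGroup _) hB
  by_contra hcon
  obtain ⟨t, htX, htN, htB⟩ : ∃ t ∈ o2 Y, t ∈ normalizer (B : Set G) ∧ t ∉ B := by
    have h2 : B < B ⊔ o2 Y := lt_of_le_of_ne le_sup_left fun e => hcon (e ▸ le_sup_right)
    obtain ⟨y, hy, hyB, hyN⟩ := Involutions.BaerSuzuki.exists_mem_normalizer_of_lt h1 h2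
    obtain ⟨b, hb, t, ht, e⟩ := mem_sup_of_norm hB hy
    refine ⟨t, ht, ?_, fun htB => hyB (by rw [e]; exact mul_mem hb htB)⟩
    have e' : t = b⁻¹ * y := by rw [e]; group
    rw [e']
    exact mul_mem (inv_mem (le_normalizer hb)) hyN
  have h3 := hp t htX htN
  have h4 : IsPGroup 2 (B ⊔ zpowers t : Subgroup G) :=
    h1.to_le (sup_le le_sup_left ((zpowers_le.2 htX).trans le_sup_right))
  exact htB (h.syl _ (sup_le h.B_le_D (zpowers_le.2 h3)) h4 le_sup_left (le_sup_right (a := B) (mem_zpowers t)))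

/-- **`O₂(C_T) ≤ B`** -/
theorem o2_le_B : o2 (CT z T) ≤ B := h.o2_le_of h.D_le_CT fun _ ht htB => h.fix ht htB

theorem o2_le_D : o2 (CT z T) ≤ centralizer (ZJ : Set G) := h.o2_le_B.trans h.B_le_D

/-- `O₂(C_T) ≤ O₂(Y)` for `D ≤ Y ≤ C_T` -/
theorem o2_le_o2 {Y : Subgroup G} (hY : centralizer (ZJ : Set G) ≤ Y) (hYT : Y ≤ CT z T) : o2 (CT z T) ≤ o2 Y :=
  MinSimple.Basic.o2_normal_le_o2 (h.o2_le_D.trans hY) hYT

/-- `O₂(C_T) ≤ O` -/
theorem o2_le_O : o2 (CT z T) ≤ o2 (centralizer (ZJ : Set G)) := h.o2_le_o2 le_rfl h.D_le_CT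

/-- `C_T` has characteristic 2 for `T ≠ ∅` -/
theorem char2 (hT : T.Nonempty) : CT z T ⊓ centralizer (o2 (CT z T) : Set G) ≤ o2 (CT z T) := by
  have e : CT z T = centralizer ((closure (z '' T) : Subgroup G) : Set G) := (centralizer_closure _).symm
  have hle : closure (z '' T) ≤ ZJ := by
    rw [closure_le]
    rintro _ ⟨l, -, rfl⟩
    exact h.z_mem l
  rw [e]
  refine NOne.LemmaT.char2_centralizer h.hG (fun x => ⟨1, ?_⟩) ?_
  · have h2 := h.ZJ_sq (hle x.2)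
    exact Subtype.ext (by simpa using h2)
  · obtain ⟨l, hl⟩ := hT
    intro e1
    have h1 : z l ∈ closure (z '' T) := subset_closure ⟨l, hl, rfl⟩
    rw [e1, mem_bot] at h1
    exact h.z_ne l h1

theorem ZJ_le_zc (hT : T.Nonempty) : ZJ ≤ zc (o2 (CT z T)) := by
  have h1 : ZJ ≤ centralizer (o2 (CT z T) : Set G) := le_centralizer_iff.1 h.o2_le_D
  intro x hx
  exact mem_zc.2 ⟨h.char2 hT ⟨h.D_le_CT (h.ZJ_le_D hx), h1 hx⟩, h.ZJ_sq hx, fun y hy =>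
    mem_centralizer_iff.1 (h1 hx) y hy⟩

/-- `⟨ZJ^H⟩ ≤ Ω₁Z(O₂(C_T))` for `H ≤ C_T` -/
theorem EE_le_zc (hT : T.Nonempty) {H : Subgroup G} (hH : H ≤ CT z T) : EE ZJ H ≤ zc (o2 (CT z T)) :=
  EE_le_zc' (h.ZJ_le_zc hT) (hH.trans (MinSimple.VModule.le_normalizer_o2 _))

theorem EE_le_o2 (hT : T.Nonempty) {H : Subgroup G} (hH : H ≤ CT z T) : EE ZJ H ≤ o2 (CT z T) :=
  fun _ hx => (mem_zc.1 (h.EE_le_zc hT hH hx)).1

/-- **`⟨ZJ^H⟩` is elementary abelian** for `H ≤ C_T`, `T ≠ ∅`. -/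
theorem E_el (hT : T.Nonempty) {H : Subgroup G} (hH : H ≤ CT z T) : IsElementaryAbelian 2 (EE ZJ H) :=
  eab_of_le_zc (h.EE_le_zc hT hH)

/-- **`⟨ZJ^H⟩ ≤ O`** for `H ≤ C_T`, `T ≠ ∅`. -/
theorem E_le_O (hT : T.Nonempty) {H : Subgroup G} (hH : H ≤ CT z T) : EE ZJ H ≤ o2 (centralizer (ZJ : Set G)) :=
  (h.EE_le_o2 hT hH).trans h.o2_le_O

/-- `⟨ZJ^H⟩ ≤ O₂(Y)` for `H ≤ C_T`, `D ≤ Y ≤ C_T`, `T ≠ ∅`. -/
theorem E_le_o2 (hT : T.Nonempty) {H Y : Subgroup G} (hH : H ≤ CT z T) (hY : centralizer (ZJ : Set G) ≤ Y)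
    (hYT : Y ≤ CT z T) : EE ZJ H ≤ o2 Y := (h.EE_le_o2 hT hH).trans (h.o2_le_o2 hY hYT)

section Y

variable {Y : ι → Subgroup G} (hYT : ∀ i, Y i ≤ CT z ({i} : Set ι)ᶜ)
include hYT

omit h [Finite G] [Finite ι] in
/-- `⟨Y i : i ∈ Δ⟩ ≤ C_T`, `T` disjoint from `Δ` -/
theorem iSup_le_CT {κ : Sort*} {f : κ → ι} (hf : ∀ k, f k ∉ T) : (⨆ k, Y (f k)) ≤ CT z T :=
  iSup_le fun k => (hYT _).trans (CT_mono fun l hl => by
    rw [Set.mem_compl_iff, Set.mem_singleton_iff]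
    rintro rfl
    exact hf k hl)

/-- the form for a proper subset `I` of the index set (helper7's `CoreS.EI`) -/
theorem EI_el {I : Set ι} (hI : I ≠ Set.univ) : IsElementaryAbelian 2 (EE ZJ (⨆ i : I, Y i)) ∧
    EE ZJ (⨆ i : I, Y i) ≤ o2 (centralizer (ZJ : Set G)) := by
  have hT : (Iᶜ : Set ι).Nonempty := Set.nonempty_compl.2 hI
  have hH : (⨆ i : I, Y i) ≤ CT z Iᶜ := iSup_le_CT hYT (f := fun i : I => (i : ι)) fun i hi => hi i.2
  exact ⟨h.E_el hT hH, h.E_le_O hT hH⟩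

end Y

/-- `C_{Y}(N) ≤ D` for `Y ≤ C_G(z_l : l ≠ i)`, `z_i ∈ N` -/
theorem cent_le_D {i : ι} {Y N : Subgroup G} (hYT : Y ≤ CT z ({i} : Set ι)ᶜ) (hN : z i ∈ N) :
    Y ⊓ centralizer (N : Set G) ≤ centralizer (ZJ : Set G) := by
  intro x hx
  refine h.mem_D fun l => ?_
  by_cases hl : l = i
  · rw [hl]
    exact (mem_centralizer_iff.1 hx.2 _ hN).symm
  · exact mem_CT.1 (hYT hx.1) l hl

omit h [Finite ι] in
theorem z_mem_EE (i : ι) (Y : Subgroup G) : z i ∈ EE (zpowers (z i)) Y := le_EE _ _ (mem_zpowers _)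

theorem N_le_EE (i : ι) (Y : Subgroup G) : EE (zpowers (z i)) Y ≤ EE ZJ Y :=
  EE_le fun _ hy => (cj_mono _ (zpowers_le.2 (h.z_mem i))).trans (cj_le_EE hy)

theorem N_ne (i : ι) (Y : Subgroup G) : EE (zpowers (z i)) Y ≠ ⊥ := by
  intro e
  have h1 := z_mem_EE (z := z) i Y
  rw [e, mem_bot] at h1
  exact h.z_ne i h1

/-- `O ∩ C(N) ≤ O₂(Y)` for `D ≤ Y ≤ C_G(z_l : l ≠ i)`, `z_i ∈ N`, `Y ≤ N_G(N)` -/
theorem inf_le_o2 {i : ι} {Y N : Subgroup G} (hDY : centralizer (ZJ : Set G) ≤ Y) (hYT : Y ≤ CT z ({i} : Set ι)ᶜ)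
    (hN : z i ∈ N) (hYN : Y ≤ normalizer (N : Set G)) :
    o2 (centralizer (ZJ : Set G)) ⊓ centralizer (N : Set G) ≤ o2 Y ∧
      Y ≤ normalizer ((o2 (centralizer (ZJ : Set G)) ⊓ centralizer (N : Set G) : Subgroup G) : Set G) := by
  have hO : o2 (centralizer (ZJ : Set G)) ≤ Y := (Cfsg.Agent.ZN.o2_le _).trans hDY
  have hCD : Y ⊓ centralizer (N : Set G) ≤ centralizer (ZJ : Set G) := h.cent_le_D hYT hN
  have hCN : ∀ y ∈ Y, cj y (Y ⊓ centralizer (N : Set G)) = Y ⊓ centralizer (N : Set G) := by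
    intro y hy
    rw [cj_inf, cj_centralizer, cj_eq_of_mem_normalizer (hYN hy), cj_eq_of_mem_normalizer (le_normalizer hy)]
  have h1 : o2 (centralizer (ZJ : Set G)) ⊓ centralizer (N : Set G) = o2 (Y ⊓ centralizer (N : Set G)) := by
    apply le_antisymm
    · refine MinSimple.VModule.le_o2 (le_inf (inf_le_left.trans hO) inf_le_right)
        ((MinSimple.VModule.o2_isPGroup _).to_le inf_le_left) fun c hc => ?_
      rw [mem_normalizer_iff_cj, cj_inf, cj_centralizer, cj_eq_of_mem_normalizer (hYN hc.1),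
        cj_eq_of_mem_normalizer (MinSimple.VModule.le_normalizer_o2 _ (hCD hc))]
    · refine le_inf ?_ ((Cfsg.Agent.ZN.o2_le _).trans inf_le_right)
      refine MinSimple.VModule.le_o2 ((Cfsg.Agent.ZN.o2_le _).trans hCD) (MinSimple.VModule.o2_isPGroup _)
        fun d hd => ?_
      rw [mem_normalizer_iff_cj, ← ZN.ChoiceSit.o2_cj, hCN d (hDY hd)]
  have h2 : Y ≤ normalizer ((o2 (centralizer (ZJ : Set G)) ⊓ centralizer (N : Set G) : Subgroup G) : Set G) := by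
    intro y hy
    rw [h1, mem_normalizer_iff_cj, ← ZN.ChoiceSit.o2_cj, hCN y hy]
  exact ⟨MinSimple.VModule.le_o2 (inf_le_left.trans hO) ((MinSimple.VModule.o2_isPGroup _).to_le inf_le_left) h2, h2⟩

/-- **YQ** -/
theorem YQ {i : ι} {Y : Subgroup G} (hDY : centralizer (ZJ : Set G) ≤ Y) (hYT : Y ≤ CT z ({i} : Set ι)ᶜ) :
    Y ≤ normalizer ((o2 (centralizer (ZJ : Set G)) ⊓ centralizer (EE (zpowers (z i)) Y : Set G) : Subgroup G) :
      Set G) :=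
  (h.inf_le_o2 hDY hYT (z_mem_EE i Y) (norm_EE _ _)).2

/-- **`O₂(Y_i) = C_O(N_i)`** (at least two indices) -/
theorem o2_Y {i : ι} {Y : Subgroup G} (hDY : centralizer (ZJ : Set G) ≤ Y) (hYT : Y ≤ CT z ({i} : Set ι)ᶜ)
    (h2 : ∃ l, l ≠ i) (hoY : o2 Y ≤ B) :
    o2 (centralizer (ZJ : Set G)) ⊓ centralizer (EE (zpowers (z i)) Y : Set G) = o2 Y := by
  refine le_antisymm (h.inf_le_o2 hDY hYT (z_mem_EE i Y) (norm_EE _ _)).1 ?_
  have hT : (({i} : Set ι)ᶜ).Nonempty := h2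
  refine le_inf (MinSimple.Basic.o2_normal_le_o2 (hoY.trans h.B_le_D) hDY) (le_centralizer_iff.1 ?_)
  -- `z i` centralises `O₂(Y) ≤ B`
  have h3 : zpowers (z i) ≤ centralizer (o2 Y : Set G) :=
    (zpowers_le.2 (h.z_mem i)).trans (le_centralizer_iff.1 (hoY.trans h.B_le_D))
  refine EE_le fun y hy => ?_
  have h4 := cj_mono y h3
  rwa [cj_centralizer, cj_eq_of_mem_normalizer (MinSimple.VModule.le_normalizer_o2 _ hy)] at h4

/-- an element of `N_G(B)` which centralises all `z_l`, `l ≠ i`, is in `D` -/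
theorem norm_inf_le (i : ι) : normalizer (B : Set G) ⊓ CT z ({i} : Set ι)ᶜ ≤ centralizer (ZJ : Set G) := by
  intro g hg
  have hl : ∀ l, l ≠ i → g * z l = z l * g := fun l hl => mem_CT.1 hg.2 l hl
  refine h.mem_D fun l => ?_
  by_cases hli : l = i
  · subst hli
    obtain ⟨j, hj, -⟩ := h.uni g hg.1 l
    have h1 : g * z l * g⁻¹ ∈ Z j := by
      rw [← hj]
      exact ⟨z l, h.z_mem_Z l, rfl⟩
    rcases (h.hz j _).1 h1 with h2 | h2
    · exact absurd (by simpa using h2) (h.z_ne l)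
    · by_cases hjl : j = l
      · rw [hjl] at h2
        exact mul_inv_eq_iff_eq_mul.1 h2
      · -- `g z_l g⁻¹ = z_j = g z_j g⁻¹`
        have h3 : g * z j * g⁻¹ = z j := by rw [hl j hjl]; group
        have h4 : z l = z j := by
          have := h2.trans h3.symm
          exact mul_left_cancel (mul_right_cancel this)
        rw [h4]
        exact hl j hjl
  · exact hl l hli

/-- `B` is a Sylow 2-subgroup of every `Y` between `B` and `C_G(z_l : l ≠ i)`. -/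
theorem syl_Y {i : ι} {R : Subgroup G} (hR : R ≤ CT z ({i} : Set ι)ᶜ) (hR2 : IsPGroup 2 R) (hBR : B ≤ R) : R ≤ B := by
  by_contra hcon
  have h2 : B < R := lt_of_le_of_ne hBR fun e => hcon (e ▸ le_rfl)
  obtain ⟨y, hy, hyB, hyN⟩ := Involutions.BaerSuzuki.exists_mem_normalizer_of_lt hR2 h2
  have h3 : y ∈ centralizer (ZJ : Set G) := h.norm_inf_le i ⟨hyN, hR hy⟩
  have h4 : IsPGroup 2 (B ⊔ zpowers y : Subgroup G) := hR2.to_le (sup_le hBR (zpowers_le.2 hy))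
  exact hyB (h.syl _ (sup_le h.B_le_D (zpowers_le.2 h3)) h4 le_sup_left (le_sup_right (a := B) (mem_zpowers y)))

theorem Syl_Y {i : ι} {Y : Subgroup G} (hDY : centralizer (ZJ : Set G) ≤ Y) (hYT : Y ≤ CT z ({i} : Set ι)ᶜ) :
    Syl B Y :=
  ⟨h.B_le_D.trans hDY, h.Bp, fun _ hR hR2 hBR => le_antisymm (h.syl_Y (hR.trans hYT) hR2 hBR) hBR⟩

/-- `O₂(Y) ≤ B` for `D ≤ Y ≤ C_G(z_l : l ≠ i)` -/
theorem o2_Y_le_B {i : ι} {Y : Subgroup G} (hDY : centralizer (ZJ : Set G) ≤ Y) (hYT : Y ≤ CT z ({i} : Set ι)ᶜ) :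
    o2 Y ≤ B :=
  h.o2_le_of hDY fun _ ht htB => h.norm_inf_le i ⟨htB, hYT (Cfsg.Agent.ZN.o2_le _ ht)⟩

/-- a normal subgroup of `Y` inside `D` centralises `N = ⟨z_i^Y⟩` -/
theorem le_cent_N {i : ι} {Y K : Subgroup G} (hK : K ≤ centralizer (ZJ : Set G)) (hYK : Y ≤ normalizer (K : Set G)) :
    K ≤ centralizer (EE (zpowers (z i)) Y : Set G) := by
  have h3 : zpowers (z i) ≤ centralizer (K : Set G) :=
    (zpowers_le.2 (h.z_mem i)).trans (le_centralizer_iff.1 hK)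
  refine le_centralizer_iff.1 (EE_le fun y hy => ?_)
  have h4 := cj_mono y h3
  rwa [cj_centralizer, cj_eq_of_mem_normalizer (hYK hy)] at h4

end fin

end Zf

end Cfsg.Agent.Omega.EDel
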